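import Cfsg.Agent.Lib.QuadraticPair.Words
import Cfsg.Agent.Lib.Forms.DicksonField

/-!
# Finite fields: the words are all of `SL₂`
-/

set_option linter.all false
set_option autoImplicit false
set_option maxHeartbeats 1000000

namespace Cfsg.Agent.QuadraticPair.Generic

open Polynomial Matrix MulAction OnePoint Cfsg.Agent.Forms
open scoped Classical

variable {k : Type*} [Field k] {F : Type*} [Field F]

theorem uniSL_eq (c : F) : Classical.GL2.uniSL c = up c := rfl

theorem lowSL_eq (c : F) : Classical.GL2.lowSL c = low c := rfl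

theorem eq_top_of_up_low (M : Subgroup (Matrix.SpecialLinearGroup (Fin 2) F)) (hu : ∀ c, up c ∈ M)
    (hl : ∀ c, low c ∈ M) : M = ⊤ :=
  DicksonField.eq_top_of_uni_low M hu hl

theorem pow_succ_p (p : ℕ) {G : Type*} [Group G] {a : G} (ha : a ^ p = 1) : a ^ (p + 1) = a := by
  rw [pow_succ, ha, one_mul]

/-- The `p + 1` power removes a sign. -/
theorem mem_of_pm (p : ℕ) [Fact p.Prime] [CharP F p] (hp : p ≠ 2) {H : Subgroup (Matrix.SpecialLinearGroup (Fin 2) F)}
    {a : Matrix.SpecialLinearGroup (Fin 2) F} (ha : a ^ p = 1) (h : a ∈ H ∨ -a ∈ H) : a ∈ H := by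
  rcases h with h | h
  · exact h
  have he : Even (p + 1) := ((Fact.out : p.Prime).odd_of_ne_two hp).add_one
  have := pow_mem h (p + 1)
  rwa [he.neg_pow, pow_succ_p p ha] at this

theorem up_pow_p (p : ℕ) [CharP F p] (a : F) : up a ^ p = 1 := by
  rw [← up_nsmul, nsmul_eq_mul, CharP.cast_eq_zero, zero_mul, up_zero]

theorem low_pow_p (p : ℕ) [CharP F p] (a : F) : low a ^ p = 1 := by
  rw [← low_nsmul, nsmul_eq_mul, CharP.cast_eq_zero, zero_mul, low_zero]

/-- Normal subgroups of `SL₂` over a finite field. -/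
theorem normal_eq_top [Fintype F] (h4 : 4 ≤ Nat.card F) (h2 : (2 : F) ≠ 0)
    (N : Subgroup (Matrix.SpecialLinearGroup (Fin 2) F)) [N.Normal]
    (hN : ∃ h ∈ N, KleinPSL.pi F h ≠ 1) : N = ⊤ := by
  haveI hs : IsSimpleGroup (Matrix.ProjectiveSpecialLinearGroup (Fin 2) F) :=
    Classical.Linear.isSimpleGroup_PSL_fin le_rfl fun _ => by rwa [← Nat.card_eq_fintype_card]
  have hn : (N.map (KleinPSL.pi F)).Normal := Subgroup.Normal.map inferInstance _ KleinPSL.pi_surjective
  have htop : N.map (KleinPSL.pi F) = ⊤ := by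
    rcases hn.eq_bot_or_eq_top with h | h
    · obtain ⟨g, hg, hg1⟩ := hN
      exact absurd (Subgroup.mem_bot.1 (h ▸ Subgroup.mem_map_of_mem (KleinPSL.pi F) hg)) hg1
    · exact h
  obtain ⟨p, hpc⟩ := CharP.exists F
  haveI := hpc
  haveI hp : Fact p.Prime := ⟨CharP.char_is_prime F p⟩
  have hp2 : p ≠ 2 := fun e => h2 (by subst e; exact_mod_cast CharP.cast_eq_zero F 2)
  have key : ∀ a : Matrix.SpecialLinearGroup (Fin 2) F, a ^ p = 1 → a ∈ N := by
    intro a ha
    obtain ⟨n, hn, e⟩ := htop.ge (Subgroup.mem_top (KleinPSL.pi F a))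
    refine mem_of_pm p hp2 ha ?_
    rcases KleinPSL.pi_eq_iff.1 e with rfl | rfl
    · exact Or.inl hn
    · exact Or.inr hn
  exact eq_top_of_up_low N (fun c => key _ (up_pow_p p c)) (fun c => key _ (low_pow_p p c))

variable [Algebra k F] [Finite F]

/-- The words are everything over a finite field. -/
theorem words_field_eq_top (h2 : (2 : k) ≠ 0) (h3 : Nat.card k ≠ 3) {x : F} (hx : x ≠ 0)
    (hgen : Function.Surjective (aeval x : k[X] → F)) : words k x = ⊤ := by
  classical
  haveI : Fintype F := Fintype.ofFinite F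
  letI : DecidableEq (AlgebraicClosure F) := Classical.decEq _
  obtain ⟨p, hpc⟩ := CharP.exists F
  haveI := hpc
  haveI hp : Fact p.Prime := ⟨CharP.char_is_prime F p⟩
  have h2F : (2 : F) ≠ 0 := (two_isUnit h2).ne_zero
  have hp2 : p ≠ 2 := fun e => h2F (by subst e; exact_mod_cast CharP.cast_eq_zero F 2)
  set W := words k x with hW
  set π := KleinPSL.pi F with hπ
  set H := W.map π with hH
  set hT := (DicksonAction.twoPt (F := F) p).subgroup H with hTdef
  have hu : ∀ c : k, π (up (algebraMap k F c)) ∈ H := fun c => Subgroup.mem_map_of_mem _ (up_mem x c)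
  have hl : ∀ c : k, π (low (algebraMap k F c * x)) ∈ H := fun c => Subgroup.mem_map_of_mem _ (low_mem x c)
  have ord_up : ∀ a : F, a ≠ 0 → orderOf (π (up a)) = p := fun a ha => by
    refine orderOf_eq_prime ?_ fun e => ?_
    · rw [← map_pow, up_pow_p p a, map_one]
    · rcases KleinPSL.pi_eq_one.1 e with h | h <;>
        simpa [ha] using congrArg (fun g : Matrix.SpecialLinearGroup (Fin 2) F => g 0 1) h
  have ord_low : ∀ a : F, a ≠ 0 → orderOf (π (low a)) = p := fun a ha => by
    refine orderOf_eq_prime ?_ fun e => ?_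
    · rw [← map_pow, low_pow_p p a, map_one]
    · rcases KleinPSL.pi_eq_one.1 e with h | h <;>
        simpa [ha] using congrArg (fun g : Matrix.SpecialLinearGroup (Fin 2) F => g 1 0) h
  have hu1 : π (up (1 : F)) ∈ H := by simpa using hu 1
  have hl1 : π (low x) ∈ H := by simpa using hl 1
  let u : H := ⟨_, hu1⟩
  let v : H := ⟨_, hl1⟩
  have hou : orderOf u = p := by rw [← Subgroup.orderOf_coe]; exact ord_up 1 one_ne_zero
  have hov : orderOf v = p := by rw [← Subgroup.orderOf_coe]; exact ord_low x hx
  set O : OnePoint (AlgebraicClosure F) := ∞ with hO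
  set Z : OnePoint (AlgebraicClosure F) := ((0 : AlgebraicClosure F) : OnePoint (AlgebraicClosure F)) with hZ
  have upO : ∀ a : F, π (up a) • O = O := fun a => (DicksonAction.smul_infty_iff _).2 (by simp)
  have lowZ : ∀ a : F, π (low a) • Z = Z := fun a => (DicksonAction.smul_coe_iff _ _).2 (by simp)
  have hvO : v • O ≠ O := fun e => hx (by simpa using (DicksonAction.smul_infty_iff (low x)).1 e)
  have hpu : u ∈ hT.pSub O := ⟨upO 1, by rw [← hou, pow_orderOf_eq_one]⟩
  have hpv : v ∈ hT.pSub Z := ⟨lowZ x, by rw [← hov, pow_orderOf_eq_one]⟩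
  have hpO : hT.pSub O ≠ ⊥ := fun e => by
    rw [e, Subgroup.mem_bot] at hpu
    rw [hpu, orderOf_one] at hou; exact hp.out.one_lt.ne hou
  have hpZ : hT.pSub Z ≠ ⊥ := fun e => by
    rw [e, Subgroup.mem_bot] at hpv
    rw [hpv, orderOf_one] at hov; exact hp.out.one_lt.ne hov
  have htr : ∃ y, DicksonModular.Transitive' hT y := by
    rcases DicksonModular.classify_modular hT hou with ⟨y, -, hy⟩ | ⟨c, -, hcp, ⟨e⟩⟩ | ⟨hp3, ⟨e⟩⟩ | h
    · exact absurd (by rw [← hT.eq_of_fix hou hpu.1 (hy u)]; exact hy v) hvO
    · exfalso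
      have hrot : ∀ g : H, orderOf g = p → ∃ i, e g = DihedralGroup.r i := fun g hg => by
        cases hi : e g with
        | r i => exact ⟨i, rfl⟩
        | sr i =>
          have : orderOf (e g) = p := by rw [MulEquiv.orderOf_eq, hg]
          rw [hi, DihedralGroup.orderOf_sr] at this
          exact absurd this.symm hp2
      obtain ⟨i, hi⟩ := hrot u hou
      obtain ⟨j, hj⟩ := hrot v hov
      have hc : Commute v u := e.injective (by simp [hi, hj, add_comm])
      exact hvO (hT.cent_p hou hpu.1 hc).1
    · exfalso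
      let f : Multiplicative k →* H :=
        { toFun := fun c => ⟨π (up (algebraMap k F c.toAdd)), hu _⟩
          map_one' := Subtype.ext (by simp)
          map_mul' := fun c d => Subtype.ext (by simp [up_add]) }
      have hf : Function.Injective f := by
        rw [injective_iff_map_eq_one]
        intro c hc
        by_contra hne
        have hne' : algebraMap k F c.toAdd ≠ 0 := fun e => hne (toAdd_eq_zero.1 ((map_eq_zero _).1 e))
        have := ord_up _ hne'
        rw [show π (up (algebraMap k F c.toAdd)) = 1 from congrArg Subtype.val hc, orderOf_one] at this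
        exact hp.out.one_lt.ne this
      have hdvd := Subgroup.card_dvd_of_injective f hf
      haveI : Finite k := Finite.of_injective (algebraMap k F) (algebraMap k F).injective
      haveI : Fintype k := Fintype.ofFinite k
      haveI : CharP k p := (RingHom.charP_iff_charP (algebraMap k F) p).2 inferInstance
      obtain ⟨n, -, hn⟩ := FiniteField.card k p
      have hk : Nat.card (Multiplicative k) = 3 ^ (n : ℕ) := by
        rw [← hp3]
        exact (Nat.card_congr Multiplicative.toAdd).trans (by rw [Nat.card_eq_fintype_card, hn])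
      rw [hk, Nat.card_congr e.toEquiv, nat_card_alternatingGroup, Nat.card_fin] at hdvd
      have hn2 : 2 ≤ (n : ℕ) := by
        by_contra hlt
        have : (n : ℕ) = 1 := by have := n.pos; omega
        refine h3 ?_
        rw [Nat.card_eq_fintype_card, hn, this, hp3, pow_one]
      have := (pow_dvd_pow 3 hn2).trans hdvd
      norm_num [Nat.factorial] at this
    · exact h
  obtain ⟨y, hy, hcard, -⟩ := htr
  have card_at : ∀ z, hT.pSub z ≠ ⊥ → (orbit H z).ncard = Nat.card (hT.pSub z) + 1 := by
    intro z hz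
    obtain ⟨g, hg⟩ := hT.orbit_pSub hy hz
    rw [← hg, DicksonModular.natCard_pSub_smul hT, orbit_smul, hcard]
  -- the lower family fixes a point of the orbit
  have hZO : Z ∈ orbit H O := hT.orbit_pSub hpO hpZ
  have hOZ : O ∈ orbit H Z := hT.orbit_pSub hpZ hpO
  have inv_mem' : ∀ s : F, s ≠ 0 → up s ∈ W → low s⁻¹ ∈ W := by
    intro s hs hsW
    let g : H := ⟨π (up s), Subgroup.mem_map_of_mem _ hsW⟩
    have hS : g • Z ∈ orbit H Z := mem_orbit Z g
    have hne : g • Z ≠ Z := fun e => hs (by simpa using (DicksonAction.smul_coe_iff (up s) _).1 e)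
    have hOne : O ≠ Z := OnePoint.infty_ne_coe _
    obtain ⟨w, hw, hwO⟩ := DicksonModular.transitive_of_card hT (card_at Z hpZ) hOZ hS hOne hne
    obtain ⟨X, hXW, hX⟩ := w.2
    have hwZ : π X • Z = Z := by rw [hX]; exact hw.1
    have h01 : (X : Matrix (Fin 2) (Fin 2) F) 0 1 = 0 := by
      simpa using (DicksonAction.smul_coe_iff X _).1 hwZ
    have htrace : (X : Matrix (Fin 2) (Fin 2) F).trace * (X : Matrix (Fin 2) (Fin 2) F).trace = 4 := by
      by_cases h1 : π X = 1
      · rcases KleinPSL.pi_eq_one.1 h1 with rfl | rfl <;> simp [Matrix.trace_fin_two] <;> norm_num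
      · refine (DicksonAction.orderOf_iff p X h1).1 (orderOf_eq_prime ?_ h1)
        rw [hX]; exact congrArg Subtype.val hw.2
    have hd := X.det_coe
    rw [Matrix.det_fin_two, h01, zero_mul, sub_zero] at hd
    rw [Matrix.trace_fin_two] at htrace
    set a := (X : Matrix (Fin 2) (Fin 2) F) 0 0
    set d := (X : Matrix (Fin 2) (Fin 2) F) 1 1
    set c := (X : Matrix (Fin 2) (Fin 2) F) 1 0 with hc
    have had : a = d := by
      have : (a - d) * (a - d) = 0 := by linear_combination htrace - 4 * hd
      exact sub_eq_zero.1 (mul_self_eq_zero.1 this)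
    have ha2 : a * a = 1 := by rw [← had] at hd; exact hd
    have h1 : π X • O = π (up s) • Z := by rw [hX]; exact hwO
    rw [hπ, DicksonAction.pi_smul, DicksonAction.pi_smul, hO, hZ, smul_infty_eq_ite, smul_some_eq_ite] at h1
    simp [DicksonAction.glHom_apply] at h1
    obtain ⟨hc0, h1⟩ : c ≠ 0 ∧ a = s * c := by
      by_cases h : c = 0
      · simp [← hc, h] at h1
      · simp [← hc, h] at h1
        refine ⟨h, ?_⟩
        rw [← map_div₀, (algebraMap F (AlgebraicClosure F)).injective.eq_iff, div_eq_iff h] at h1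
        exact h1
    refine mem_of_pm p hp2 (low_pow_p p _) ?_
    rcases mul_self_eq_one_iff.1 ha2 with ha | ha
    · left
      rw [show low s⁻¹ = X from ?_]
      · exact hXW
      ext i j
      fin_cases i <;> fin_cases j <;> simp [h01, ← hc]
      · exact ha.symm
      · field_simp; linear_combination h1 - ha
      · exact (had.symm.trans ha).symm
    · right
      rw [show -low s⁻¹ = X from ?_]
      · exact hXW
      ext i j
      fin_cases i <;> fin_cases j <;> simp [h01, ← hc]
      · exact ha.symm
      · field_simp; linear_combination h1 - ha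
      · exact (had.symm.trans ha).symm
  set A := upSet W with hA
  have hk : ∀ c : k, algebraMap k F c ∈ A := fun c => up_mem x c
  have hA1 : (1 : F) ∈ A := by simpa using hk 1
  have hlow1 : low (-1 : F) ∈ W := by
    simpa using inv_mem' (-1) (neg_ne_zero.2 one_ne_zero) (A.neg_mem hA1)
  have hwel : (wel : Matrix.SpecialLinearGroup (Fin 2) F) ∈ W := mul_mem (mul_mem hA1 hlow1) hA1
  have hsq : ∀ s ∈ A, ∀ b ∈ A, s * s * b ∈ A := by
    intro s hs b hb
    rcases eq_or_ne s 0 with rfl | hs0
    · simp
    have hl' : low (-s⁻¹) ∈ W := by rw [← inv_neg]; exact inv_mem' _ (neg_ne_zero.2 hs0) (A.neg_mem hs)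
    have hd : up s * low (-s⁻¹) * up s * wel⁻¹ ∈ W := mul_mem (mul_mem (mul_mem hs hl') hs) (inv_mem hwel)
    set D := up s * low (-s⁻¹) * up s * wel⁻¹
    have hD : (D : Matrix (Fin 2) (Fin 2) F) = !![s, 0; 0, s⁻¹] := by
      have : D * wel = up s * low (-s⁻¹) * up s := by simp [D]
      have h' := congrArg (fun g : Matrix.SpecialLinearGroup (Fin 2) F => (g : Matrix (Fin 2) (Fin 2) F)) this
      simp only [Matrix.SpecialLinearGroup.coe_mul, coe_wel, coe_up, coe_low] at h'
      have e00 := congrFun (congrFun h' 0) 0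
      have e01 := congrFun (congrFun h' 0) 1
      have e10 := congrFun (congrFun h' 1) 0
      have e11 := congrFun (congrFun h' 1) 1
      simp [Matrix.mul_apply, Fin.sum_univ_two, hs0] at e00 e01 e10 e11
      ext i j
      fin_cases i <;> fin_cases j <;> simp [e00, e01, e10, e11]
    have h : D * up b * D⁻¹ = up (s * s * b) := by
      rw [mul_inv_eq_iff_eq_mul]
      ext i j
      fin_cases i <;> fin_cases j <;> simp [Matrix.mul_apply, Fin.sum_univ_two, hD]
      field_simp
    show up (s * s * b) ∈ W
    rw [← h]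
    exact mul_mem (mul_mem hd hb) (inv_mem hd)
  have h2m : ∀ a ∈ A, ∀ b ∈ A, 2 * a * b ∈ A := by
    intro a ha b hb
    have := A.sub_mem (A.sub_mem (hsq _ (A.add_mem ha hA1) b hb) (hsq a ha b hb)) hb
    convert this using 1; ring
  have hhalf : ∀ a ∈ A, a / 2 ∈ A := by
    intro a ha
    have := h2m _ (hk (4 : k)⁻¹) a ha
    convert this using 1
    rw [map_inv₀, map_ofNat, show (4 : F) = 2 * 2 by norm_num]
    field_simp
  have hmul : ∀ a ∈ A, ∀ b ∈ A, a * b ∈ A := by
    intro a ha b hb
    convert h2m _ (hhalf a ha) b hb using 1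
    field_simp
  have hxA : x ∈ A := by
    have := mul_mem (mul_mem hwel (low_mem x (-1 : k))) (inv_mem hwel)
    rw [conj_wel_low] at this
    simpa [hA, mem_upSet] using this
  have hall : ∀ r : F, up r ∈ W := by
    intro r
    obtain ⟨q, rfl⟩ := hgen r
    show aeval x q ∈ A
    induction q using Polynomial.induction_on' with
    | add f g hf hg => rw [map_add]; exact A.add_mem hf hg
    | monomial n c =>
      rw [aeval_monomial]
      refine hmul _ (hk c) _ ?_
      induction n with
      | zero => simpa using hA1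
      | succ n ih => rw [pow_succ]; exact hmul _ ih _ hxA
  exact eq_top_of_up_low W hall (low_of_up (isUnit_iff_ne_zero.2 hx) hall)

end Cfsg.Agent.QuadraticPair.Generic
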