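import Cfsg.Prelude.Def_RootSubgroups
import Mathlib

/-!
# Quadratic operators whose scalar family lies in a linear group

`Adm G x`: `x * x = 0` and all `1 + c • x` lie in `G`. `Min G x`: moreover of least positive rank.
-/

set_option linter.all false
set_option autoImplicit false

namespace Cfsg.Agent.QuadraticPair

open Cfsg

variable {k : Type*} [Field k] {M : Type*} [AddCommGroup M] [Module k M]


/-- The operator attached to a transformation. -/
abbrev op (g : LinearMap.GeneralLinearGroup k M) : Module.End k M := (g : Module.End k M) - 1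

/-- An admissible operator. -/
structure Adm (G : Subgroup (LinearMap.GeneralLinearGroup k M)) (x : Module.End k M) : Prop where
  sq : x * x = 0
  mem : ∀ c : k, ∃ g ∈ G, (g : Module.End k M) = 1 + c • x

/-- The unit `1 + c • x`. -/
def ex {x : Module.End k M} (h : x * x = 0) (c : k) : (LinearMap.GeneralLinearGroup k M) :=
  ⟨1 + c • x, 1 - c • x, by simp [add_mul, mul_sub, smul_mul_smul_comm, h],
    by simp [sub_mul, mul_add, smul_mul_smul_comm, h]⟩

@[simp] theorem coe_ex {x : Module.End k M} (h : x * x = 0) (c : k) :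
    ((ex h c : (LinearMap.GeneralLinearGroup k M)) : Module.End k M) = 1 + c • x := rfl

@[simp] theorem coe_ex_inv {x : Module.End k M} (h : x * x = 0) (c : k) :
    (((ex h c)⁻¹ : (LinearMap.GeneralLinearGroup k M)) : Module.End k M) = 1 - c • x := rfl

variable {G : Subgroup (LinearMap.GeneralLinearGroup k M)} {x y : Module.End k M}

theorem Adm.ex_mem (h : Adm G x) (c : k) : ex h.sq c ∈ G := by
  obtain ⟨g, hg, e⟩ := h.mem c
  rwa [show ex h.sq c = g from Units.ext e.symm]

theorem adm_of_mem (hsq : x * x = 0) (h : ∀ c : k, ex hsq c ∈ G) : Adm G x :=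
  ⟨hsq, fun c => ⟨_, h c, rfl⟩⟩

theorem adm_zero : Adm G 0 :=
  ⟨mul_zero _, fun c => ⟨1, one_mem _, by simp⟩⟩

theorem Adm.smul (h : Adm G x) (r : k) : Adm G (r • x) := by
  refine ⟨by rw [smul_mul_smul_comm, h.sq, smul_zero], fun c => ?_⟩
  obtain ⟨g, hg, e⟩ := h.mem (c * r)
  exact ⟨g, hg, by rw [e, smul_smul]⟩

theorem Adm.add (hx : Adm G x) (hy : Adm G y) (hxy : x * y = 0) (hyx : y * x = 0) : Adm G (x + y) := by
  refine ⟨by rw [add_mul, mul_add, mul_add, hx.sq, hy.sq, hxy, hyx]; simp, fun c => ?_⟩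
  refine ⟨ex hx.sq c * ex hy.sq c, mul_mem (hx.ex_mem c) (hy.ex_mem c), ?_⟩
  simp [add_mul, mul_add, smul_mul_smul_comm, hxy]
  abel

theorem Adm.conj (h : Adm G x) {g : (LinearMap.GeneralLinearGroup k M)} (hg : g ∈ G) :
    Adm G ((g : Module.End k M) * x * ((g⁻¹ : (LinearMap.GeneralLinearGroup k M)) : Module.End k M)) := by
  refine ⟨?_, fun c => ⟨g * ex h.sq c * g⁻¹, mul_mem (mul_mem hg (h.ex_mem c)) (inv_mem hg), ?_⟩⟩
  · calc (g : Module.End k M) * x * ((g⁻¹ : (LinearMap.GeneralLinearGroup k M)) : Module.End k M) *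
          ((g : Module.End k M) * x * ((g⁻¹ : (LinearMap.GeneralLinearGroup k M)) : Module.End k M))
        = (g : Module.End k M) * x * (((g⁻¹ * g : (LinearMap.GeneralLinearGroup k M))) : Module.End k M) * x *
            ((g⁻¹ : (LinearMap.GeneralLinearGroup k M)) : Module.End k M) := by simp only [Units.val_mul, mul_assoc]
      _ = 0 := by rw [inv_mul_cancel, Units.val_one, mul_one, mul_assoc _ x x, h.sq, mul_zero, zero_mul]
  · simp only [Units.val_mul, coe_ex, mul_add, add_mul, mul_one, mul_smul_comm, smul_mul_assoc]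
    rw [← Units.val_mul, mul_inv_cancel, Units.val_one]

theorem adm_op {g : (LinearMap.GeneralLinearGroup k M)} (h : g ∈ quadraticElements G) : Adm G (op g) :=
  adm_of_mem h.2.1.1 fun c => h.2.2 ⟨c, rfl⟩

theorem op_ex {x : Module.End k M} (h : x * x = 0) (c : k) : op (ex h c) = c • x := by simp [op]

theorem quadraticElements_ex (h : Adm G x) (hx : x ≠ 0) {c : k} (hc : c ≠ 0) :
    ex h.sq c ∈ quadraticElements G := by
  refine ⟨h.ex_mem c, ?_, ?_⟩
  · refine ⟨?_, ?_⟩
    · simp [smul_mul_smul_comm, h.sq]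
    · simp [hc, hx]
  · rintro τ ⟨d, hd⟩
    rw [show τ = ex h.sq (d * c) from Units.ext (by rw [hd]; simp [smul_smul])]
    exact h.ex_mem _

/-- The rank. -/
noncomputable abbrev rk (x : Module.End k M) : ℕ := Module.finrank k (LinearMap.range x)

/-- Admissible of least positive rank. -/
structure Min (G : Subgroup (LinearMap.GeneralLinearGroup k M)) (x : Module.End k M) : Prop extends Adm G x where
  ne : x ≠ 0
  min : ∀ y, Adm G y → y ≠ 0 → rk x ≤ rk y

theorem min_op {g : (LinearMap.GeneralLinearGroup k M)} (h : g ∈ minimalQuadraticElements G) : Min G (op g) := by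
  refine ⟨adm_op h.1, h.1.2.1.2, fun y hy hy0 => ?_⟩
  have := h.2 _ (quadraticElements_ex hy hy0 one_ne_zero)
  have e : rk (op g) ≤ rk (op (ex hy.sq (1 : k))) := this
  rwa [op_ex, one_smul] at e

theorem Min.mem_minimal (h : Min G x) {g : (LinearMap.GeneralLinearGroup k M)} (hg : (g : Module.End k M) = 1 + x) :
    g ∈ minimalQuadraticElements G := by
  have e : g = ex h.sq 1 := Units.ext (by simp [hg])
  subst e
  refine ⟨quadraticElements_ex h.toAdm h.ne one_ne_zero, fun τ hτ => ?_⟩
  have := h.min _ (adm_op hτ) hτ.2.1.2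
  show rk (op (ex h.sq (1 : k))) ≤ rk (op τ)
  rwa [op_ex, one_smul]

variable [FiniteDimensional k M]

theorem Min.zero_of_lt (h : Min G x) (hy : Adm G y) (hlt : rk y < rk x) : y = 0 := by
  by_contra h0
  exact absurd (h.min y hy h0) (not_le.2 hlt)

theorem range_le_ker (h : x * x = 0) : LinearMap.range x ≤ LinearMap.ker x := by
  rintro _ ⟨m, rfl⟩
  exact LinearMap.congr_fun h m

theorem Min.congr (h : Min G x) (hy : Adm G y) (hy0 : y ≠ 0) (hr : LinearMap.range y ≤ LinearMap.range x)
    (hk : LinearMap.ker x ≤ LinearMap.ker y) :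
    Min G y ∧ LinearMap.range y = LinearMap.range x ∧ LinearMap.ker y = LinearMap.ker x := by
  have e : LinearMap.range y = LinearMap.range x := Submodule.eq_of_le_of_finrank_le hr (h.min y hy hy0)
  refine ⟨⟨hy, hy0, fun z hz hz0 => ?_⟩, e, (Submodule.eq_of_le_of_finrank_eq hk ?_).symm⟩
  · show Module.finrank k (LinearMap.range y) ≤ _
    rw [e]; exact h.min z hz hz0
  · have h1 := LinearMap.finrank_range_add_finrank_ker x
    have h2 := LinearMap.finrank_range_add_finrank_ker y
    rw [e] at h2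
    omega

theorem Min.conj (h : Min G x) {g : (LinearMap.GeneralLinearGroup k M)} (hg : g ∈ G) :
    Min G ((g : Module.End k M) * x * ((g⁻¹ : (LinearMap.GeneralLinearGroup k M)) : Module.End k M)) := by
  set y := (g : Module.End k M) * x * ((g⁻¹ : (LinearMap.GeneralLinearGroup k M)) : Module.End k M) with hy
  have hx : x = ((g⁻¹ : (LinearMap.GeneralLinearGroup k M)) : Module.End k M) * y * (g : Module.End k M) := by
    calc x = ((g⁻¹ * g : (LinearMap.GeneralLinearGroup k M)) : Module.End k M) * x * ((g⁻¹ * g : (LinearMap.GeneralLinearGroup k M)) : Module.End k M) := by simp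
      _ = _ := by rw [hy]; simp only [Units.val_mul, mul_assoc]
  refine ⟨h.toAdm.conj hg, fun e => h.ne (by rw [hx, e]; simp), fun z hz hz0 => le_trans ?_ (h.min z hz hz0)⟩
  have e : LinearMap.range y = (LinearMap.range x).map (g : Module.End k M) := by
    rw [hy, Module.End.mul_eq_comp, Module.End.mul_eq_comp, LinearMap.range_comp_of_range_eq_top,
      LinearMap.range_comp]
    exact LinearMap.range_eq_top.2 fun m => ⟨(g : Module.End k M) m, by
      rw [← Module.End.mul_apply, ← Units.val_mul, inv_mul_cancel]; rfl⟩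
  show Module.finrank k (LinearMap.range y) ≤ _
  rw [e]
  exact Submodule.finrank_map_le _ _

/-- Admissible operators with the spaces of `x`. -/
def opSpace (h : Adm G x) : Submodule k (Module.End k M) where
  carrier := {y | Adm G y ∧ LinearMap.range y ≤ LinearMap.range x ∧ LinearMap.ker x ≤ LinearMap.ker y}
  zero_mem' := ⟨adm_zero, by simp, by simp⟩
  smul_mem' r y hy := ⟨hy.1.smul r, (by rintro _ ⟨m, rfl⟩; exact Submodule.smul_mem _ r (hy.2.1 ⟨m, rfl⟩)),
    fun m hm => by simp [LinearMap.mem_ker.1 (hy.2.2 hm)]⟩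
  add_mem' {y z} hy hz := by
    have hz0 : ∀ {y z : Module.End k M}, LinearMap.range z ≤ LinearMap.range x →
        LinearMap.ker x ≤ LinearMap.ker y → y * z = 0 := fun {y z} h1 h2 =>
      LinearMap.ext fun m => LinearMap.mem_ker.1 (h2 (range_le_ker h.sq (h1 ⟨m, rfl⟩)))
    refine ⟨hy.1.add hz.1 (hz0 hz.2.1 hy.2.2) (hz0 hy.2.1 hz.2.2), ?_, fun m hm => ?_⟩
    · rintro _ ⟨m, rfl⟩
      exact add_mem (hy.2.1 ⟨m, rfl⟩) (hz.2.1 ⟨m, rfl⟩)
    · simp [LinearMap.mem_ker.1 (hy.2.2 hm), LinearMap.mem_ker.1 (hz.2.2 hm)]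

theorem mem_opSpace {h : Adm G x} :
    y ∈ opSpace h ↔ Adm G y ∧ LinearMap.range y ≤ LinearMap.range x ∧ LinearMap.ker x ≤ LinearMap.ker y :=
  Iff.rfl

theorem self_mem_opSpace (h : Adm G x) : x ∈ opSpace h := ⟨h, le_rfl, le_rfl⟩

theorem two_ne (hk2 : ringChar k ≠ 2) : (2 : k) ≠ 0 := Ring.two_ne_zero hk2

theorem conj_ex {b : Module.End k M} (h : b * b = 0) (c : k) (y : Module.End k M) :
    ((ex h c : (LinearMap.GeneralLinearGroup k M)) : Module.End k M) * y * (((ex h c)⁻¹ : (LinearMap.GeneralLinearGroup k M)) : Module.End k M) =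
      y + c • (b * y - y * b) - (c * c) • (b * y * b) := by
  simp only [coe_ex, coe_ex_inv, add_mul, mul_sub, one_mul, mul_one, smul_mul_assoc, mul_smul_comm, smul_sub,
    smul_add, smul_smul, mul_assoc]
  abel

/-- An operator stabilizing both spaces centralizes the whole opSpace. -/
theorem commute_of_stab (hk2 : ringChar k ≠ 2) (h : Min G x) {b : Module.End k M} (hb : Adm G b)
    (hr : ∀ m ∈ LinearMap.range x, b m ∈ LinearMap.range x)
    (hker : ∀ m ∈ LinearMap.ker x, b m ∈ LinearMap.ker x) (hy : y ∈ opSpace h.toAdm) : b * y = y * b := by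
  have h2 := two_ne hk2
  have hconj : ∀ c : k, y + c • (b * y - y * b) - (c * c) • (b * y * b) ∈ opSpace h.toAdm := by
    intro c
    rw [← conj_ex hb.sq c y]
    refine ⟨hy.1.conj (hb.ex_mem c), ?_, fun m hm => ?_⟩
    · rintro _ ⟨m, rfl⟩
      have hu := hy.2.1 ⟨((((ex hb.sq c)⁻¹ : (LinearMap.GeneralLinearGroup k M))) : Module.End k M) m, rfl⟩
      simp only [Module.End.mul_apply, coe_ex, LinearMap.add_apply, Module.End.one_apply, LinearMap.smul_apply]
      exact add_mem hu (Submodule.smul_mem _ c (hr _ hu))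
    · have hm' : (((ex hb.sq c)⁻¹ : (LinearMap.GeneralLinearGroup k M)) : Module.End k M) m ∈ LinearMap.ker x := by
        simp only [coe_ex_inv, LinearMap.sub_apply, Module.End.one_apply, LinearMap.smul_apply]
        exact sub_mem hm (Submodule.smul_mem _ c (hker m hm))
      rw [LinearMap.mem_ker, Module.End.mul_apply, Module.End.mul_apply, LinearMap.mem_ker.1 (hy.2.2 hm'), map_zero]
  set δ := b * y - y * b with hδ
  set ε := b * y * b with hε
  have p1 := hconj 1
  have p2 := hconj (-1)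
  rw [one_smul, mul_one, one_smul] at p1
  rw [neg_mul_neg, mul_one, one_smul, neg_one_smul] at p2
  have hεm : ε ∈ opSpace h.toAdm := by
    have h3 := sub_mem (sub_mem ((opSpace h.toAdm).add_mem hy hy) p1) p2
    have e : y + y - (y + δ - ε) - (y + -δ - ε) = (2 : k) • ε := by rw [two_smul]; abel
    rw [e] at h3
    simpa [smul_smul, h2] using (opSpace h.toAdm).smul_mem (2 : k)⁻¹ h3
  have hδm : δ ∈ opSpace h.toAdm := by
    have h3 := add_mem (sub_mem p1 hy) hεm
    have e : y + δ - ε - y + ε = δ := by abel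
    rwa [e] at h3
  have hε0 : ε = 0 := by
    refine h.zero_of_lt hεm.1 ?_
    have hle : LinearMap.range ε ≤ (LinearMap.range x).map b := by
      rintro _ ⟨m, rfl⟩
      exact ⟨y (b m), hy.2.1 ⟨b m, rfl⟩, rfl⟩
    refine lt_of_le_of_lt (Submodule.finrank_mono hle) (Submodule.finrank_lt_finrank_of_lt ?_)
    refine lt_of_le_of_ne (by rintro _ ⟨u, hu, rfl⟩; exact hr u hu) fun e => h.ne ?_
    have hz : ∀ u ∈ LinearMap.range x, u = 0 := by
      have hb0 : ∀ u ∈ LinearMap.range x, b u = 0 := fun u hu => by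
        obtain ⟨v, -, rfl⟩ := e.symm ▸ hu
        exact LinearMap.congr_fun hb.sq v
      intro u hu
      obtain ⟨v, hv, rfl⟩ := e.symm ▸ hu
      exact hb0 v hv
    exact LinearMap.ext fun m => hz _ ⟨m, rfl⟩
  by_contra hne
  obtain ⟨-, hR, hK⟩ := h.congr hδm.1 (sub_ne_zero.2 hne) hδm.2.1 hδm.2.2
  have hbδ : b * δ = 0 := by
    rw [hδ, mul_sub, ← mul_assoc, hb.sq, zero_mul, ← mul_assoc, ← hε, hε0, sub_zero]
  have hbU : ∀ u ∈ LinearMap.range x, b u = 0 := fun u hu => by
    obtain ⟨m, rfl⟩ := hR.symm ▸ hu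
    exact LinearMap.congr_fun hbδ m
  have hby : b * y = 0 := LinearMap.ext fun m => hbU _ (hy.2.1 ⟨m, rfl⟩)
  have hδb : δ * b = 0 := by
    rw [hδ, sub_mul, mul_assoc y b b, hb.sq, mul_zero, sub_zero, ← hε, hε0]
  have hyb : y * b = 0 := LinearMap.ext fun m => LinearMap.mem_ker.1
    (hy.2.2 (hK ▸ LinearMap.mem_ker.2 (LinearMap.congr_fun hδb m) : b m ∈ LinearMap.ker x))
  exact hne (by rw [hby, hyb])

/-- Membership in `E(σ)`. -/
theorem op_mem_opSpace {σ g : (LinearMap.GeneralLinearGroup k M)} (hσ : σ ∈ minimalQuadraticElements G) (hg : g ∈ sameActionClass G σ ∪ {1}) :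
    op g ∈ opSpace (min_op hσ).toAdm := by
  rcases hg with hg | hg
  · exact ⟨adm_op hg.1.1, hg.2.2.le, hg.2.1.ge⟩
  · rw [Set.mem_singleton_iff.1 hg, show op (1 : (LinearMap.GeneralLinearGroup k M)) = 0 by simp [op]]; exact zero_mem _

theorem commute_iff {g h : (LinearMap.GeneralLinearGroup k M)} : g * h = h * g ↔ op g * op h = op h * op g := by
  rw [← Units.val_inj, Units.val_mul, Units.val_mul]
  simp only [op, sub_mul, mul_sub, one_mul, mul_one]
  constructor
  · intro e; rw [e]; abel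
  · intro e
    linear_combination (norm := abel) e

end Cfsg.Agent.QuadraticPair
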