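import Cfsg.Agent.Lib.QuadraticPair.Basic

/-!
# Pairs of minimal operators: the nilpotent case and the class two case
-/

set_option linter.all false
set_option autoImplicit false

namespace Cfsg.Agent.QuadraticPair

open Cfsg

variable {k : Type*} [Field k] {M : Type*} [AddCommGroup M] [Module k M] [FiniteDimensional k M]
  {G : Subgroup (LinearMap.GeneralLinearGroup k M)} {a b : Module.End k M}

theorem sq_left {x : Module.End k M} (h : x * x = 0) (y : Module.End k M) : x * (x * y) = 0 := by
  rw [← mul_assoc, h, zero_mul]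

/-- The commutator operator of a pair with `a b a = 0 = b a b` is admissible. -/
theorem adm_bracket (ha : Adm G a) (hb : Adm G b) (h1 : a * b * a = 0) (h2 : b * a * b = 0) :
    Adm G (b * a - a * b) := by
  have h1' : ∀ y, a * (b * (a * y)) = 0 := fun y => by rw [← mul_assoc, ← mul_assoc, h1, zero_mul]
  have h2' : ∀ y, b * (a * (b * y)) = 0 := fun y => by rw [← mul_assoc, ← mul_assoc, h2, zero_mul]
  have h1'' : a * (b * a) = 0 := by rw [← mul_assoc]; exact h1
  have h2'' : b * (a * b) = 0 := by rw [← mul_assoc]; exact h2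
  refine ⟨?_, fun c => ?_⟩
  · simp [mul_sub, sub_mul, mul_assoc, sq_left ha.sq, sq_left hb.sq, h1'', h2'', h1', h2', ha.sq, hb.sq]
  · refine ⟨ex hb.sq c * ex ha.sq 1 * (ex hb.sq c)⁻¹ * (ex ha.sq 1)⁻¹,
      mul_mem (mul_mem (mul_mem (hb.ex_mem c) (ha.ex_mem 1)) (inv_mem (hb.ex_mem c))) (inv_mem (ha.ex_mem 1)), ?_⟩
    simp [Units.val_mul, mul_add, add_mul, mul_sub, sub_mul, mul_assoc, smul_smul, smul_sub,
      sq_left ha.sq, sq_left hb.sq, h1'', h2'', h1', h2', ha.sq, hb.sq]
    abel

/-- If `T` is nilpotent then it maps no non-zero invariant space onto itself. -/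
theorem map_ne_self {T : Module.End k M} {U : Submodule k M} (hU : U ≠ ⊥) {n : ℕ}
    (hT : ∀ u ∈ U, (T ^ n) u = 0) : U.map T ≠ U := by
  intro e
  have h : ∀ m, U.map (T ^ m) = U := by
    intro m
    induction m with
    | zero => exact Submodule.map_id U
    | succ m ih => rw [pow_succ, Module.End.mul_eq_comp, Submodule.map_comp, e, ih]
  refine hU ((Submodule.eq_bot_iff _).2 fun u hu => ?_)
  obtain ⟨v, hv, rfl⟩ := (h n).ge hu
  exact hT v hv

/-- Nilpotency of `a b + b a` forces `a b a = 0`, for `a` minimal. -/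
theorem nil_aba_left (hk2 : ringChar k ≠ 2) :
    ∀ (n : ℕ) {a b : Module.End k M}, Min G a → Adm G b → (a * b + b * a) ^ n = 0 →
      a * b * a = 0 := by
  have h2 := two_ne hk2
  intro n
  induction n using Nat.strong_induction_on with
  | _ n ih =>
  intro a b ha hb hz
  by_cases hn : n ≤ 1
  · have hz1 : a * b + b * a = 0 := by
      have : (a * b + b * a) ^ 1 = 0 := by
        rw [show (1 : ℕ) = n + (1 - n) by omega, pow_add, hz, zero_mul]
      simpa using this
    have := congrArg (· * a) hz1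
    simpa [add_mul, mul_assoc, ha.sq] using this
  set X := a * b * a with hX
  set Y := a * b * (a * b) - b * a * (b * a) with hY
  -- the conjugates of `a` by the family of `b`
  let a' : k → Module.End k M := fun c => a + c • (b * a - a * b) - (c * c) • (b * a * b)
  have ha' : ∀ c, Min G (a' c) := fun c => by
    have := ha.conj (hb.ex_mem c)
    rwa [conj_ex] at this
  have hsmall : ∀ c, a * a' c * a = 0 ∧ a' c * a * a' c = 0 := by
    intro c
    suffices hz' : (a * a' c + a' c * a) ^ ((n + 1) / 2) = 0 from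
      ⟨ih ((n + 1) / 2) (by omega) ha (ha' c).toAdm hz', ih ((n + 1) / 2) (by omega) (ha' c) ha.toAdm (by rwa [add_comm])⟩
    have e : a * a' c + a' c * a = -(c * c) • ((a * b + b * a) * (a * b + b * a)) := by
      simp only [a', mul_add, add_mul, mul_sub, sub_mul, mul_smul_comm, smul_mul_assoc, mul_assoc,
        sq_left ha.sq, sq_left hb.sq, ha.sq, hb.sq, mul_zero, smul_add, smul_sub, smul_zero, neg_smul, neg_add]
      abel
    rw [e, smul_pow, show ((a * b + b * a) * (a * b + b * a)) ^ ((n + 1) / 2) =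
        (a * b + b * a) ^ (n + (2 * ((n + 1) / 2) - n)) by
      rw [show n + (2 * ((n + 1) / 2) - n) = 2 * ((n + 1) / 2) by omega, pow_mul, sq],
      pow_add, hz, zero_mul, smul_zero]
  have h5 : a * b * a * b * a = 0 := by
    have h := (hsmall 1).1
    simp only [a', one_smul, mul_one, mul_add, add_mul, mul_sub, sub_mul, mul_assoc, ha.sq, mul_zero,
      sq_left ha.sq, sub_zero, zero_add, zero_sub, neg_eq_zero, add_zero] at h
    rw [mul_assoc, mul_assoc, mul_assoc]
    exact h
  have h5' : ∀ y, a * (b * (a * (b * (a * y)))) = 0 := fun y => by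
    rw [← mul_assoc, ← mul_assoc, ← mul_assoc, ← mul_assoc, h5, zero_mul]
  have h5'' : a * (b * (a * (b * a))) = 0 := by rw [← mul_assoc, ← mul_assoc, ← mul_assoc, h5]
  have hγ : ∀ c : k, Adm G ((c * c) • Y - (2 * c) • X) := by
    intro c
    have h := adm_bracket ha.toAdm (ha' c).toAdm (hsmall c).1 (hsmall c).2
    have e : a' c * a - a * a' c = (c * c) • Y - (2 * c) • X := by
      simp only [a', hX, hY, mul_add, add_mul, mul_sub, sub_mul, mul_smul_comm, smul_mul_assoc, mul_assoc,
        sq_left ha.sq, sq_left hb.sq, ha.sq, hb.sq, mul_zero, smul_sub, smul_zero, two_mul, add_smul]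
      abel
    rwa [e] at h
  have hXX : X * X = 0 := by simp [hX, mul_assoc, sq_left ha.sq]
  have hXY : X * Y = 0 := by simp [hX, hY, mul_sub, mul_assoc, sq_left ha.sq, h5', h5'']
  have hYX : Y * X = 0 := by simp [hX, hY, sub_mul, mul_assoc, sq_left ha.sq, h5', h5'']
  have hYY : Y * Y = 0 := by
    simp [hY, sub_mul, mul_sub, mul_assoc, sq_left ha.sq, sq_left hb.sq, h5', h5'']
  have hXadm : Adm G X := by
    have h := (hγ (-1)).add ((hγ 1).smul (-1))
      (by simp [mul_sub, sub_mul, mul_add, add_mul, hXX, hXY, hYX, hYY])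
      (by simp [mul_sub, sub_mul, mul_add, add_mul, hXX, hXY, hYX, hYY])
    have e : ((-1 : k) * -1) • Y - ((2 : k) * -1) • X + (-1 : k) • (((1 : k) * 1) • Y - ((2 : k) * 1) • X) =
        (4 : k) • X := by
      module
    rw [e] at h
    have h4 : (4 : k) ≠ 0 := by
      rw [show (4 : k) = 2 * 2 by norm_num]; exact mul_ne_zero h2 h2
    simpa [smul_smul, h4] using h.smul (4 : k)⁻¹
  refine ha.zero_of_lt hXadm ?_
  have hle : LinearMap.range X ≤ (LinearMap.range a).map (a * b) := by
    rintro _ ⟨m, rfl⟩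
    exact ⟨a m, ⟨m, rfl⟩, by simp [hX]⟩
  refine lt_of_le_of_lt (Submodule.finrank_mono hle) (Submodule.finrank_lt_finrank_of_lt ?_)
  refine lt_of_le_of_ne (by rintro _ ⟨u, -, rfl⟩; exact ⟨b u, by simp⟩)
    (map_ne_self (n := 2) (fun e => ha.ne (LinearMap.range_eq_bot.1 e)) ?_)
  rintro _ ⟨m, rfl⟩
  have := LinearMap.congr_fun h5 m
  simpa [pow_two, mul_assoc] using this

/-- Nilpotency of `a b + b a` forces `a b a = 0 = b a b`. -/
theorem nil_aba (hk2 : ringChar k ≠ 2) (n : ℕ) {a b : Module.End k M} (ha : Min G a) (hb : Min G b)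
    (hz : (a * b + b * a) ^ n = 0) : a * b * a = 0 ∧ b * a * b = 0 :=
  ⟨nil_aba_left hk2 n ha hb.toAdm hz, nil_aba_left hk2 n hb ha.toAdm (by rwa [add_comm])⟩

/-- The spaces of the commutator operator. -/
theorem bracket_spaces (ha : Min G a) (hb : Min G b) (h1 : a * b * a = 0) (h2 : b * a * b = 0)
    (hne : b * a - a * b ≠ 0) :
    Min G (b * a - a * b) ∧
    LinearMap.range (b * a - a * b) =
      (LinearMap.range a ⊓ LinearMap.ker b) ⊔ (LinearMap.range b ⊓ LinearMap.ker a) ∧
    LinearMap.ker (b * a - a * b) =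
      (LinearMap.range b ⊔ LinearMap.ker a) ⊓ (LinearMap.range a ⊔ LinearMap.ker b) ∧
    LinearMap.range a ⊓ LinearMap.range b = ⊥ := by
  set δ := b * a - a * b with hδ
  have hA : Adm G δ := adm_bracket ha.toAdm hb.toAdm h1 h2
  have haU := range_le_ker ha.sq
  have hbU := range_le_ker hb.sq
  set U := LinearMap.range a
  set U' := LinearMap.range b
  set P1 := U'.map a with hP1d
  set P2 := U.map b with hP2d
  have hP1 : P1 ≤ U ⊓ LinearMap.ker b := by
    rintro _ ⟨_, ⟨m, rfl⟩, rfl⟩
    exact ⟨⟨b m, rfl⟩, LinearMap.congr_fun h2 m⟩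
  have hP2 : P2 ≤ U' ⊓ LinearMap.ker a := by
    rintro _ ⟨_, ⟨m, rfl⟩, rfl⟩
    exact ⟨⟨a m, rfl⟩, LinearMap.congr_fun h1 m⟩
  have hcount : ∀ (f : Module.End k M) (W : Submodule k M),
      Module.finrank k (W.map f) + Module.finrank k (W ⊓ LinearMap.ker f : Submodule k M) =
        Module.finrank k W := fun f W => by
    have h := LinearMap.finrank_range_add_finrank_ker (f.domRestrict W)
    rw [LinearMap.range_domRestrict] at h
    rw [← h]
    congr 1
    have e : (LinearMap.ker (f.domRestrict W)).map W.subtype = W ⊓ LinearMap.ker f := by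
      ext x
      simp [LinearMap.domRestrict, and_comm]
    rw [← e, Submodule.finrank_map_subtype_eq]
  have hU : Module.finrank k U = rk a := rfl
  have hU' : Module.finrank k U' = rk b := rfl
  have hd : rk b = rk a := le_antisymm (hb.min a ha.toAdm ha.ne) (ha.min b hb.toAdm hb.ne)
  have e1 : Module.finrank k P1 + _ = _ := hcount a U'
  have e2 : Module.finrank k P2 + _ = _ := hcount b U
  have l1 := Submodule.finrank_mono hP1
  have l2 := Submodule.finrank_mono hP2
  have hle : LinearMap.range δ ≤ P1 ⊔ P2 := by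
    rintro _ ⟨m, rfl⟩
    exact sub_mem (Submodule.mem_sup_right ⟨a m, ⟨m, rfl⟩, rfl⟩) (Submodule.mem_sup_left ⟨b m, ⟨m, rfl⟩, rfl⟩)
  have l3 := Submodule.finrank_mono hle
  have l4 := Submodule.finrank_sup_add_finrank_inf_eq P1 P2
  have l5 : rk a ≤ rk δ := ha.min δ hA hne
  have l6 : Module.finrank k U = rk a := rfl
  have l7 : Module.finrank k U' = rk a := hd
  have f1 : Module.finrank k P1 = Module.finrank k (U ⊓ LinearMap.ker b : Submodule k M) := by
    simp only [rk] at *; omega
  have f2 : Module.finrank k P2 = Module.finrank k (U' ⊓ LinearMap.ker a : Submodule k M) := by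
    simp only [rk] at *; omega
  have f3 : Module.finrank k (P1 ⊓ P2 : Submodule k M) = 0 := by
    simp only [rk] at *; omega
  have f4 : Module.finrank k (P1 ⊔ P2 : Submodule k M) ≤ rk δ := by
    simp only [rk] at *; omega
  have g1 := Submodule.eq_of_le_of_finrank_eq hP1 f1
  have g2 := Submodule.eq_of_le_of_finrank_eq hP2 f2
  have g3 : P1 ⊓ P2 = ⊥ := Submodule.finrank_eq_zero.1 f3
  have g4 := Submodule.eq_of_le_of_finrank_le hle f4
  have hdis : U ⊓ U' = ⊥ := by
    rw [eq_bot_iff, ← g3, g1, g2]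
    exact fun x hx => ⟨⟨hx.1, hbU hx.2⟩, ⟨hx.2, haU hx.1⟩⟩
  refine ⟨⟨hA, hne, fun y hy hy0 => ?_⟩, ?_, ?_, hdis⟩
  · refine le_trans ?_ (ha.min y hy hy0)
    simp only [rk] at *; omega
  · rw [g4, g1, g2]
  · refine le_antisymm (fun x hx => ?_) fun x hx => ?_
    · have he : b (a x) = a (b x) := sub_eq_zero.1 (LinearMap.mem_ker.1 hx)
      have hm2 : b (a x) ∈ P2 := ⟨a x, ⟨x, rfl⟩, rfl⟩
      have hm1 : a (b x) ∈ P1 := ⟨b x, ⟨x, rfl⟩, rfl⟩
      have h0 : b (a x) = 0 := by
        rw [← Submodule.mem_bot k, ← g3]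
        exact ⟨he.symm ▸ hm1, hm2⟩
      have h0' : a (b x) = 0 := he ▸ h0
      refine ⟨?_, ?_⟩
      · obtain ⟨u, hu, e⟩ := g1.ge (show a x ∈ U ⊓ LinearMap.ker b from ⟨⟨x, rfl⟩, h0⟩)
        exact Submodule.mem_sup.2 ⟨u, hu, x - u, by simp [e], by abel⟩
      · obtain ⟨u, hu, e⟩ := g2.ge (show b x ∈ U' ⊓ LinearMap.ker a from ⟨⟨x, rfl⟩, h0'⟩)
        exact Submodule.mem_sup.2 ⟨u, hu, x - u, by simp [e], by abel⟩
    · obtain ⟨u, hu, v, hv, e⟩ := Submodule.mem_sup.1 hx.1
      obtain ⟨u', hu', v', hv', e'⟩ := Submodule.mem_sup.1 hx.2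
      have p1 : b (a x) = 0 := by
        obtain ⟨m, rfl⟩ := hu
        rw [← e, map_add, LinearMap.mem_ker.1 hv, add_zero]
        exact LinearMap.congr_fun h2 m
      have p2 : a (b x) = 0 := by
        obtain ⟨m, rfl⟩ := hu'
        rw [← e', map_add, LinearMap.mem_ker.1 hv', add_zero]
        exact LinearMap.congr_fun h1 m
      show b (a x) - a (b x) = 0
      rw [p1, p2, sub_zero]

/-- A pair of unipotent families has nilpotent `a b + b a`. -/
theorem nilpotent_of_unipotent {H : Subgroup (LinearMap.GeneralLinearGroup k M)} (hH : IsUnipotentOn H)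
    {g h : LinearMap.GeneralLinearGroup k M} (hg : g ∈ H) (hh : h ∈ H) (hga : op g * op g = 0)
    (hhb : op h * op h = 0) :
    ∃ n, (op g * op h + op h * op g) ^ n = 0 := by
  obtain ⟨n, hn0⟩ := hH
  have hn : ∀ l : List (LinearMap.GeneralLinearGroup k M), (∀ u ∈ l, u ∈ H) → l.length = n →
      (l.map op).prod = 0 := by
    intro l h1 h2
    have h3 := hn0 l h1 h2
    simp only [List.map_flatMap, List.bind_eq_flatMap, List.pure_def, List.map_map] at h3
    simpa [op, Function.comp_def, List.map_eq_flatMap] using h3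
  have hz : ∀ {g h : LinearMap.GeneralLinearGroup k M}, g ∈ H → h ∈ H → (op g * op h) ^ n = 0 := by
    intro g h hg hh
    have hl : ∀ m, (((List.replicate m [g, h]).flatten).map op).prod =
        (op g * op h) ^ m := by
      intro m
      induction m with
      | zero => simp
      | succ m ih => rw [List.replicate_succ, List.flatten_cons, List.map_append, List.prod_append, ih, pow_succ']; simp [op]
    rw [← hl n]
    set l := (List.replicate n [g, h]).flatten
    have hmem : ∀ u ∈ l, u ∈ H := by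
      intro u hu
      obtain ⟨s, hs, hus⟩ := List.mem_flatten.1 hu
      rw [(List.mem_replicate.1 hs).2] at hus
      simp at hus
      rcases hus with rfl | rfl <;> assumption
    have hlen : n ≤ l.length := by simp [l]; omega
    rw [← List.take_append_drop n l, List.map_append, List.prod_append,
      hn (l.take n) (fun u hu => hmem u (List.mem_of_mem_take hu)) (by simp [hlen]), zero_mul]
  refine ⟨n + 1, ?_⟩
  have hzero : ∀ m, (op g * op h + op h * op g) ^ (m + 1) = (op g * op h) ^ (m + 1) + (op h * op g) ^ (m + 1) := by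
    intro m
    induction m with
    | zero => simp
    | succ m ih =>
      have e1 : (op g * op h) ^ (m + 1) * (op h * op g) = 0 := by
        rw [pow_succ, mul_assoc _ (op g * op h) _, mul_assoc (op g), ← mul_assoc (op h) (op h), hhb]; simp
      have e2 : (op h * op g) ^ (m + 1) * (op g * op h) = 0 := by
        rw [pow_succ, mul_assoc _ (op h * op g) _, mul_assoc (op h), ← mul_assoc (op g) (op g), hga]; simp
      rw [pow_succ, ih, add_mul, mul_add, mul_add, e1, e2, add_zero, zero_add, ← pow_succ, ← pow_succ]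
  rw [hzero, pow_succ, pow_succ, hz hg hh, hz hh hg]
  simp

end Cfsg.Agent.QuadraticPair
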