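import Cfsg.Agent.Lib.QuadraticPair.Quasisimple

/-!
# The decomposition into a central product
-/

set_option linter.all false
set_option autoImplicit false

namespace Cfsg.Agent.QuadraticPair

open Cfsg
open Cfsg.Agent.ThreeTransp.RankOne (mem_conjBy)

universe u v

section One

variable {k : Type u} [Field k] {M : Type v} [AddCommGroup M] [Module k M] [FiniteDimensional k M]
  {G : Subgroup (LinearMap.GeneralLinearGroup k M)} {a b q y : Module.End k M}

theorem closure_le_product (S : Setting G) (hG : Subgroup.closure (quadraticElements G) = G) :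
    G ≤ rootGroup G ⊔ (G ⊓ Subgroup.centralizer (rootGroup G : Set (LinearMap.GeneralLinearGroup k M))) := by
  conv_lhs => rw [← hG]
  rw [Subgroup.closure_le]
  intro g hg
  have h := exp_mem_product S _ (adm_op hg) rfl 1
  rwa [show ex (adm_op hg).sq (1 : k) = g from Units.ext (by simp [op])] at h

theorem part_normal (S : Setting G) (hG : Subgroup.closure (quadraticElements G) = G)
    (A : Subgroup (LinearMap.GeneralLinearGroup k M)) {g : LinearMap.GeneralLinearGroup k M} (hg : g ∈ G)
    {x : LinearMap.GeneralLinearGroup k M} (hx : x ∈ partGroup G A) : g * x * g⁻¹ ∈ partGroup G A := by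
  have hle : G ≤ Subgroup.normalizer (partGroup G A : Set (LinearMap.GeneralLinearGroup k M)) := by
    refine (closure_le_product S hG).trans (sup_le (fun r hr => ?_) fun c hc => ?_)
    · have key : ∀ r ∈ rootGroup G, ∀ x ∈ partGroup G A, r * x * r⁻¹ ∈ partGroup G A := fun r hr x hx => by
        have : partGroup G A ≤ (partGroup G A).comap (MulAut.conj r).toMonoidHom := iSup₂_le fun B hB => by
          rw [← Subgroup.map_le_iff_le_comap]
          exact le_partGroup (part_conj S hB hr)
        exact this hx
      rw [Subgroup.mem_normalizer_iff]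
      exact fun x => ⟨key r hr x, fun h => by simpa [mul_assoc] using key r⁻¹ (inv_mem hr) _ h⟩
    · exact ThreeTransp.RankOne.mem_normalizer_of_centralizes fun x hx =>
        (Subgroup.mem_centralizer_iff.1 hc.2 x (partGroup_le_root hx)).symm
  exact ((Subgroup.mem_normalizer_iff.1 (hle hg)) x).1 hx

/-- A nilpotent operator commuting with the roots spans a trivial subgroup. -/
theorem ex_root_trivial (S : Setting G) {A : Subgroup (LinearMap.GeneralLinearGroup k M)}
    {z : LinearMap.GeneralLinearGroup k M} (hz : z ∈ partGroup G A) (hsq : op z * op z = 0)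
    (hc : ∀ r ∈ partGroup G A, z * r = r * z) : z = 1 := by
  have hcR : ∀ r ∈ rootGroup G, z * r = r * z := by
    have hle : rootGroup G ≤ Subgroup.centralizer {z} := iSup₂_le fun D hD x hx => by
      rw [Subgroup.mem_centralizer_singleton_iff]
      by_cases hr : Rel G A D
      · exact (hc x (le_partGroup ⟨hD, hr⟩ hx)).symm
      · exact (ThreeTransp.RankOne.commutator_eq_bot_iff.1 (part_group_commute S hr) z hz x
          (le_partGroup ⟨hD, .refl⟩ hx)).symm
    exact fun r hr => (Subgroup.mem_centralizer_singleton_iff.1 (hle hr)).symm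
  have hzR : z ∈ rootGroup G := partGroup_le_root hz
  refine unipotent_sets_trivial (R := rootGroup G) (N := Subgroup.zpowers z) S.irred
    (fun g hg r hr => rootGroup_conj hg hr) (Subgroup.zpowers_le.2 hzR) {{z}} ?_ ?_ ?_ ?_ ?_ {z} rfl z rfl
  · rintro _ rfl w rfl; exact Subgroup.mem_zpowers _
  · rintro _ rfl n hn w rfl
    rw [Set.mem_singleton_iff]
    obtain ⟨i, rfl⟩ := Subgroup.mem_zpowers_iff.1 hn
    exact mul_inv_eq_iff_eq_mul.2 (Commute.zpow_self w i).eq
  · rintro _ rfl v rfl w rfl; rfl
  · rintro _ rfl w rfl; exact ⟨2, by rw [pow_two, hsq]⟩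
  · rintro _ rfl r hr w rfl
    exact ⟨_, rfl, by rw [Set.mem_singleton_iff, ← hcR r hr, mul_inv_cancel_right]⟩

/-- An operator commuting with a component and killing one of its root elements is zero. -/
theorem kills (S : Setting G) (hG : Subgroup.closure (quadraticElements G) = G)
    {A : Subgroup (LinearMap.GeneralLinearGroup k M)} (hA : A ∈ quadraticRootSubgroups G) {s : Module.End k M}
    (hs : Adm (partGroup G A) s) (hs0 : s ≠ 0)
    (hy : ∀ g ∈ partGroup G A, y * op g = op g * y) (hys : y * s = 0) : y = 0 := by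
  let K : Subgroup (LinearMap.GeneralLinearGroup k M) :=
    { carrier := {g | g ∈ partGroup G A ∧ y * op g = 0}
      one_mem' := ⟨one_mem _, by simp [op]⟩
      mul_mem' := fun {g h} hg hh => ⟨mul_mem hg.1 hh.1, by
        have e : op (g * h) = op g + (1 + op g) * op h := by simp [op, mul_sub, sub_mul]
        rw [e, mul_add, hg.2, ← mul_assoc, mul_add, mul_one, hg.2, add_zero, hh.2, add_zero]⟩
      inv_mem' := fun {g} hg => ⟨inv_mem hg.1, by
        have e : op g⁻¹ = -(op g * ((g⁻¹ : LinearMap.GeneralLinearGroup k M) : Module.End k M)) := by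
          simp [op, sub_mul]
        rw [e, mul_neg, ← mul_assoc, hg.2, zero_mul, neg_zero]⟩ }
  have hK : ∀ r ∈ partGroup G A, ∀ n ∈ K, r * n * r⁻¹ ∈ K := fun r hr n hn => ⟨mul_mem (mul_mem hr hn.1) (inv_mem hr), by
    have e : op (r * n * r⁻¹) = (r : Module.End k M) * op n * ((r⁻¹ : LinearMap.GeneralLinearGroup k M) : Module.End k M) := by
      simp [op, mul_sub, sub_mul, mul_assoc]
    have hyr : y * (r : Module.End k M) = (r : Module.End k M) * y := by
      rw [show (r : Module.End k M) = 1 + op r by simp [op], mul_add, add_mul, mul_one, one_mul, hy r hr]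
    rw [e, ← mul_assoc, ← mul_assoc, hyr, mul_assoc _ y, hn.2, mul_zero, zero_mul]⟩
  have hsK : ex hs.sq (1 : k) ∈ K := ⟨hs.ex_mem 1, by rw [op_ex, one_smul, hys]⟩
  rcases normal_dichotomy (N := K) S hA (fun g hg => hg.1) hK with h | h
  · let U : Submodule k M := ⨆ g ∈ partGroup G A, LinearMap.range (op g)
    have hU : U ≤ LinearMap.ker y := iSup₂_le fun g hg => by
      rintro _ ⟨m, rfl⟩
      exact LinearMap.congr_fun ((h.ge hg).2) m
    rcases S.irred.2 U (fun g hg w hw => by
      have : U ≤ U.comap (g : Module.End k M) := iSup₂_le fun x hx => by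
        rintro _ ⟨m, rfl⟩
        have hh : LinearMap.range (op (g * x * g⁻¹)) ≤ U :=
          le_iSup₂_of_le (g * x * g⁻¹) (part_normal S hG A hg hx) le_rfl
        refine hh ⟨(g : Module.End k M) m, ?_⟩
        rw [show op (g * x * g⁻¹) = (g : Module.End k M) * op x * ((g⁻¹ : LinearMap.GeneralLinearGroup k M) : Module.End k M) by
          simp [op, mul_sub, sub_mul, mul_assoc], ← Module.End.mul_apply, mul_assoc, Units.inv_mul, mul_one]
        rfl
      exact this hw) with h0 | h1
    · exfalso
      apply hs0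
      have : LinearMap.range (op (ex hs.sq (1 : k))) ≤ ⊥ := h0 ▸ le_iSup₂_of_le _ (hs.ex_mem 1) le_rfl
      rw [op_ex, one_smul, le_bot_iff, LinearMap.range_eq_bot] at this
      exact this
    · exact LinearMap.ker_eq_top.1 (top_le_iff.1 (h1 ▸ hU))
  · exfalso
    apply hs0
    have := ex_root_trivial S (hs.ex_mem 1) (by rw [op_ex, one_smul]; exact hs.sq) (h _ hsK)
    simpa [op] using congrArg op this

/-- A quadratic element lies in one component or centralizes all. -/
theorem quadratic_place (S : Setting G) (hG : Subgroup.closure (quadraticElements G) = G) :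
    ∀ (n : ℕ) {q : Module.End k M}, Adm G q → rk q = n →
      (∀ g ∈ rootGroup G, q * op g = op g * q) ∨
        ∃ A ∈ quadraticRootSubgroups G, Adm (partGroup G A) q := by
  intro n
  induction n using Nat.strong_induction_on with
  | _ n ih =>
    intro q hq hn
    by_cases hsand : ∀ r, Min G r → q * r * q = 0
    · left
      intro g hg
      have hle : rootGroup G ≤ Subgroup.centralizer {ex hq.sq (1 : k)} := iSup₂_le fun A hA x hx => by
        obtain ⟨a, ha, rfl⟩ := exists_root hA
        rw [Subgroup.mem_centralizer_singleton_iff]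
        refine commute_iff.2 ?_
        rcases eq_or_ne (op x) 0 with h0 | h0
        · rw [h0]; simp
        rw [op_ex, one_smul, commute_of_sandwich S hq hsand (min_of_mem ha hx h0).1]
      have := commute_iff.1 (Subgroup.mem_centralizer_singleton_iff.1 (hle hg))
      rw [op_ex, one_smul] at this
      exact this.symm
    push Not at hsand
    obtain ⟨r, hr, hne⟩ := hsand
    obtain ⟨hXm, -⟩ := qaq_root S hr hq hne
    set X := q * r * q with hXdef
    obtain ⟨d, hd, ho⟩ := exists_opp S hXm
    have hA : root hXm.toAdm ∈ quadraticRootSubgroups G := root_mem_roots hXm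
    have hXX : root hXm.toAdm ∈ part G (root hXm.toAdm) := ⟨hA, .refl⟩
    have hdX : root hd.toAdm ∈ part G (root hXm.toAdm) :=
      ⟨root_mem_roots hd, rel_of_aba S hXm hd (by rw [ho.left]; exact hXm.ne)⟩
    obtain ⟨q0, s, hq0, hs, hlt, h0, -, e⟩ := split S (H := partGroup G (root hXm.toAdm))
      (partGroup_le_root.trans rootGroup_le) hq hXdef hXm ho
      (adm_of_mem hXm.sq fun t => le_partGroup hXX (ex_mem_root _ (self_mem_opSpace _) t))
      (adm_of_mem hd.sq fun t => le_partGroup hdX (ex_mem_root _ (self_mem_opSpace _) t))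
      (fun t g hg => part_normal S hG _ (hq.ex_mem t) hg)
    have hs0 : s ≠ 0 := fun es => by rw [e, es, sub_zero] at hlt; exact lt_irrefl _ hlt
    right
    refine ⟨_, hA, adm_of_mem hq.sq fun c => ?_⟩
    have hfac : ex hq.sq c = ex hq0.sq c * (ex hs.sq c)⁻¹ := by
      refine Units.ext ?_
      rw [Units.val_mul, coe_ex, coe_ex, coe_ex_inv, e]
      simp only [add_mul, mul_sub, one_mul, mul_one, smul_mul_smul_comm, h0, smul_zero, sub_zero]
      module
    rw [hfac]
    refine mul_mem ?_ (inv_mem (hs.ex_mem c))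
    have zero : (∀ g ∈ partGroup G (root hXm.toAdm), q0 * op g = op g * q0) →
        ex hq0.sq c ∈ partGroup G (root hXm.toAdm) := fun hc => by
      have := kills S hG hA hs hs0 hc h0
      rw [show ex hq0.sq c = 1 from Units.ext (by rw [coe_ex, this, smul_zero, add_zero]; rfl)]
      exact one_mem _
    rcases ih _ (hn ▸ hlt) hq0 rfl with hc | ⟨B, hB, hB'⟩
    · exact zero fun g hg => hc g (partGroup_le_root hg)
    · by_cases hr' : Rel G (root hXm.toAdm) B
      · have := hB'.ex_mem c
        exact (show partGroup G B = partGroup G (root hXm.toAdm) by simp only [partGroup, part_eq ⟨hB, hr'⟩]).le this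
      · refine zero fun g hg => ?_
        have := (ThreeTransp.RankOne.commutator_eq_bot_iff.1 (part_group_commute S hr') g hg _ (hB'.ex_mem 1))
        rw [commute_iff, op_ex, one_smul] at this
        exact this.symm

theorem partGroup_closure (S : Setting G) {A : Subgroup (LinearMap.GeneralLinearGroup k M)} :
    Subgroup.closure (quadraticElements G ∩ (partGroup G A : Set (LinearMap.GeneralLinearGroup k M))) =
      partGroup G A := by
  refine le_antisymm ((Subgroup.closure_le _).2 Set.inter_subset_right) (iSup₂_le fun B hB x hx => ?_)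
  obtain ⟨b, hb, rfl⟩ := exists_root hB.1
  rcases eq_or_ne (op x) 0 with h0 | h0
  · rw [show x = 1 from Units.ext (by simpa [op, sub_eq_zero] using h0)]; exact one_mem _
  · refine Subgroup.subset_closure ⟨?_, le_partGroup hB hx⟩
    rw [eq_ex_op hx]
    exact quadraticElements_ex (mem_root.1 hx).1 h0 one_ne_zero

end One

section Decompose

variable {k : Type u} [Field k]

/-- The conclusion. -/
def Decomposed {M : Type v} [AddCommGroup M] [Module k M] (G : Subgroup (LinearMap.GeneralLinearGroup k M)) : Prop :=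
  ∃ (s : ℕ) (Gi : Fin s → Subgroup (LinearMap.GeneralLinearGroup k M)),
    (∀ i, Gi i ≤ G ∧ ∀ g ∈ G, conjBy (Gi i) g = Gi i) ∧ (∀ i j, i ≠ j → ⁅Gi i, Gi j⁆ = ⊥) ∧ (⨆ i, Gi i) = G ∧
    (∀ i, IsQuasisimple ↥(Gi i) ∧
      Subgroup.closure (quadraticElements G ∩ (Gi i : Set (LinearMap.GeneralLinearGroup k M))) = Gi i) ∧
    quadraticElements G ⊆ ⋃ i, (Gi i : Set (LinearMap.GeneralLinearGroup k M))

theorem conjBy_eq_of_le {H : Type*} [Group H] {G K : Subgroup H} (h : ∀ g ∈ G, ∀ x ∈ K, g * x * g⁻¹ ∈ K) {g : H}
    (hg : g ∈ G) : conjBy K g = K := by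
  refine le_antisymm (by rintro _ ⟨x, hx, rfl⟩; exact h g hg x hx) fun x hx => ?_
  exact ⟨g⁻¹ * x * g⁻¹⁻¹, h g⁻¹ (inv_mem hg) x hx, by simp [mul_assoc]⟩

theorem decompose (h2 : ringChar k ≠ 2) (h3 : Nat.card k ≠ 3) :
    ∀ (n : ℕ) {M : Type v} [AddCommGroup M] [Module k M] [FiniteDimensional k M]
      {G : Subgroup (LinearMap.GeneralLinearGroup k M)}, IsQuadraticPair G → Module.finrank k M = n → Decomposed G := by
  intro n
  induction n using Nat.strong_induction_on with
  | _ n ih =>
    intro M _ _ _ G hG hn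
    classical
    have S := setting_of h2 h3 hG
    rcases (quadraticElements G).eq_empty_or_nonempty with hQ | hQ
    · refine ⟨0, Fin.elim0, fun i => i.elim0, fun i => i.elim0, ?_, fun i => i.elim0, by simp [hQ]⟩
      rw [iSup_of_empty, ← hG.2, hQ, Subgroup.closure_empty]
    obtain ⟨σ, hσ⟩ : ∃ σ, σ ∈ minimalQuadraticElements G := by
      obtain ⟨σ, hσ, hmin⟩ := (InvImage.wf (fun g => commutatorRank (k := k) (M := M) g) wellFounded_lt).has_min
        (quadraticElements G) hQ
      exact ⟨σ, hσ, fun τ hτ => not_lt.1 (hmin τ hτ)⟩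
    obtain ⟨a, ha, -⟩ := exists_root (G := G) ⟨σ, hσ, rfl⟩
    set C : Subgroup (LinearMap.GeneralLinearGroup k M) := Subgroup.closure
      {g | g ∈ quadraticElements G ∧ ∀ x ∈ rootGroup G, op g * op x = op x * op g} with hC
    have hCG : C ≤ G := (Subgroup.closure_le _).2 fun g hg => hg.1.1
    have hCR : ∀ c ∈ C, ∀ x ∈ rootGroup G, x * c = c * x := by
      have : rootGroup G ≤ Subgroup.centralizer (C : Set (LinearMap.GeneralLinearGroup k M)) := by
        rw [Subgroup.le_centralizer_iff]
        exact (Subgroup.closure_le _).2 fun g hg => Subgroup.mem_centralizer_iff.2 fun x hx =>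
          (commute_iff.2 (hg.2 x hx)).symm
      exact fun c hc x hx => ((Subgroup.mem_centralizer_iff.1 (this hx)) c hc).symm
    have hgen : ∀ g ∈ quadraticElements G, g ∈ C ∨ ∃ A ∈ quadraticRootSubgroups G, g ∈ partGroup G A := fun g hg => by
      rcases quadratic_place S hG.2 _ (adm_op hg) rfl with h | ⟨A, hA, h⟩
      · exact Or.inl (Subgroup.subset_closure ⟨hg, h⟩)
      · refine Or.inr ⟨A, hA, ?_⟩
        have := h.ex_mem 1
        rwa [show ex (adm_op hg).sq (1 : k) = g from Units.ext (by simp [op])] at this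
    have hGle : G ≤ rootGroup G ⊔ C := by
      conv_lhs => rw [← hG.2]
      refine (Subgroup.closure_le _).2 fun g hg => ?_
      rcases hgen g hg with h | ⟨A, -, h⟩
      · exact Subgroup.mem_sup_right h
      · exact Subgroup.mem_sup_left (partGroup_le_root h)
    -- an irreducible part for `C`
    let InvC : Submodule k M → Prop := fun V => ∀ c ∈ C, ∀ v ∈ V, (c : Module.End k M) v ∈ V
    obtain ⟨m₀, hm₀⟩ := S.irred.1
    have htop : (⊤ : Submodule k M) ≠ ⊥ := fun e => hm₀ ((Submodule.mem_bot k).1 (e ▸ Submodule.mem_top))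
    obtain ⟨V, ⟨hV, hV0⟩, hmin⟩ := (wellFounded_lt (α := Submodule k M)).has_min {V | InvC V ∧ V ≠ ⊥}
      ⟨⊤, fun _ _ _ _ => Submodule.mem_top, htop⟩
    have faith : ∀ y : Module.End k M, (∀ x ∈ rootGroup G, y * op x = op x * y) →
        (∀ v ∈ V, y v = 0) → y = 0 := by
      intro y hy hyV
      let F : Submodule k M := ⨅ c ∈ C, LinearMap.ker
        ((c : Module.End k M) * y * ((c⁻¹ : LinearMap.GeneralLinearGroup k M) : Module.End k M))
      have mF : ∀ w, w ∈ F ↔ ∀ c ∈ C, (c : Module.End k M) (y (((c⁻¹ : LinearMap.GeneralLinearGroup k M) :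
          Module.End k M) w)) = 0 := fun w => by simp [F, Submodule.mem_iInf]
      have hVF : V ≤ F := fun w hw => (mF w).2 fun c hc => by rw [hyV _ (hV c⁻¹ (inv_mem hc) w hw), map_zero]
      have hFG : ∀ g ∈ G, ∀ w ∈ F, (g : Module.End k M) w ∈ F := by
        let T : Subgroup (LinearMap.GeneralLinearGroup k M) :=
          { carrier := {g | (∀ w ∈ F, (g : Module.End k M) w ∈ F) ∧
              ∀ w ∈ F, ((g⁻¹ : LinearMap.GeneralLinearGroup k M) : Module.End k M) w ∈ F}
            one_mem' := ⟨fun w hw => by simpa using hw, fun w hw => by simpa using hw⟩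
            mul_mem' := fun {g h} hg hh => ⟨fun w hw => by rw [Units.val_mul]; exact hg.1 _ (hh.1 w hw),
              fun w hw => by rw [mul_inv_rev, Units.val_mul]; exact hh.2 _ (hg.2 w hw)⟩
            inv_mem' := fun {g} hg => ⟨hg.2, fun w hw => by rw [inv_inv]; exact hg.1 w hw⟩ }
        have keyR : ∀ x ∈ rootGroup G, ∀ w ∈ F, (x : Module.End k M) w ∈ F := fun x hx w hw => (mF _).2 fun c hc => by
          have h1 : ((c⁻¹ : LinearMap.GeneralLinearGroup k M) : Module.End k M) * (x : Module.End k M) =
              (x : Module.End k M) * ((c⁻¹ : LinearMap.GeneralLinearGroup k M) : Module.End k M) := by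
            rw [← Units.val_mul, ← Units.val_mul, hCR _ (inv_mem hc) x hx]
          have h2 : y * (x : Module.End k M) = (x : Module.End k M) * y := by
            rw [show (x : Module.End k M) = 1 + op x by simp [op], mul_add, add_mul, mul_one, one_mul, hy x hx]
          have h3 : (c : Module.End k M) * (x : Module.End k M) = (x : Module.End k M) * (c : Module.End k M) := by
            rw [← Units.val_mul, ← Units.val_mul, hCR _ hc x hx]
          rw [← Module.End.mul_apply _ (x : Module.End k M), h1, Module.End.mul_apply,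
            ← Module.End.mul_apply y, h2, Module.End.mul_apply, ← Module.End.mul_apply _ (x : Module.End k M), h3,
            Module.End.mul_apply, (mF w).1 hw c hc, map_zero]
        have keyC : ∀ d ∈ C, ∀ w ∈ F, (d : Module.End k M) w ∈ F := fun d hd w hw => (mF _).2 fun c hc => by
          have h := (mF w).1 hw (d⁻¹ * c) (mul_mem (inv_mem hd) hc)
          rw [mul_inv_rev, inv_inv, Units.val_mul, Units.val_mul, Module.End.mul_apply, Module.End.mul_apply] at h
          have h' := congrArg (d : Module.End k M) h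
          rw [← Module.End.mul_apply (d : Module.End k M), Units.mul_inv, Module.End.one_apply, map_zero] at h'
          exact h'
        intro g hg
        exact ((sup_le (fun x hx => (⟨keyR x hx, keyR x⁻¹ (inv_mem hx)⟩ : _ ∧ _))
          (fun d hd => (⟨keyC d hd, keyC d⁻¹ (inv_mem hd)⟩ : _ ∧ _)) : rootGroup G ⊔ C ≤ T) (hGle hg)).1
      rcases S.irred.2 F hFG with h | h
      · exact absurd (le_bot_iff.1 (h ▸ hVF)) hV0
      · refine LinearMap.ext fun w => ?_
        have := (mF w).1 (h.ge Submodule.mem_top) 1 (one_mem _)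
        simpa using this
    have hVlt : Module.finrank k V < n := by
      rw [← hn]
      refine Submodule.finrank_lt fun e => ha.ne ?_
      have hker : InvC (LinearMap.ker a) := fun c hc v hv => by
        have h := commute_iff.1 (hCR c hc _ (root_le_rootGroup ha (ex_mem_root _ (self_mem_opSpace _) 1)))
        rw [op_ex, one_smul] at h
        have h' : a * (c : Module.End k M) = (c : Module.End k M) * a := by
          rw [show (c : Module.End k M) = 1 + op c by simp [op], mul_add, add_mul, mul_one, one_mul, h]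
        rw [LinearMap.mem_ker, ← Module.End.mul_apply, h', Module.End.mul_apply, LinearMap.mem_ker.1 hv, map_zero]
      by_contra ha0
      have hne : LinearMap.ker a ≠ ⊥ := fun e0 => ha0 (LinearMap.range_eq_bot.1 (le_bot_iff.1 (e0 ▸ range_le_ker ha.sq)))
      refine hmin _ ⟨hker, hne⟩ ?_
      rw [e]
      exact lt_top_iff_ne_top.2 fun e1 => ha0 (LinearMap.ker_eq_top.1 e1)
    -- restriction
    let ψ : C →* Module.End k V :=
      { toFun := fun c => (c.1 : Module.End k M).restrict (fun v hv => hV c.1 c.2 v hv)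
        map_one' := by ext v; simp
        map_mul' := fun c d => by ext v; simp }
    let ρ : C →* LinearMap.GeneralLinearGroup k V := ψ.toHomUnits
    have hρ : ∀ (c : C) (v : V), (((ρ c : Module.End k V) v : V) : M) = (c.1 : Module.End k M) v := fun c v => rfl
    have hρop : ∀ (c : C) (v : V), ((op (ρ c) v : V) : M) = op c.1 (v : M) := fun c v => by simp [op, hρ]
    have opcomm : ∀ c : C, ∀ x ∈ rootGroup G, op c.1 * op x = op x * op c.1 := fun c x hx =>
      (commute_iff.1 (hCR c.1 c.2 x hx)).symm
    have hρinj : Function.Injective ρ := by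
      rw [injective_iff_map_eq_one]
      intro c hc
      refine Subtype.ext (Units.ext ?_)
      have := faith (op c.1) (opcomm c) fun v hv => by
        rw [← hρop c ⟨v, hv⟩, hc]; simp [op]
      simpa [op, sub_eq_zero] using this
    set C1 := ρ.range
    have back : ∀ c : C, ρ c ∈ quadraticElements C1 → c.1 ∈ quadraticElements G := by
      intro c hc
      have hsq : op c.1 * op c.1 = 0 := faith _ (fun x hx => by
        rw [mul_assoc, opcomm c x hx, ← mul_assoc, opcomm c x hx, mul_assoc]) fun v hv => by
        have := congrArg (fun w : V => (w : M)) (LinearMap.congr_fun hc.2.1.1 ⟨v, hv⟩)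
        simpa [op, hρ] using this
      refine ⟨hCG c.2, ⟨hsq, fun e => hc.2.1.2 (LinearMap.ext fun v => Subtype.ext ?_)⟩, ?_⟩
      · show ((op (ρ c) v : V) : M) = _
        rw [hρop]
        have : op c.1 = 0 := e
        rw [this]; rfl
      · rintro τ ⟨t, ht⟩
        obtain ⟨c', hc'⟩ : ex (show op (ρ c) * op (ρ c) = 0 from hc.2.1.1) t ∈ C1 :=
          hc.2.2 ⟨t, rfl⟩
        have : op c'.1 - t • op c.1 = 0 := faith _ (fun x hx => by
          rw [sub_mul, smul_mul_assoc, opcomm c x hx, opcomm c' x hx, ← mul_smul_comm, ← mul_sub]) fun v hv => by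
          rw [LinearMap.sub_apply, LinearMap.smul_apply, ← hρop c' ⟨v, hv⟩, ← hρop c ⟨v, hv⟩, hc', op_ex,
            LinearMap.smul_apply, Submodule.coe_smul, sub_self]
        have e : τ = c'.1 := Units.ext (by
          rw [ht]
          have h := sub_eq_zero.1 this
          show (1 : Module.End k M) + t • op c.1 = _
          rw [← h]; simp [op])
        rw [e]; exact hCG c'.2
    have forth : ∀ c : C, c.1 ∈ quadraticElements G → (∀ x ∈ rootGroup G, op c.1 * op x = op x * op c.1) →
        ρ c ∈ quadraticElements C1 := by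
      intro c hc hcx
      refine ⟨⟨c, rfl⟩, ⟨LinearMap.ext fun v => Subtype.ext ?_, fun e => hc.2.1.2 ?_⟩, ?_⟩
      · have := LinearMap.congr_fun hc.2.1.1 (v : M)
        simpa [op, hρ] using this
      · refine faith _ hcx fun v hv => ?_
        rw [← hρop c ⟨v, hv⟩]
        have : op (ρ c) = 0 := e
        rw [this]; rfl
      · rintro τ ⟨t, ht⟩
        have hA := adm_op hc
        have hmem : ex hA.sq t ∈ C := by
          rcases eq_or_ne t 0 with rfl | ht0
          · rw [show ex hA.sq (0 : k) = 1 from Units.ext (by simp)]; exact one_mem _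
          · refine Subgroup.subset_closure ⟨quadraticElements_ex hA hc.2.1.2 ht0, fun x hx => ?_⟩
            rw [op_ex, smul_mul_assoc, mul_smul_comm, hcx x hx]
        refine ⟨⟨_, hmem⟩, Units.ext (LinearMap.ext fun v => Subtype.ext ?_)⟩
        rw [hρ, ht]
        simp [op, hρ]
    have hqp : IsQuadraticPair C1 := by
      constructor
      · refine ⟨?_, fun W hW => ?_⟩
        · obtain ⟨v, hv, hv0⟩ := Submodule.exists_mem_ne_zero_of_ne_bot hV0
          exact ⟨⟨v, hv⟩, fun e => hv0 (congrArg Subtype.val e)⟩
        · rcases eq_or_ne (W.map V.subtype) ⊥ with h | h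
          · left; exact Submodule.map_injective_of_injective V.subtype_injective (by rw [h, Submodule.map_bot])
          · right
            have hi : InvC (W.map V.subtype) := by
              rintro c hc _ ⟨w, hw, rfl⟩
              exact ⟨_, hW (ρ ⟨c, hc⟩) ⟨_, rfl⟩ w hw, rfl⟩
            refine Submodule.map_injective_of_injective V.subtype_injective ?_
            rw [Submodule.map_subtype_top]
            exact eq_of_le_of_not_lt (Submodule.map_subtype_le V W) (hmin _ ⟨hi, h⟩)
      · refine le_antisymm ((Subgroup.closure_le _).2 fun g hg => hg.1) ?_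
        rintro _ ⟨c, rfl⟩
        have hle : C ≤ ((Subgroup.closure (quadraticElements C1)).comap ρ).map C.subtype := by
          refine (Subgroup.closure_le _).2 fun g hg => ?_
          exact ⟨⟨g, Subgroup.subset_closure hg⟩, Subgroup.subset_closure (forth ⟨g, _⟩ hg.1 hg.2), rfl⟩
        obtain ⟨c', hc', e⟩ := hle c.2
        rwa [show c' = c from Subtype.ext e] at hc'
    obtain ⟨s, Hi, h1, h2', h3', h4, h5⟩ := ih _ hVlt hqp rfl
    let Gc : Fin s → Subgroup (LinearMap.GeneralLinearGroup k M) := fun i => ((Hi i).comap ρ).map C.subtype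
    -- the components
    haveI := (finite_parts S.toBase).to_subtype
    obtain ⟨r, ⟨e⟩⟩ := Finite.exists_equiv_fin ↥{P | ∃ A ∈ quadraticRootSubgroups G, P = part G A}
    let Gr : Fin r → Subgroup (LinearMap.GeneralLinearGroup k M) := fun i => ⨆ B ∈ (e.symm i).1, B
    have hGr : ∀ i, ∃ A ∈ quadraticRootSubgroups G, Gr i = partGroup G A ∧ (e.symm i).1 = part G A := fun i => by
      obtain ⟨A, hA, hP⟩ := (e.symm i).2
      exact ⟨A, hA, by simp only [Gr, partGroup, hP], hP⟩
    let GG : Fin r ⊕ Fin s → Subgroup (LinearMap.GeneralLinearGroup k M) := Sum.elim Gr Gc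
    have hle : ∀ x, GG x ≤ G := by
      rintro (i | i)
      · obtain ⟨A, -, hi, -⟩ := hGr i
        show Gr i ≤ G
        rw [hi]; exact partGroup_le_root.trans rootGroup_le
      · rintro _ ⟨c, -, rfl⟩; exact hCG c.2
    have hnorm : ∀ x, ∀ g ∈ G, ∀ z ∈ GG x, g * z * g⁻¹ ∈ GG x := by
      rintro (i | i) g hg z hz
      · obtain ⟨A, -, hi, -⟩ := hGr i
        change z ∈ Gr i at hz
        show g * z * g⁻¹ ∈ Gr i
        rw [hi] at hz ⊢
        exact part_normal S hG.2 A hg hz
      · have hGn : G ≤ Subgroup.normalizer (Gc i : Set (LinearMap.GeneralLinearGroup k M)) := by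
          refine hGle.trans (sup_le (fun x hx => ThreeTransp.RankOne.mem_normalizer_of_centralizes ?_) ?_)
          · rintro _ ⟨c, -, rfl⟩; exact hCR c.1 c.2 x hx
          · have key : ∀ d ∈ C, ∀ z ∈ Gc i, d * z * d⁻¹ ∈ Gc i := by
              rintro d hd _ ⟨c, hc, rfl⟩
              refine ⟨⟨d, hd⟩ * c * ⟨d, hd⟩⁻¹, ?_, rfl⟩
              show ρ _ ∈ Hi i
              rw [map_mul, map_mul, map_inv]
              exact ((h1 i).2 (ρ ⟨d, hd⟩) ⟨_, rfl⟩).le ⟨_, hc, rfl⟩
            intro d hd
            rw [Subgroup.mem_normalizer_iff]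
            exact fun z => ⟨key d hd z, fun h => by simpa [mul_assoc] using key d⁻¹ (inv_mem hd) _ h⟩
        exact ((Subgroup.mem_normalizer_iff.1 (hGn hg)) z).1 hz
    have hcover : quadraticElements G ⊆ ⋃ x, (GG x : Set (LinearMap.GeneralLinearGroup k M)) := by
      intro g hg
      rcases quadratic_place S hG.2 _ (adm_op hg) rfl with h | ⟨A, hA, h⟩
      · have hgC : g ∈ C := Subgroup.subset_closure ⟨hg, h⟩
        obtain ⟨i, hi⟩ := Set.mem_iUnion.1 (h5 (forth ⟨g, hgC⟩ hg h))
        exact Set.mem_iUnion.2 ⟨Sum.inr i, ⟨⟨g, hgC⟩, hi, rfl⟩⟩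
      · refine Set.mem_iUnion.2 ⟨Sum.inl (e ⟨_, A, hA, rfl⟩), ?_⟩
        show g ∈ Gr _
        have hg' := h.ex_mem 1
        rw [show ex (adm_op hg).sq (1 : k) = g from Units.ext (by simp [op])] at hg'
        simp only [Gr, e.symm_apply_apply]
        exact hg'
    refine ⟨r + s, GG ∘ finSumFinEquiv.symm, fun i => ⟨hle _, fun g hg => conjBy_eq_of_le (hnorm _) hg⟩,
      fun i j hij => ?_, le_antisymm (iSup_le fun i => hle _) ?_, fun i => ?_, fun g hg => ?_⟩
    · have hne : finSumFinEquiv.symm i ≠ finSumFinEquiv.symm j := fun h => hij (finSumFinEquiv.symm.injective h)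
      show ⁅GG _, GG _⁆ = ⊥
      generalize finSumFinEquiv.symm i = x at hne
      generalize finSumFinEquiv.symm j = y at hne
      have cross : ∀ i j, ⁅Gr i, Gc j⁆ = ⊥ := fun i j => by
        obtain ⟨A, -, hi, -⟩ := hGr i
        rw [hi, ThreeTransp.RankOne.commutator_eq_bot_iff]
        rintro z hz _ ⟨c, -, rfl⟩
        exact hCR c.1 c.2 z (partGroup_le_root hz)
      rcases x with i | i <;> rcases y with j | j
      · obtain ⟨A, hA, hi, hPi⟩ := hGr i
        obtain ⟨B, hB, hj, hPj⟩ := hGr j
        show ⁅Gr i, Gr j⁆ = ⊥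
        rw [hi, hj]
        refine part_group_commute S fun h => hne (congrArg Sum.inl (e.symm.injective (Subtype.ext ?_)))
        rw [hPi, hPj, part_eq ⟨hB, h⟩]
      · exact cross i j
      · show ⁅Gc i, Gr j⁆ = ⊥
        rw [Subgroup.commutator_comm]; exact cross j i
      · show ⁅Gc i, Gc j⁆ = ⊥
        rw [ThreeTransp.RankOne.commutator_eq_bot_iff]
        rintro _ ⟨c, hc, rfl⟩ _ ⟨d, hd, rfl⟩
        have := ThreeTransp.RankOne.commutator_eq_bot_iff.1 (h2' i j fun h => hne (congrArg Sum.inr h)) _ hc _ hd
        rw [← map_mul, ← map_mul] at this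
        exact congrArg Subtype.val (hρinj this)
    · conv_lhs => rw [← hG.2]
      refine (Subgroup.closure_le _).2 fun g hg => ?_
      obtain ⟨x, hx⟩ := Set.mem_iUnion.1 (hcover hg)
      refine Subgroup.mem_iSup_of_mem (finSumFinEquiv x) ?_
      simpa using hx
    · show IsQuasisimple ↥(GG _) ∧ Subgroup.closure (_ ∩ (GG _ : Set _)) = GG _
      generalize finSumFinEquiv.symm i = x
      rcases x with i | i
      · obtain ⟨A, hA, hi, -⟩ := hGr i
        show IsQuasisimple ↥(Gr i) ∧ Subgroup.closure (_ ∩ (Gr i : Set _)) = Gr i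
        rw [hi]
        exact ⟨partGroup_quasisimple S hA, partGroup_closure S⟩
      · constructor
        · have e1 : ((Hi i).comap ρ) ≃* ↥(Hi i) :=
            ((Hi i).comap ρ).equivMapOfInjective ρ hρinj |>.trans
              (MulEquiv.subgroupCongr (Subgroup.map_comap_eq_self ((h1 i).1)))
          exact Components.Basic.quasisimple_of_mulEquiv
            (e1.symm.trans (((Hi i).comap ρ).equivMapOfInjective C.subtype C.subtype_injective)) (h4 i).1
        · refine le_antisymm ((Subgroup.closure_le _).2 Set.inter_subset_right) ?_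
          show Gc i ≤ Subgroup.closure (quadraticElements G ∩ (Gc i : Set (LinearMap.GeneralLinearGroup k M)))
          rintro _ ⟨c, hc, rfl⟩
          have key : Hi i ≤ ((Subgroup.closure (quadraticElements G ∩ (Gc i : Set _))).comap C.subtype).map ρ := by
            conv_lhs => rw [← (h4 i).2]
            refine (Subgroup.closure_le _).2 ?_
            rintro y ⟨hy, hyi⟩
            obtain ⟨c', rfl⟩ := hy.1
            exact ⟨c', Subgroup.subset_closure ⟨back c' hy, ⟨c', hyi, rfl⟩⟩, rfl⟩
          obtain ⟨c', hc', e'⟩ := key hc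
          rw [← hρinj e']
          exact hc'
    · obtain ⟨x, hx⟩ := Set.mem_iUnion.1 (hcover hg)
      exact Set.mem_iUnion.2 ⟨finSumFinEquiv x, by simpa using hx⟩

end Decompose

end Cfsg.Agent.QuadraticPair
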