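import Cfsg.Agent.Lib.QuadraticPair.RootSet
import Cfsg.Agent.Lib.RootSubgroups.Commutator
import Cfsg.Agent.Lib.Components.Basic

/-!
# The components of the rank one graph on the roots
-/

set_option linter.all false
set_option autoImplicit false

namespace Cfsg.Agent.QuadraticPair

open Cfsg
open Cfsg.Agent.ThreeTransp.RankOne (mem_conjBy commutator_eq_bot_iff)

universe u

variable {k : Type u} [Field k] {M : Type*} [AddCommGroup M] [Module k M] [FiniteDimensional k M]
  {G : Subgroup (LinearMap.GeneralLinearGroup k M)} {a b : Module.End k M}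

/-- Reachability by rank one pairs. -/
def Rel (G : Subgroup (LinearMap.GeneralLinearGroup k M))
    (A B : Subgroup (LinearMap.GeneralLinearGroup k M)) : Prop :=
  Relation.ReflTransGen (FAdj (quadraticRootSubgroups G)) A B

theorem Rel.symm {A B : Subgroup (LinearMap.GeneralLinearGroup k M)} (h : Rel G A B) : Rel G B A := by
  induction h with
  | refl => exact .refl
  | tail _ h ih => exact (Relation.ReflTransGen.single ⟨h.2.1, h.1, RankOnePair_symm h.2.2⟩).trans ih

theorem Rel.trans' {A B C : Subgroup (LinearMap.GeneralLinearGroup k M)} (h : Rel G A B) (h' : Rel G B C) :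
    Rel G A C := Relation.ReflTransGen.trans h h'

theorem rel_of_aba (S : Base G) (ha : Min G a) (hb : Min G b) (h : a * b * a ≠ 0) :
    Rel G (root ha.toAdm) (root hb.toAdm) := by
  rcases dichotomy S ha hb with h0 | ⟨d, hd, e, ho⟩
  · exact absurd h0 h
  · exact Relation.ReflTransGen.single ⟨root_mem_roots ha, root_mem_roots hb, e ▸ (special S ha hd ho).1⟩

theorem connect (S : Base G) (ha : Min G a) (hb : Min G b) (h : a * b * a = 0) {c : Module.End k M}
    (hc : Min G c) (hcdef : c = b * a - a * b) : Rel G (root ha.toAdm) (root hc.toAdm) := by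
  have hbab := bab_eq_zero S ha hb h
  have ac : a * c = 0 := by rw [hcdef, mul_sub, ← mul_assoc, h, ← mul_assoc, ha.sq]; simp
  have ca : c * a = 0 := by rw [hcdef, sub_mul, mul_assoc, ha.sq, h]; simp
  have bc : b * c = 0 := by rw [hcdef, mul_sub, ← mul_assoc, hb.sq, ← mul_assoc, hbab]; simp
  have cb : c * b = 0 := by rw [hcdef, sub_mul, hbab, mul_assoc, hb.sq]; simp
  obtain ⟨d, hd, ho⟩ := exists_opp S hc
  have hdc : Rel G (root hd.toAdm) (root hc.toAdm) := rel_of_aba S hd hc (by rw [ho.right]; exact hd.ne)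
  by_cases had : a * d * a = 0
  swap
  · exact (rel_of_aba S ha hd had).trans' hdc
  have dad := bab_eq_zero S ha hd had
  -- the linear term
  have hw : c * d * a + a * d * c ≠ 0 := by
    intro h0
    have h1 : c * d * a = 0 := by
      calc c * d * a = c * d * c * d * a + c * (d * a * d) * c := by rw [ho.left, dad]; simp
        _ = c * d * (c * d * a + a * d * c) := by simp only [mul_add, mul_assoc]
        _ = 0 := by rw [h0, mul_zero]
    have h2 : a * d * c = 0 := by rwa [h1, zero_add] at h0
    refine hc.ne ?_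
    have ea : (c * d + d * c) * a = 0 := by rw [add_mul, h1, mul_assoc, ca]; simp
    have ae : a * (c * d + d * c) = 0 := by rw [mul_add, ← mul_assoc, ac, ← mul_assoc, h2]; simp
    calc c = (c * d + d * c) * c * (c * d + d * c) := by
            rw [add_mul, ho.left, mul_assoc d c c, hc.sq, mul_zero, add_zero, mul_add, ← mul_assoc, hc.sq, zero_mul,
              zero_add, ← mul_assoc, ho.left]
      _ = (c * d + d * c) * b * (a * (c * d + d * c)) - ((c * d + d * c) * a) * b * (c * d + d * c) := by
            set e := c * d + d * c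
            rw [hcdef, mul_sub, sub_mul]
            simp only [mul_assoc]
      _ = 0 := by rw [ea, ae]; simp
  set X := fun t : k => d + t • (b * d - d * b) - (t * t) • (b * d * b) with hX
  have hXmin : ∀ t, Min G (X t) := fun t => by
    have h := hd.conj (hb.ex_mem t)
    rwa [show ((ex hb.sq t : LinearMap.GeneralLinearGroup k M) : Module.End k M) * d *
        (((ex hb.sq t)⁻¹ : LinearMap.GeneralLinearGroup k M) : Module.End k M) = X t by
      rw [coe_ex, coe_ex_inv, hX]
      simp only [add_mul, mul_sub, one_mul, mul_one, smul_mul_assoc, mul_smul_comm, smul_sub, smul_add, smul_smul]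
      module] at h
  have hlin : a * (b * d - d * b) * a = -(c * d * a + a * d * c) := by
    have e1 : a * b = b * a - c := by rw [hcdef]; abel
    have e2 : b * a = c + a * b := by rw [hcdef]; abel
    calc a * (b * d - d * b) * a = (a * b) * d * a - a * d * (b * a) := by noncomm_ring
      _ = (b * a - c) * d * a - a * d * (c + a * b) := by rw [← e1, ← e2]
      _ = b * (a * d * a) - c * d * a - (a * d * c + (a * d * a) * b) := by noncomm_ring
      _ = _ := by rw [had]; simp only [mul_zero, zero_mul]; abel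
  have hXc : ∀ t, c * X t * c = c := fun t => by
    have cb' : ∀ Y, c * (b * Y) = 0 := fun Y => by rw [← mul_assoc, cb, zero_mul]
    simp only [hX, mul_add, mul_sub, add_mul, sub_mul, mul_smul_comm, smul_mul_assoc, mul_assoc, bc, cb', mul_zero,
      zero_mul, smul_zero, sub_zero, add_zero, ← mul_assoc c d c, ho.left]
  obtain ⟨t, ht⟩ : ∃ t, a * X t * a ≠ 0 := by
    by_contra hall
    push Not at hall
    refine hw ?_
    have p1 := hall 1
    have p2 := hall (-1)
    simp only [hX, mul_add, mul_sub, add_mul, sub_mul, mul_smul_comm, smul_mul_assoc, had] at p1 p2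
    simp only [mul_sub, sub_mul] at hlin
    simp only [one_mul, one_smul, neg_mul_neg, neg_smul] at p1 p2
    have : (2 : k) • (c * d * a + a * d * c) = 0 := by
      rw [two_smul]
      linear_combination (norm := abel) p2 - p1 + hlin + hlin
    exact (smul_eq_zero.1 this).resolve_left (two_ne S.two)
  exact (rel_of_aba S ha (hXmin t) ht).trans' (rel_of_aba S (hXmin t) hc (by
    intro h0
    exact hc.ne (by rw [← hXc t, bab_eq_zero S (hXmin t) hc h0])))

theorem rel_case (S : Base G) {A B : Subgroup (LinearMap.GeneralLinearGroup k M)}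
    (hA : A ∈ quadraticRootSubgroups G) (hB : B ∈ quadraticRootSubgroups G) (h : ⁅A, B⁆ ≠ ⊥) :
    Rel G A B ∧ (¬ IsRankOnePair A B → Rel G A ⁅A, B⁆) := by
  obtain ⟨a, ha, rfl⟩ := exists_root hA
  obtain ⟨b, hb, rfl⟩ := exists_root hB
  rcases dichotomy S ha hb with h0 | ⟨d, hd, e, ho⟩
  · have hne : b * a - a * b ≠ 0 := fun e => h (commute_roots S ha hb h0 (sub_eq_zero.1 e))
    obtain ⟨hδ, h1, -⟩ := commutator_case S ha hb h0 hne
    rw [h1]
    have l := connect S ha hb h0 hδ rfl
    obtain ⟨hna, -, -⟩ := min_of_mem ha (neg_mem (self_mem_opSpace ha.toAdm)) (neg_ne_zero.2 ha.ne)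
    have r := connect S hb hna (by rw [mul_neg, neg_mul, bab_eq_zero S ha hb h0, neg_zero]) hδ
      (by rw [neg_mul, mul_neg]; abel)
    exact ⟨l.trans' r.symm, fun _ => l⟩
  · have hp := e ▸ (special S ha hd ho).1
    exact ⟨Relation.ReflTransGen.single ⟨hA, hB, hp⟩, fun hn => absurd hp hn⟩

theorem commute_of_not_rel (S : Base G) {A B : Subgroup (LinearMap.GeneralLinearGroup k M)}
    (hA : A ∈ quadraticRootSubgroups G) (hB : B ∈ quadraticRootSubgroups G) (h : ¬ Rel G A B) : ⁅A, B⁆ = ⊥ :=
  by_contra fun hne => h (rel_case S hA hB hne).1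

theorem rel_conj {g : LinearMap.GeneralLinearGroup k M} (hg : g ∈ G)
    {A B : Subgroup (LinearMap.GeneralLinearGroup k M)} (h : Rel G A B) : Rel G (conjBy A g) (conjBy B g) :=
  Relation.ReflTransGen.lift (fun C => conjBy C g) (fun C D hCD => ⟨mem_roots_conj hCD.1 hg, mem_roots_conj hCD.2.1 hg,
    RootSubgroups.Commutator.rankOne_conj hCD.2.2 g⟩) _ _ h

theorem rel_conj_self (S : Base G) {g : LinearMap.GeneralLinearGroup k M} (hg : g ∈ rootGroup G) :
    ∀ A ∈ quadraticRootSubgroups G, Rel G A (conjBy A g) := by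
  unfold rootGroup at hg
  rw [iSup_subtype'] at hg
  induction hg using Subgroup.iSup_induction' with
  | hp D x hx =>
    intro A hA
    by_cases hc : ⁅A, (D : Subgroup (LinearMap.GeneralLinearGroup k M))⁆ = ⊥
    · rw [ThreeTransp.RankOne.conjBy_eq_iff.2 (ThreeTransp.RankOne.mem_normalizer_of_centralizes fun a ha =>
        (commutator_eq_bot_iff.1 hc a ha x hx).symm)]
      exact .refl
    · have r := (rel_case S hA D.2 hc).1
      have hxG : x ∈ G := by obtain ⟨d, hd, e⟩ := exists_root D.2; exact root_le hd.toAdm (e ▸ hx)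
      have r' := rel_conj hxG r
      rw [ThreeTransp.RankOne.conjBy_eq_self_of_mem hx] at r'
      exact r.trans' r'.symm
  | h1 => intro A _; rw [ThreeTransp.RankOne.conjBy_one]; exact .refl
  | hmul x y hx hy ihx ihy =>
    intro A hA
    rw [← ThreeTransp.RankOne.conjBy_conjBy]
    have hle : (⨆ D : {D // D ∈ quadraticRootSubgroups G}, (D : Subgroup (LinearMap.GeneralLinearGroup k M))) ≤ G :=
      iSup_le fun D => by obtain ⟨d, hd, e⟩ := exists_root D.2; rw [e]; exact root_le hd.toAdm
    exact (ihy A hA).trans' (ihx _ (mem_roots_conj hA (hle hy)))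

/-- The component of a root. -/
def part (G : Subgroup (LinearMap.GeneralLinearGroup k M)) (A : Subgroup (LinearMap.GeneralLinearGroup k M)) :
    Set (Subgroup (LinearMap.GeneralLinearGroup k M)) :=
  componentOf (FAdj (quadraticRootSubgroups G)) (quadraticRootSubgroups G) A

/-- The group of a component. -/
def partGroup (G : Subgroup (LinearMap.GeneralLinearGroup k M)) (A : Subgroup (LinearMap.GeneralLinearGroup k M)) :
    Subgroup (LinearMap.GeneralLinearGroup k M) :=
  ⨆ B ∈ part G A, B

theorem le_partGroup {A B : Subgroup (LinearMap.GeneralLinearGroup k M)} (hB : B ∈ part G A) : B ≤ partGroup G A :=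
  le_iSup₂_of_le B hB le_rfl

theorem partGroup_le_root {A : Subgroup (LinearMap.GeneralLinearGroup k M)} : partGroup G A ≤ rootGroup G :=
  iSup₂_le fun B hB => le_iSup₂_of_le B hB.1 le_rfl

theorem part_conj (S : Base G) {A B : Subgroup (LinearMap.GeneralLinearGroup k M)} (hB : B ∈ part G A)
    {g : LinearMap.GeneralLinearGroup k M} (hg : g ∈ rootGroup G) : conjBy B g ∈ part G A :=
  ⟨mem_roots_conj hB.1 (rootGroup_le hg), Rel.trans' hB.2 (rel_conj_self S hg B hB.1)⟩

theorem part_commutator (S : Base G) {A B C : Subgroup (LinearMap.GeneralLinearGroup k M)} (hB : B ∈ part G A)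
    (hC : C ∈ part G A) (h : RootCommutatorCase (quadraticRootSubgroups G) B C) : ⁅B, C⁆ ∈ part G A := by
  have hne : ⁅B, C⁆ ≠ ⊥ := fun e => by
    obtain ⟨x, hx, e'⟩ := exists_root h.1
    exact root_ne_bot hx (e' ▸ e)
  refine ⟨h.1, Rel.trans' hB.2 ((rel_case S hB.1 hC.1 hne).2 fun hp => ?_)⟩
  obtain ⟨c, hc, rfl⟩ := exists_root hC.1
  exact not_central hp (root_commutative hc.toAdm) h.2.1

theorem part_pair (S : Base G) {A B C : Subgroup (LinearMap.GeneralLinearGroup k M)} (hB : B ∈ part G A)
    (hC : C ∈ part G A) : ⁅B, C⁆ = ⊥ ∨ IsRankOnePair B C ∨ RootCommutatorCase (part G A) B C := by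
  rcases pair_cases S hB.1 hC.1 with h | h | h
  · exact Or.inl h
  · exact Or.inr (Or.inl h)
  · exact Or.inr (Or.inr ⟨part_commutator S hB hC h, h.2⟩)

theorem part_class {A B : Subgroup (LinearMap.GeneralLinearGroup k M)} (hA : A ∈ quadraticRootSubgroups G)
    (hB : B ∈ part G A) : ∃ g ∈ partGroup G A, B = conjBy A g := by
  obtain ⟨hBS, hr⟩ := hB
  induction hr with
  | refl => exact ⟨1, one_mem _, (ThreeTransp.RankOne.conjBy_one A).symm⟩
  | @tail C D hAC hCD ih =>
    obtain ⟨g, hg, hgC⟩ := ih hCD.1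
    obtain ⟨x, hx, hxD⟩ := ThreeTransp.RankOne.right_mem hCD.2.2
    refine ⟨x * g, mul_mem (sup_le (le_partGroup ⟨hCD.1, hAC⟩) (le_partGroup ⟨hBS, hAC.tail hCD⟩) hx) hg, ?_⟩
    rw [← ThreeTransp.RankOne.conjBy_conjBy, ← hgC]
    exact hxD

theorem conj_pair_class (S : Base G) {A B C : Subgroup (LinearMap.GeneralLinearGroup k M)}
    (hB : B ∈ part G A) (hC : C ∈ part G A) : ∃ g ∈ partGroup G A, C = conjBy B g := by
  have hA : A ∈ quadraticRootSubgroups G := by
    rcases Relation.ReflTransGen.cases_head hB.2 with e | ⟨D, hD, -⟩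
    · exact e ▸ hB.1
    · exact hD.1
  obtain ⟨g, hg, e⟩ := part_class hA hB
  obtain ⟨g', hg', e'⟩ := part_class hA hC
  refine ⟨g' * g⁻¹, mul_mem hg' (inv_mem hg), ?_⟩
  rw [e, ThreeTransp.RankOne.conjBy_conjBy, inv_mul_cancel_right, e']

theorem part_eq {A B : Subgroup (LinearMap.GeneralLinearGroup k M)} (h : B ∈ part G A) : part G B = part G A := by
  ext C
  exact ⟨fun hC => ⟨hC.1, Rel.trans' h.2 hC.2⟩, fun hC => ⟨hC.1, Rel.trans' (Rel.symm h.2) hC.2⟩⟩

theorem part_group_commute (S : Base G) {A B : Subgroup (LinearMap.GeneralLinearGroup k M)}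
    (hAB : ¬ Rel G A B) : ⁅partGroup G A, partGroup G B⁆ = ⊥ := by
  rw [Subgroup.commutator_eq_bot_iff_le_centralizer]
  refine iSup₂_le fun C hC => ?_
  rw [Subgroup.le_centralizer_iff]
  refine iSup₂_le fun D hD => ?_
  rw [← Subgroup.commutator_eq_bot_iff_le_centralizer]
  exact commute_of_not_rel S hD.1 hC.1 fun h => hAB ((Rel.trans' hC.2 h.symm).trans' (Rel.symm hD.2))

theorem finite_parts (S : Base G) :
    Set.Finite {P | ∃ A ∈ quadraticRootSubgroups G, P = part G A} := by
  classical
  rw [← Set.finite_coe_iff]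
  set T := {P | ∃ A ∈ quadraticRootSubgroups G, P = part G A}
  have key : ∀ P : T, ∃ x, ∃ hx : Min G x, part G (root hx.toAdm) = P.1 := fun ⟨P, A, hA, e⟩ => by
    obtain ⟨x, hx, rfl⟩ := exists_root hA
    exact ⟨x, hx, e.symm⟩
  choose x hx he using key
  suffices LinearIndependent k x from this.finite
  rw [linearIndependent_iff']
  intro s c hsum i hi
  obtain ⟨d, hd, ho⟩ := exists_opp S (hx i)
  have hz : ∀ j ∈ s, j ≠ i → d * x j - x j * d = 0 := by
    intro j _ hne
    have hn : ¬ Rel G (root hd.toAdm) (root (hx j).toAdm) := fun h => by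
      refine hne (Subtype.ext ?_)
      rw [← he i, ← he j]
      exact part_eq ⟨root_mem_roots (hx j), Rel.trans' (rel_of_aba S (hx i) hd (by rw [ho.left]; exact (hx i).ne)) h⟩
    have := commutator_eq_bot_iff.1 (commute_of_not_rel S (root_mem_roots hd) (root_mem_roots (hx j)) hn) _
      (ex_mem_root _ (self_mem_opSpace _) 1) _ (ex_mem_root _ (self_mem_opSpace _) 1)
    rw [commute_iff, op_ex, op_ex, one_smul, one_smul] at this
    exact sub_eq_zero.2 this
  have h := congrArg (fun y => x i * (d * y - y * d)) hsum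
  simp only [Finset.mul_sum, Finset.sum_mul, ← Finset.sum_sub_distrib, mul_smul_comm, smul_mul_assoc,
    ← smul_sub, mul_zero, zero_mul, sub_zero] at h
  rw [Finset.sum_eq_single i (fun j hj hne => by rw [hz j hj hne]; simp) (fun h' => absurd hi h'),
    mul_sub, ← mul_assoc, ← mul_assoc, (hx i).sq, zero_mul, sub_zero] at h
  refine (smul_eq_zero.1 (?_ : c i • x i = 0)).resolve_right (hx i).ne
  rwa [ho.left] at h

end Cfsg.Agent.QuadraticPair
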