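import Mathlib

/-!
# The invertible part of an operator, as a cyclic algebra
-/

set_option linter.all false
set_option autoImplicit false

namespace Cfsg.Agent.QuadraticPair

open Polynomial

universe u

variable {k : Type u} [Field k] {A : Type*} [Ring A] [Algebra k A]

/-- A factorization `X ^ n * Q` of a polynomial killing `z`, with `Q` the exact annihilator off the kernel part. -/
structure Fit (z : A) where
  n : ℕ
  Q : k[X]
  u : k[X]
  v : k[X]
  kill : aeval z (X ^ n * Q) = 0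
  exact' : ∀ f : k[X], aeval z f = 0 → X ^ n * Q ∣ f
  bez : u * X ^ n + v * Q = 1
  unitX : ∃ q w : k[X], X * q + Q * w = 1
  deg : 0 < Q.natDegree

theorem exists_fit [FiniteDimensional k A] {z : A} (hz : ¬ IsNilpotent z) : Nonempty (Fit (k := k) z) := by
  have hint : IsIntegral k z := IsIntegral.of_finite k z
  set P := minpoly k z with hP
  have hP0 : P ≠ 0 := minpoly.ne_zero hint
  obtain ⟨Q, hQ, hndvd⟩ := exists_eq_pow_rootMultiplicity_mul_and_not_dvd P hP0 0
  rw [map_zero, sub_zero] at hQ hndvd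
  set n := P.rootMultiplicity 0
  have hco : IsCoprime (X : k[X]) Q := (Irreducible.coprime_iff_not_dvd irreducible_X).2 hndvd
  obtain ⟨u, v, huv⟩ := hco.pow_left (m := n)
  obtain ⟨q, w, hqw⟩ := hco
  refine ⟨⟨n, Q, u, v, ?_, fun f hf => ?_, huv, ⟨q, w, by linear_combination hqw⟩, ?_⟩⟩
  · rw [← hQ, hP, minpoly.aeval]
  · rw [← hQ]; exact minpoly.dvd k z hf
  · by_contra h
    refine hz ⟨n, ?_⟩
    have h0 : Q ≠ 0 := fun e => hP0 (by rw [hQ, e, mul_zero])
    obtain ⟨c, hc⟩ := natDegree_eq_zero.1 (by omega : Q.natDegree = 0)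
    have hc0 : c ≠ 0 := fun e => h0 (by rw [← hc, e, map_zero])
    have := minpoly.aeval k z
    rw [← hP, hQ, ← hc, map_mul, map_pow, aeval_X, aeval_C, ← Algebra.commutes, ← Algebra.smul_def] at this
    exact (smul_eq_zero.1 this).resolve_left hc0

namespace Fit

variable {z : A} (F : Fit (k := k) z)

/-- The idempotent. -/
noncomputable def e : A := aeval z (F.u * X ^ F.n)

/-- The algebra. -/
abbrev R : Type u := AdjoinRoot F.Q

/-- The generator. -/
noncomputable abbrev x : F.R := AdjoinRoot.root F.Q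

theorem Q_ne : F.Q ≠ 0 := fun e => by have := F.deg; rw [e, natDegree_zero] at this; omega

instance : Nontrivial F.R := by
  refine AdjoinRoot.nontrivial F.Q ?_
  rw [degree_eq_natDegree F.Q_ne]
  exact_mod_cast F.deg.ne'

theorem finite : FiniteDimensional k F.R := (AdjoinRoot.powerBasis F.Q_ne).finite

theorem surj : Function.Surjective (aeval F.x : k[X] → F.R) := by
  intro r
  obtain ⟨q, rfl⟩ := AdjoinRoot.mk_surjective r
  exact ⟨q, AdjoinRoot.aeval_eq q⟩

theorem isUnit_x : IsUnit F.x := by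
  obtain ⟨q, w, h⟩ := F.unitX
  refine IsUnit.of_mul_eq_one (AdjoinRoot.mk F.Q q) ?_
  have := congrArg (AdjoinRoot.mk F.Q) h
  rwa [map_add, map_mul, map_mul, AdjoinRoot.mk_self, zero_mul, add_zero, AdjoinRoot.mk_X, map_one] at this

theorem kill_dvd {f : k[X]} (h : X ^ F.n * F.Q ∣ f) : aeval z f = 0 := by
  obtain ⟨g, rfl⟩ := h
  rw [map_mul, F.kill, zero_mul]

/-- The embedding. -/
noncomputable def φ (r : F.R) : A :=
  aeval z (F.u * X ^ F.n * Function.surjInv AdjoinRoot.mk_surjective r)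

theorem φ_mk (q : k[X]) : F.φ (AdjoinRoot.mk F.Q q) = aeval z (F.u * X ^ F.n * q) := by
  refine sub_eq_zero.1 ?_
  rw [φ, ← map_sub, ← mul_sub]
  refine F.kill_dvd ?_
  have h := Function.surjInv_eq AdjoinRoot.mk_surjective (AdjoinRoot.mk F.Q q)
  obtain ⟨g, hg⟩ := AdjoinRoot.mk_eq_mk.1 h
  exact ⟨F.u * g, by rw [hg]; ring⟩

theorem φ_one : F.φ 1 = F.e := by
  rw [← map_one (AdjoinRoot.mk F.Q), φ_mk, mul_one, e]

theorem φ_add (r s : F.R) : F.φ (r + s) = F.φ r + F.φ s := by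
  obtain ⟨p, rfl⟩ := AdjoinRoot.mk_surjective r
  obtain ⟨q, rfl⟩ := AdjoinRoot.mk_surjective s
  rw [← map_add, φ_mk, φ_mk, φ_mk, mul_add, map_add]

theorem φ_zero : F.φ 0 = 0 := by
  rw [← map_zero (AdjoinRoot.mk F.Q), φ_mk, mul_zero, map_zero]

theorem φ_mul (r s : F.R) : F.φ (r * s) = F.φ r * F.φ s := by
  obtain ⟨p, rfl⟩ := AdjoinRoot.mk_surjective r
  obtain ⟨q, rfl⟩ := AdjoinRoot.mk_surjective s
  rw [← map_mul, φ_mk, φ_mk, φ_mk, ← map_mul]
  refine sub_eq_zero.1 ?_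
  rw [← map_sub]
  refine F.kill_dvd ⟨F.u * F.v * p * q, ?_⟩
  linear_combination -(F.u * X ^ F.n * p * q) * F.bez

theorem φ_smul (c : k) (r : F.R) : F.φ (c • r) = c • F.φ r := by
  obtain ⟨p, rfl⟩ := AdjoinRoot.mk_surjective r
  rw [Algebra.smul_def c (AdjoinRoot.mk F.Q p), AdjoinRoot.algebraMap_eq, ← AdjoinRoot.mk_C, ← map_mul, φ_mk, φ_mk,
    ← Polynomial.smul_eq_C_mul, mul_smul_comm, map_smul]

theorem φ_inj {r : F.R} (h : F.φ r = 0) : r = 0 := by
  obtain ⟨p, rfl⟩ := AdjoinRoot.mk_surjective r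
  rw [φ_mk] at h
  have h1 : F.Q ∣ F.u * X ^ F.n * p := (dvd_mul_left _ _).trans (F.exact' _ h)
  rw [AdjoinRoot.mk_eq_zero]
  have e : p = F.u * X ^ F.n * p + F.Q * (F.v * p) := by linear_combination -p * F.bez
  rw [e]
  exact dvd_add h1 (dvd_mul_right _ _)

theorem φ_x : F.φ F.x = F.e * z := by
  rw [Fit.x, ← AdjoinRoot.mk_X, φ_mk, map_mul, aeval_X, e]

theorem e_idem : F.e * F.e = F.e := by rw [← φ_one, ← φ_mul, one_mul]

theorem φ_mul_z (r : F.R) : F.φ r * z = F.φ (r * F.x) := by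
  obtain ⟨p, rfl⟩ := AdjoinRoot.mk_surjective r
  rw [Fit.x, ← AdjoinRoot.mk_X, ← map_mul, φ_mk, φ_mk, ← mul_assoc _ p X, map_mul _ _ X, aeval_X]

theorem commute_φ {y : A} (hy : Commute z y) (r : F.R) : Commute (F.φ r) y := by
  obtain ⟨p, rfl⟩ := AdjoinRoot.mk_surjective r
  rw [φ_mk]
  generalize F.u * X ^ F.n * p = f
  induction f using Polynomial.induction_on' with
  | add f g hf hg => rw [map_add]; exact hf.add_left hg
  | monomial i c =>
    rw [aeval_monomial]
    exact (Algebra.commute_algebraMap_left c y).mul_left (hy.pow_left i)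

theorem nil_part : (z - F.e * z) ^ (F.n + 1) = 0 := by
  have h : z - F.e * z = aeval z (F.v * F.Q * X) := by
    rw [show F.v * F.Q * X = X - F.u * X ^ F.n * X by linear_combination (X : k[X]) * F.bez, map_sub, map_mul _ (F.u * X ^ F.n),
      aeval_X, e]
  rw [h, ← map_pow]
  exact F.kill_dvd ⟨F.v * X * (F.v * F.Q) ^ F.n, by rw [pow_succ, mul_pow, mul_pow]; ring⟩

end Fit

end Cfsg.Agent.QuadraticPair
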