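import Cfsg.Agent.Lib.QuadraticPair.WordsField

/-!
# All unitriangular matrices are words
-/

set_option linter.all false
set_option autoImplicit false
set_option maxHeartbeats 1000000

namespace Cfsg.Agent.QuadraticPair.Generic

open Polynomial Matrix Cfsg.Agent.Forms

universe u v

variable {k : Type u} [Field k]

theorem entries_one {R : Type*} [CommRing R] (g : Matrix.SpecialLinearGroup (Fin 2) R)
    (h00 : g 0 0 = 1) (h01 : g 0 1 = 0) (h10 : g 1 0 = 0) (h11 : g 1 1 = 1) : g = 1 := by
  ext i j; fin_cases i <;> fin_cases j <;> simp [h00, h01, h10, h11]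

/-- Congruence to the identity. -/
def Cong {R : Type*} [CommRing R] (I : Ideal R) (h : Matrix.SpecialLinearGroup (Fin 2) R) : Prop :=
  ∀ i j, ((h : Matrix (Fin 2) (Fin 2) R) - 1) i j ∈ I

theorem lin_mul {R : Type*} [CommRing R] {I : Ideal R} (hI : ∀ a ∈ I, ∀ b ∈ I, a * b = 0)
    {h h' : Matrix.SpecialLinearGroup (Fin 2) R} (a : Cong I h) (b : Cong I h') :
    Cong I (h * h') ∧ ((h * h' : Matrix.SpecialLinearGroup (Fin 2) R) : Matrix (Fin 2) (Fin 2) R) - 1 =
      ((h : Matrix (Fin 2) (Fin 2) R) - 1) + ((h' : Matrix (Fin 2) (Fin 2) R) - 1) := by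
  have e : ((h * h' : Matrix.SpecialLinearGroup (Fin 2) R) : Matrix (Fin 2) (Fin 2) R) - 1 =
      ((h : Matrix (Fin 2) (Fin 2) R) - 1) + ((h' : Matrix (Fin 2) (Fin 2) R) - 1) := by
    have z : ((h : Matrix (Fin 2) (Fin 2) R) - 1) * ((h' : Matrix (Fin 2) (Fin 2) R) - 1) = 0 := by
      ext i j
      rw [Matrix.mul_apply, Matrix.zero_apply]
      exact Finset.sum_eq_zero fun l _ => hI _ (a i l) _ (b l j)
    rw [Matrix.SpecialLinearGroup.coe_mul]
    simp only [sub_mul, mul_sub, mul_one, one_mul] at z
    linear_combination (norm := abel) z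
  refine ⟨fun i j => ?_, e⟩
  rw [e, Matrix.add_apply]
  exact I.add_mem (a i j) (b i j)

theorem lin_inv {R : Type*} [CommRing R] {I : Ideal R} (hI : ∀ a ∈ I, ∀ b ∈ I, a * b = 0)
    {h : Matrix.SpecialLinearGroup (Fin 2) R} (a : Cong I h) (b : Cong I h⁻¹) :
    ((h⁻¹ : Matrix.SpecialLinearGroup (Fin 2) R) : Matrix (Fin 2) (Fin 2) R) - 1 =
      -((h : Matrix (Fin 2) (Fin 2) R) - 1) := by
  have e := (lin_mul hI a b).2
  rw [mul_inv_cancel, Matrix.SpecialLinearGroup.coe_one, sub_self] at e
  linear_combination (norm := abel) -e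

theorem conj_up {R : Type*} [CommRing R] (t : R) (h : Matrix.SpecialLinearGroup (Fin 2) R) :
    ((up t * h * (up t)⁻¹ : Matrix.SpecialLinearGroup (Fin 2) R) : Matrix (Fin 2) (Fin 2) R) =
      !![h 0 0 + t * h 1 0, h 0 1 + t * (h 1 1 - h 0 0) - t * t * h 1 0; h 1 0, h 1 1 - t * h 1 0] := by
  rw [← up_neg]
  ext i j
  fin_cases i <;> fin_cases j <;> simp [Matrix.mul_apply, Fin.sum_univ_two, Matrix.vecMul, dotProduct] <;> ring

theorem conj_wel {R : Type*} [CommRing R] (h : Matrix.SpecialLinearGroup (Fin 2) R) :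
    ((wel * h * wel⁻¹ : Matrix.SpecialLinearGroup (Fin 2) R) : Matrix (Fin 2) (Fin 2) R) =
      !![h 1 1, -h 1 0; -h 0 1, h 0 0] := by
  ext i j
  fin_cases i <;> fin_cases j <;>
    simp [Matrix.mul_apply, Fin.sum_univ_two, Matrix.vecMul, dotProduct, coe_wel, Matrix.SpecialLinearGroup.coe_inv, Matrix.adjugate_fin_two]

/-- The inductive step. -/
theorem low_step {R : Type v} [CommRing R] [Algebra k R] [Finite R] [Nontrivial R] (h2 : (2 : k) ≠ 0)
    (h3 : Nat.card k ≠ 3) {x : R} (hx : IsUnit x) (hgen : Function.Surjective (aeval x : k[X] → R))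
    {I : Ideal R} (hI : IsAtom I)
    (hg : ∃ g ∈ words k x, Matrix.SpecialLinearGroup.map (Ideal.Quotient.mk I) g =
      low (-1 : R ⧸ I)) :
    low (-1 : R) ∈ words k x := by
  classical
  set W := words k x with hW
  obtain ⟨p, hpc⟩ := CharP.exists k
  haveI := hpc
  haveI : Finite k := Finite.of_injective (algebraMap k R) (algebraMap k R).injective
  haveI hp : Fact p.Prime := ⟨CharP.char_is_prime k p⟩
  haveI : CharP R p := charP_of_injective_algebraMap (algebraMap k R).injective p
  have hp2 : p ≠ 2 := fun e => h2 (by subst e; exact_mod_cast CharP.cast_eq_zero k 2)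
  have hpodd : Odd p := hp.out.odd_of_ne_two hp2
  set φ := Matrix.SpecialLinearGroup.map (n := Fin 2) (Ideal.Quotient.mk I) with hφ
  set K := W ⊓ φ.ker with hK
  obtain ⟨g, hgW, hgφ⟩ := hg
  have memI : ∀ {a : R}, Ideal.Quotient.mk I a = 0 ↔ a ∈ I := fun {a} => Ideal.Quotient.eq_zero_iff_mem
  have hKmem : ∀ h ∈ K, h 0 0 - 1 ∈ I ∧ h 0 1 ∈ I ∧ h 1 0 ∈ I ∧ h 1 1 - 1 ∈ I := by
    intro h hh
    have e : ∀ i j, Ideal.Quotient.mk I (h i j) = (1 : Matrix (Fin 2) (Fin 2) (R ⧸ I)) i j := fun i j => by
      have := congrArg (fun m : Matrix.SpecialLinearGroup (Fin 2) (R ⧸ I) => m i j) (show φ h = 1 from hh.2)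
      simpa [hφ] using this
    refine ⟨?_, ?_, ?_, ?_⟩ <;> rw [← memI]
    · rw [map_sub, e, map_one]; simp
    · rw [e]; simp
    · rw [e]; simp
    · rw [map_sub, e, map_one]; simp
  have hlowp : ∀ a : R, low a ^ p = 1 := fun a => by
    rw [← low_nsmul, nsmul_eq_mul, CharP.cast_eq_zero, zero_mul, low_zero]
  have hupp : ∀ a : R, up a ^ p = 1 := fun a => by
    rw [← up_nsmul, nsmul_eq_mul, CharP.cast_eq_zero, zero_mul, up_zero]
  by_cases hsc : ∀ h ∈ K, h 0 1 = 0 ∧ h 1 0 = 0 ∧ h 0 0 = h 1 1
  · -- the congruence kernel is scalar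
    have comm : ∀ a u, a ∈ W → u ∈ W → u ^ p = 1 → φ a * φ u = φ u * φ a → a * u = u * a := by
      intro a u ha hu hup hau
      set h := a * u * a⁻¹ * u⁻¹ with hh
      have hK' : h ∈ K := ⟨W.mul_mem (W.mul_mem (W.mul_mem ha hu) (W.inv_mem ha)) (W.inv_mem hu), by
        show φ h = 1
        rw [hh, map_mul, map_mul, map_mul, hau, map_inv, map_inv]; simp [mul_assoc]⟩
      obtain ⟨e01, e10, e00⟩ := hsc h hK'
      have hcomm : ∀ z, h * z = z * h := fun z => by
        ext i j
        fin_cases i <;> fin_cases j <;> simp [Matrix.mul_apply, Fin.sum_univ_two, e01, e10, e00] <;> ring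
      have hd := h.det_coe
      rw [Matrix.det_fin_two, e01, zero_mul, sub_zero, e00] at hd
      have h2' : h ^ 2 = 1 := by
        rw [pow_two]
        refine entries_one _ ?_ ?_ ?_ ?_ <;> simp [Matrix.mul_apply, Fin.sum_univ_two, e01, e10, e00, hd]
      have hhu : (h * u) ^ p = 1 := by
        rw [show h * u = a * u * a⁻¹ by rw [hh, inv_mul_cancel_right], conj_pow, hup, mul_one, mul_inv_cancel]
      rw [Commute.mul_pow (hcomm u), hup, mul_one] at hhu
      obtain ⟨m, hm⟩ := hpodd
      rw [hm, pow_succ, pow_mul, h2', one_pow, one_mul] at hhu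
      rw [hh, mul_inv_eq_one, mul_inv_eq_iff_eq_mul] at hhu
      exact hhu
    have hxu : ∀ a : R, a * x = 0 → a = 0 := fun a h => hx.mul_left_eq_zero.1 h
    have hlx : low x ∈ W := by simpa using low_mem x (1 : k)
    have hu1 : up (1 : R) ∈ W := by simpa using up_mem x (1 : k)
    have hc := comm g (low x) hgW hlx (hlowp x) (by
      rw [hgφ, hφ, map_low, ← low_add, ← low_add, add_comm])
    have e00 := congrArg (fun m : Matrix.SpecialLinearGroup (Fin 2) R => m 0 0) hc
    have e10 := congrArg (fun m : Matrix.SpecialLinearGroup (Fin 2) R => m 1 0) hc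
    simp [Matrix.mul_apply, Fin.sum_univ_two] at e00 e10
    have g01 : g 0 1 = 0 := hxu _ e00
    have g11 : g 1 1 = g 0 0 := sub_eq_zero.1 (hxu _ (by linear_combination e10))
    have hd := g.det_coe
    rw [Matrix.det_fin_two, g01, zero_mul, sub_zero, g11] at hd
    set r := g 0 0
    set t := r * g 1 0 with ht
    have hgeq : ∀ m : ℕ, ((g ^ m : Matrix.SpecialLinearGroup (Fin 2) R) : Matrix (Fin 2) (Fin 2) R) =
        !![r ^ m, 0; (m : R) * t * r ^ m, r ^ m] := by
      intro m
      induction m with
      | zero => ext i j; fin_cases i <;> fin_cases j <;> simp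
      | succ m ih =>
        rw [pow_succ, Matrix.SpecialLinearGroup.coe_mul, ih]
        ext i j
        fin_cases i <;> fin_cases j <;> simp [Matrix.mul_apply, Fin.sum_univ_two, g01, g11, pow_succ]
        · rfl
        · rw [ht]
          show _ = _
          linear_combination -((r ^ m) * g 1 0) * hd
    clear_value t
    have hlow : low t ∈ W := by
      have : g ^ (p + 1) = low t := by
        obtain ⟨m, hm⟩ := hpodd.add_one
        have hr : r ^ (p + 1) = 1 := by rw [hm, ← two_mul, pow_mul, pow_two, hd, one_pow]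
        ext i j
        rw [hgeq, hr]
        fin_cases i <;> fin_cases j <;> simp
      rw [← this]; exact pow_mem hgW _
    set η := 1 + t with hη
    clear_value η
    have hηI : η ∈ I := by
      have e0 := congrArg (fun m : Matrix.SpecialLinearGroup (Fin 2) (R ⧸ I) => m 0 0) hgφ
      have e1 := congrArg (fun m : Matrix.SpecialLinearGroup (Fin 2) (R ⧸ I) => m 1 0) hgφ
      simp [hφ] at e0 e1
      rw [← memI, hη, map_add, map_one, ht, map_mul]
      show 1 + Ideal.Quotient.mk I (g 0 0) * _ = 0
      rw [e0, e1]; ring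
    set q := up 1 * low t * up 1 with hq
    have hqW : q ∈ W := mul_mem (mul_mem hu1 hlow) hu1
    have hqφ : φ q = wel := by
      have ht1 : Ideal.Quotient.mk I t = -1 := by
        rw [show t = η - 1 by rw [hη]; ring, map_sub, memI.2 hηI, map_one, zero_sub]
      rw [hq, map_mul, map_mul, hφ, map_up, map_low, map_one, ht1, wel]
    have hqq : ∀ z, φ (q * q) * z = z * φ (q * q) := fun z => by
      rw [map_mul, hqφ]
      ext i j
      fin_cases i <;> fin_cases j <;> simp [coe_wel, Matrix.mul_apply, Fin.sum_univ_two]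
    have c1 := comm (q * q) (up 1) (mul_mem hqW hqW) hu1 (hupp 1) (hqq _)
    have c2 := comm (q * q) (low x) (mul_mem hqW hqW) hlx (hlowp x) (hqq _)
    have a1 := congrArg (fun m : Matrix.SpecialLinearGroup (Fin 2) R => m 0 0) c1
    have a2 := congrArg (fun m : Matrix.SpecialLinearGroup (Fin 2) R => m 0 0) c2
    have hqe : ((q * q : Matrix.SpecialLinearGroup (Fin 2) R) : Matrix (Fin 2) (Fin 2) R) =
        !![η * η + (1 + η) * (η - 1), 2 * η * (1 + η); 2 * η * (η - 1), η * η + (1 + η) * (η - 1)] := by
      have : (q : Matrix (Fin 2) (Fin 2) R) = !![η, 1 + η; η - 1, η] := by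
        rw [hq, hη]
        ext i j
        fin_cases i <;> fin_cases j <;> simp [Matrix.mul_apply, Fin.sum_univ_two] <;> ring
      rw [Matrix.SpecialLinearGroup.coe_mul, this]
      ext i j
      fin_cases i <;> fin_cases j <;> simp [Matrix.mul_apply, Fin.sum_univ_two] <;> ring
    simp only [Matrix.SpecialLinearGroup.coe_mul (q * q), Matrix.SpecialLinearGroup.coe_mul _ (q * q), hqe] at a1 a2
    simp [Matrix.mul_apply, Fin.sum_univ_two] at a1 a2
    have b1 : 2 * η * (η - 1) = 0 := by linear_combination a1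
    have b2 : 2 * η * (1 + η) = 0 := hxu _ (by linear_combination a2)
    have b3 : 4 * η = 0 := by linear_combination b2 - b1
    have h4 : IsUnit (4 : R) := by
      rw [show (4 : R) = 2 * 2 by norm_num]
      exact (two_isUnit h2).mul (two_isUnit h2)
    rw [show (-1 : R) = t by have := h4.mul_right_eq_zero.1 b3; linear_combination -this + hη]
    exact hlow
  · push Not at hsc
    obtain ⟨h, hhK, hne⟩ := hsc
    obtain ⟨hh00, hh01, hh10, hh11⟩ := hKmem h hhK
    obtain ⟨j0, hj0, hj0ne⟩ := Submodule.exists_mem_ne_zero_of_ne_bot hI.1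
    have hgenI : ∀ z ∈ I, z ≠ 0 → ∀ y ∈ I, ∃ r, y = r * z := by
      intro z hz hz0 y hy
      rcases hI.le_iff.1 ((Ideal.span_singleton_le_iff_mem _).2 hz) with e | e
      · exact absurd (Ideal.span_singleton_eq_bot.1 e) hz0
      · obtain ⟨r, hr⟩ := Ideal.mem_span_singleton'.1 (e ▸ hy)
        exact ⟨r, hr.symm⟩
    set m : Ideal R := LinearMap.ker ((LinearMap.id : R →ₗ[R] R).smulRight j0) with hm
    have memm : ∀ r, r ∈ m ↔ r * j0 = 0 := fun r => by simp [hm]
    haveI : m.IsMaximal := Ideal.isMaximal_iff.2 ⟨fun h1 => hj0ne (by simpa using (memm 1).1 h1),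
      fun J r hJ hr hrJ => by
        obtain ⟨s, hs⟩ := hgenI _ (I.mul_mem_left r hj0) (fun e => hr ((memm r).2 e)) j0 hj0
        have : s * r - 1 ∈ m := (memm _).2 (by linear_combination -hs)
        simpa using J.sub_mem (J.mul_mem_left s hrJ) (hJ this)⟩
    letI := Ideal.Quotient.field m
    let ψA := Ideal.Quotient.mkₐ k m
    set ψ := Matrix.SpecialLinearGroup.map (n := Fin 2) (ψA : R →+* R ⧸ m) with hψ
    haveI : Finite (R ⧸ m) := Finite.of_surjective _ Ideal.Quotient.mk_surjective
    have hWtop : W.map ψ = ⊤ := by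
      rw [hW, hψ, map_words]
      exact words_field_eq_top h2 h3 (hx.map ψA).ne_zero
        (surj_comp ψA (Ideal.Quotient.mkₐ_surjective k m) hgen)
    have lift : ∀ Q : Matrix.SpecialLinearGroup (Fin 2) R, ∃ P ∈ W, ∀ i j, P i j - Q i j ∈ m := by
      intro Q
      obtain ⟨P, hP, e⟩ := hWtop.ge (Subgroup.mem_top (ψ Q))
      refine ⟨P, hP, fun i j => ?_⟩
      have := congrArg (fun z : Matrix.SpecialLinearGroup (Fin 2) (R ⧸ m) => z i j) e
      rw [← Ideal.Quotient.eq_zero_iff_mem, map_sub, sub_eq_zero]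
      simpa [hψ, ψA] using this
    by_cases hj2 : j0 * j0 = 0
    · -- square zero
      have hImul : ∀ a ∈ I, ∀ b ∈ I, a * b = 0 := by
        intro a ha b hb
        obtain ⟨r, rfl⟩ := hgenI j0 hj0 hj0ne a ha
        obtain ⟨s, rfl⟩ := hgenI j0 hj0 hj0ne b hb
        linear_combination r * s * hj2
      have hIm : ∀ a ∈ I, ∀ b ∈ m, a * b = 0 := by
        intro a ha b hb
        obtain ⟨r, rfl⟩ := hgenI j0 hj0 hj0ne a ha
        linear_combination r * (memm b).1 hb
      -- stability under every matrix
      have stab : ∀ (Q h : Matrix.SpecialLinearGroup (Fin 2) R), h ∈ K → Q * h * Q⁻¹ ∈ W := by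
        intro Q h hh
        obtain ⟨P, hP, hPQ⟩ := lift Q
        obtain ⟨q00, q01, q10, q11⟩ := hKmem h hh
        have : Q * h * Q⁻¹ = P * h * P⁻¹ := by
          have z : ∀ (a : R), a ∈ I → ∀ i j, a * Q i j = a * P i j := fun a ha i j => by
            have := hIm a ha _ (hPQ i j)
            linear_combination -this
          have hQ := Q.det_coe
          have hP' := P.det_coe
          rw [Matrix.det_fin_two] at hQ hP'
          ext i j
          rw [Matrix.SpecialLinearGroup.coe_mul, Matrix.SpecialLinearGroup.coe_mul,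
            Matrix.SpecialLinearGroup.coe_mul, Matrix.SpecialLinearGroup.coe_mul,
            Matrix.SpecialLinearGroup.coe_inv, Matrix.SpecialLinearGroup.coe_inv,
            Matrix.adjugate_fin_two, Matrix.adjugate_fin_two]
          have zz : ∀ (a : R), a ∈ I → ∀ i j i' j', a * (Q i j * Q i' j') = a * (P i j * P i' j') := by
            intro a ha i j i' j'
            linear_combination Q i' j' * z a ha i j + P i j * z a ha i' j'
          fin_cases i <;> fin_cases j <;> simp [Matrix.mul_apply, Fin.sum_univ_two]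
          · linear_combination zz _ q00 0 0 1 1 + zz _ q10 0 1 1 1 - zz _ q01 0 0 1 0 - zz _ q11 0 1 1 0 + hQ - hP'
          · linear_combination -zz _ q00 0 0 0 1 - zz _ q10 0 1 0 1 + zz _ q01 0 0 0 0 + zz _ q11 0 1 0 0
          · linear_combination zz _ q00 1 0 1 1 + zz _ q10 1 1 1 1 - zz _ q01 1 0 1 0 - zz _ q11 1 1 1 0
          · linear_combination -zz _ q00 1 0 0 1 - zz _ q10 1 1 0 1 + zz _ q01 1 0 0 0 + zz _ q11 1 1 0 0 + hQ - hP'
        rw [this]
        exact mul_mem (mul_mem hP hh.1) (inv_mem hP)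
      have hKW : ∀ {z}, z ∈ K → z ∈ W := fun hz => hz.1
      have congK : ∀ z : Matrix.SpecialLinearGroup (Fin 2) R, φ z = 1 → Cong I z := by
        intro z hz i j
        have := congrArg (fun m : Matrix.SpecialLinearGroup (Fin 2) (R ⧸ I) => m i j) hz
        rw [← memI, Matrix.sub_apply, map_sub, sub_eq_zero]
        fin_cases i <;> fin_cases j <;> simpa [hφ] using this
      have conjφ : ∀ Q z : Matrix.SpecialLinearGroup (Fin 2) R, φ z = 1 → φ (Q * z * Q⁻¹) = 1 := by
        intro Q z hz
        rw [map_mul, map_mul, map_inv, hz, mul_one, mul_inv_cancel]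
      have invφ : ∀ z : Matrix.SpecialLinearGroup (Fin 2) R, φ z = 1 → φ z⁻¹ = 1 := fun z hz => by
        rw [map_inv, hz, inv_one]
      -- from a lower entry
      have upI : ∀ h ∈ K, h 1 0 ≠ 0 → ∀ y ∈ I, up y ∈ W := by
        intro h hh hne y hy
        obtain ⟨r00, r01, r10, r11⟩ := hKmem h hh
        have hd := h.det_coe
        rw [Matrix.det_fin_two] at hd
        have sq : ∀ t : R, up (-(2 * (t * t)) * h 1 0) ∈ W := by
          intro t
          have hm := mul_mem (mul_mem (mul_mem (stab (up t) h hh) (inv_mem (hKW hh)))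
            (stab (up (-t)) h hh)) (inv_mem (hKW hh))
          have e : up t * h * (up t)⁻¹ * h⁻¹ * (up (-t) * h * (up (-t))⁻¹) * h⁻¹ =
              up (-(2 * (t * t)) * h 1 0) := by
            have ch := congK h hh.2
            have chi := congK _ (invφ h hh.2)
            have cA := congK _ (conjφ (up t) h hh.2)
            have cB := congK _ (conjφ (up (-t)) h hh.2)
            have l1 := lin_mul hImul cA chi
            have l2 := lin_mul hImul l1.1 cB
            have l3 := lin_mul hImul l2.1 chi
            refine Subtype.ext (sub_left_injective (b := (1 : Matrix (Fin 2) (Fin 2) R)) ?_)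
            show ((_ : Matrix.SpecialLinearGroup (Fin 2) R) : Matrix (Fin 2) (Fin 2) R) - 1 =
              ((_ : Matrix.SpecialLinearGroup (Fin 2) R) : Matrix (Fin 2) (Fin 2) R) - 1
            rw [l3.2, l2.2, l1.2, lin_inv hImul ch chi, conj_up, conj_up]
            ext i j
            fin_cases i <;> fin_cases j <;> simp <;> ring
          rwa [e] at hm
        obtain ⟨c, hc⟩ := hgenI _ r10 hne y hy
        obtain ⟨u8, hu8⟩ : IsUnit (-8 : R) := by
          rw [show (-8 : R) = -(2 * 2 * 2) by norm_num]
          exact (((two_isUnit h2).mul (two_isUnit h2)).mul (two_isUnit h2)).neg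
        have := mul_mem (sq (c * ((u8⁻¹ : Rˣ) : R) + 1)) (inv_mem (sq (c * ((u8⁻¹ : Rˣ) : R) - 1)))
        rw [← up_neg, ← up_add] at this
        convert this using 2
        rw [hc]
        linear_combination (-(c * h 1 0)) * u8.inv_mul + c * h 1 0 * ((u8⁻¹ : Rˣ) : R) * hu8
      have welK : ∀ z ∈ K, wel * z * wel⁻¹ ∈ K := fun z hz => ⟨stab wel z hz, by
        show φ _ = 1
        rw [map_mul, map_mul, map_inv, show φ z = 1 from hz.2]; simp⟩
      have upK : ∀ y ∈ I, up y ∈ W → up y ∈ K := fun y hy h => ⟨h, by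
        show φ _ = 1
        rw [hφ, map_up, memI.2 hy, up_zero]⟩
      have upAll : ∀ y ∈ I, up y ∈ W := by
        by_cases h10 : h 1 0 = 0
        · -- produce a lower entry
          have from_up : ∀ y, up y ∈ K → y ≠ 0 → ∀ z ∈ I, up z ∈ W := by
            intro y hyK hy0
            refine upI _ (welK _ hyK) ?_
            rw [conj_wel_up]
            simpa using hy0
          by_cases hd0 : h 0 0 = h 1 1
          · have h010 : h 0 1 ≠ 0 := fun e => hne e h10 hd0
            refine upI _ (welK _ hhK) ?_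
            rw [conj_wel]
            simpa using h010
          · have hK' : up 1 * h * (up 1)⁻¹ * h⁻¹ ∈ K := ⟨W.mul_mem (stab (up 1) h hhK) (W.inv_mem hhK.1), by
              show φ _ = 1
              rw [map_mul, map_mul, map_mul, map_inv, map_inv, show φ h = 1 from hhK.2]; simp⟩
            have e : up 1 * h * (up 1)⁻¹ * h⁻¹ = up (h 1 1 - h 0 0) := by
              have l1 := lin_mul hImul (congK _ (conjφ (up 1) h hhK.2)) (congK _ (invφ h hhK.2))
              refine Subtype.ext (sub_left_injective (b := (1 : Matrix (Fin 2) (Fin 2) R)) ?_)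
              show ((_ : Matrix.SpecialLinearGroup (Fin 2) R) : Matrix (Fin 2) (Fin 2) R) - 1 =
                ((_ : Matrix.SpecialLinearGroup (Fin 2) R) : Matrix (Fin 2) (Fin 2) R) - 1
              rw [l1.2, lin_inv hImul (congK h hhK.2) (congK _ (invφ h hhK.2)), conj_up]
              ext i j
              fin_cases i <;> fin_cases j <;> simp [h10]
            rw [e] at hK'
            exact from_up _ hK' (fun z => hd0 (sub_eq_zero.1 z).symm)
        · exact upI h hhK h10
      have lowAll : ∀ y ∈ I, low y ∈ W := fun y hy => by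
        have := stab wel _ (upK (-y) (I.neg_mem hy) (upAll _ (I.neg_mem hy)))
        rwa [conj_wel_up, neg_neg] at this
      -- correct the lift
      set d := g⁻¹ * low (-1) with hd
      have hdφ : φ d = 1 := by rw [hd, map_mul, map_inv, hgφ, hφ, map_low, map_neg, map_one, inv_mul_cancel]
      have de : ∀ i j, Ideal.Quotient.mk I (d i j) = (1 : Matrix (Fin 2) (Fin 2) (R ⧸ I)) i j := fun i j => by
        have := congrArg (fun m : Matrix.SpecialLinearGroup (Fin 2) (R ⧸ I) => m i j) hdφ
        simpa [hφ] using this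
      have d00 : d 0 0 - 1 ∈ I := by rw [← memI, map_sub, de, map_one]; simp
      have d01 : d 0 1 ∈ I := by rw [← memI, de]; simp
      have d10 : d 1 0 ∈ I := by rw [← memI, de]; simp
      have d11 : d 1 1 - 1 ∈ I := by rw [← memI, map_sub, de, map_one]; simp
      set r := d 0 0 - 1 with hr
      have hdiag := mul_mem (mul_mem (stab (low 1) _ (upK (-r) (I.neg_mem d00) (upAll _ (I.neg_mem d00))))
        (upAll r d00)) (lowAll (-r) (I.neg_mem d00))
      have key : d = low 1 * up (-r) * (low 1)⁻¹ * up r * low (-r) * up (d 0 1) * low (d 1 0) := by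
        have hdd := d.det_coe
        rw [Matrix.det_fin_two] at hdd
        have p1 := hImul _ d00 _ d00
        have p2 := hImul _ d00 _ d01
        have p3 := hImul _ d00 _ d10
        have p4 := hImul _ d01 _ d10
        have p5 := hImul _ d00 _ d11
        have e11 : d 1 1 = 1 - r := by rw [hr]; linear_combination hdd + p4 - p5
        have kup : ∀ y ∈ I, φ (up y) = 1 := fun y hy => by rw [hφ, map_up, memI.2 hy, up_zero]
        have klow : ∀ y ∈ I, φ (low y) = 1 := fun y hy => by rw [hφ, map_low, memI.2 hy, low_zero]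
        have nr : -r ∈ I := I.neg_mem d00
        have l1 := lin_mul hImul (congK _ (conjφ (low 1) _ (kup _ nr))) (congK _ (kup r d00))
        have l2 := lin_mul hImul l1.1 (congK _ (klow _ nr))
        have l3 := lin_mul hImul l2.1 (congK _ (kup _ d01))
        have l4 := lin_mul hImul l3.1 (congK _ (klow _ d10))
        refine Subtype.ext (sub_left_injective (b := (1 : Matrix (Fin 2) (Fin 2) R)) ?_)
        show ((_ : Matrix.SpecialLinearGroup (Fin 2) R) : Matrix (Fin 2) (Fin 2) R) - 1 =
          ((_ : Matrix.SpecialLinearGroup (Fin 2) R) : Matrix (Fin 2) (Fin 2) R) - 1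
        rw [l4.2, l3.2, l2.2, l1.2]
        ext i j
        fin_cases i <;> fin_cases j <;> simp [← low_neg, Matrix.mul_apply, Fin.sum_univ_two, e11, hr] <;> ring
      have hdW : d ∈ W := by
        rw [key]; exact mul_mem (mul_mem hdiag (upAll _ d01)) (lowAll _ d10)
      simpa [hd] using mul_mem hgW hdW
    · -- a field factor
      have hIm : ∀ a ∈ I, a ∈ m → a = 0 := by
        intro a ha ham
        obtain ⟨r, rfl⟩ := hgenI j0 hj0 hj0ne a ha
        rcases (Ideal.IsMaximal.isPrime (I := m) inferInstance).mem_or_mem ham with hr | hr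
        · exact (memm r).1 hr
        · exact absurd ((memm j0).1 hr) hj2
      haveI : Fintype (R ⧸ m) := Fintype.ofFinite _
      have hKn : (K.map ψ).Normal := ⟨by
        rintro _ ⟨z, hz, rfl⟩ Q
        obtain ⟨P, hP, rfl⟩ := hWtop.ge (Subgroup.mem_top Q)
        exact ⟨P * z * P⁻¹, ⟨W.mul_mem (W.mul_mem hP hz.1) (W.inv_mem hP), by
          show φ _ = 1
          rw [map_mul, map_mul, map_inv, show φ z = 1 from hz.2]; simp⟩, by simp⟩⟩
      have h4 : 4 ≤ Nat.card (R ⧸ m) := by
        refine le_trans ?_ (Nat.card_le_card_of_injective (algebraMap k (R ⧸ m)) (algebraMap k (R ⧸ m)).injective)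
        have h2' : Nat.card k ≠ 2 := fun e => h2 (by
          haveI : Fintype k := Fintype.ofFinite k
          have := Nat.cast_card_eq_zero (R := k)
          rw [← Nat.card_eq_fintype_card, e] at this
          exact_mod_cast this)
        have := Finite.one_lt_card (α := k)
        omega
      have htop : K.map ψ = ⊤ := by
        refine normal_eq_top h4 ((two_isUnit h2).ne_zero) _ ⟨ψ h, Subgroup.mem_map_of_mem ψ hhK, fun e => ?_⟩
        have hsign : ψ h 0 1 = 0 ∧ ψ h 1 0 = 0 ∧ ψ h 0 0 = ψ h 1 1 := by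
          rcases KleinPSL.pi_eq_one.1 e with e' | e' <;> simp [e']
        obtain ⟨f01, f10, f00⟩ := hsign
        simp [hψ, ψA, Ideal.Quotient.eq_zero_iff_mem] at f01 f10
        simp [hψ, ψA, Ideal.Quotient.eq] at f00
        refine hne (hIm _ hh01 f01) (hIm _ hh10 f10) (sub_eq_zero.1 (hIm _ ?_ f00))
        rw [show h 0 0 - h 1 1 = (h 0 0 - 1) - (h 1 1 - 1) by ring]
        exact I.sub_mem hh00 hh11
      obtain ⟨z, hz, ez⟩ := htop.ge (Subgroup.mem_top (ψ (g⁻¹ * low (-1))))
      have e2 : φ z = φ (g⁻¹ * low (-1)) := by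
        rw [show φ z = 1 from hz.2, map_mul, map_inv, hgφ, hφ, map_low, map_neg, map_one, inv_mul_cancel]
      have : z = g⁻¹ * low (-1) := by
        generalize g⁻¹ * low (-1 : R) = d at e2 ez ⊢
        ext i j
        refine sub_eq_zero.1 (hIm _ ?_ ?_)
        · have := congrArg (fun q : Matrix.SpecialLinearGroup (Fin 2) (R ⧸ I) => q i j) e2
          simp [hφ] at this
          rw [← memI, map_sub, sub_eq_zero]; simpa using this
        · have := congrArg (fun q : Matrix.SpecialLinearGroup (Fin 2) (R ⧸ m) => q i j) ez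
          simp [hψ, ψA] at this
          rw [← Ideal.Quotient.eq_zero_iff_mem, map_sub, sub_eq_zero]; simpa using this
      rw [this] at hz
      simpa using mul_mem hgW hz.1

theorem low_neg_one_mem (h2 : (2 : k) ≠ 0) (h3 : Nat.card k ≠ 3) :
    ∀ (N : ℕ) (R : Type v) [CommRing R] [Algebra k R] [Finite R] (x : R), Nat.card R = N → IsUnit x →
      Function.Surjective (aeval x : k[X] → R) → low (-1 : R) ∈ words k x := by
  intro N
  induction N using Nat.strong_induction_on with
  | _ N ih =>
    intro R _ _ _ x hN hx hgen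
    rcases subsingleton_or_nontrivial R with hR | hR
    · rw [Subsingleton.elim (-1 : R) 0, low_zero]; exact one_mem _
    rcases eq_bot_or_exists_atom_le (⊤ : Ideal R) with h | ⟨I, hI, -⟩
    · exact absurd h top_ne_bot
    by_cases htop : I = ⊤
    · -- a field
      subst htop
      have hfield : IsField R := by
        by_contra hf
        obtain ⟨J, h1, h2'⟩ := Ring.not_isField_iff_exists_ideal_bot_lt_and_lt_top.1 hf
        exact h1.ne' (hI.2 J h2')
      letI := hfield.toField
      rw [words_field_eq_top h2 h3 hx.ne_zero hgen]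
      exact Subgroup.mem_top _
    · haveI : Finite (R ⧸ I) := Finite.of_surjective _ Ideal.Quotient.mk_surjective
      refine low_step h2 h3 hx hgen hI ?_
      have hlt : Nat.card (R ⧸ I) < N := by
        subst hN
        haveI := Fintype.ofFinite R
        haveI := Fintype.ofFinite (R ⧸ I)
        rw [Nat.card_eq_fintype_card, Nat.card_eq_fintype_card]
        refine Fintype.card_lt_of_surjective_not_injective _ Ideal.Quotient.mk_surjective fun hinj => hI.1 ?_
        rw [← Ideal.mk_ker (I := I)]
        exact (RingHom.injective_iff_ker_eq_bot _).1 hinj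
      have := ih _ hlt (R ⧸ I) (Ideal.Quotient.mkₐ k I x) rfl (hx.map _)
        (surj_comp _ (Ideal.Quotient.mkₐ_surjective k I) hgen)
      rw [← map_words] at this
      obtain ⟨g, hg, e⟩ := this
      exact ⟨g, hg, e⟩

/-- All unitriangular matrices are words. -/
theorem up_low_mem {R : Type v} [CommRing R] [Algebra k R] [Nontrivial R] [FiniteDimensional k R]
    (h2 : (2 : k) ≠ 0) (h3 : Nat.card k ≠ 3) {x : R} (hx : IsUnit x)
    (hgen : Function.Surjective (aeval x : k[X] → R)) (r : R) : up r ∈ words k x ∧ low r ∈ words k x := by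
  suffices h : ∀ r : R, up r ∈ words k x from ⟨h r, low_of_up hx h r⟩
  rcases finite_or_infinite k with hk | hk
  · haveI : Finite R := Module.finite_of_finite k
    intro r
    obtain ⟨t, ht⟩ := id hx
    have hl1 := low_neg_one_mem h2 h3 _ R x rfl hx hgen
    have hu1 : up (1 : R) ∈ words k x := by simpa using up_mem x (1 : k)
    have hwel : (wel : Matrix.SpecialLinearGroup (Fin 2) R) ∈ words k x := mul_mem (mul_mem hu1 hl1) hu1
    have hmon : ∀ (n : ℕ) (c : k), up (algebraMap k R c * x ^ n) ∈ words k x := by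
      intro n
      induction n with
      | zero => intro c; rw [pow_zero, mul_one]; exact up_mem x c
      | succ n ih =>
        intro c
        have hl := swap_words t ht (ih c)
        rw [swapHom_up, ht, mul_assoc, ← pow_succ] at hl
        have := mul_mem (mul_mem hwel hl) (inv_mem hwel)
        rwa [conj_wel_low, neg_neg] at this
    obtain ⟨q, rfl⟩ := hgen r
    show aeval x q ∈ upSet (words k x)
    induction q using Polynomial.induction_on' with
    | add f g hf hg => rw [map_add]; exact add_mem hf hg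
    | monomial n c => rw [aeval_monomial]; exact hmon n c
  · exact up_all_infinite hx h2 hgen

end Cfsg.Agent.QuadraticPair.Generic
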