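import Cfsg.Agent.Lib.QuadraticPair.Calculus
import Cfsg.Agent.Lib.QuadraticPair.Fitting
import Cfsg.Agent.Lib.QuadraticPair.WordsRing
import Cfsg.Agent.Lib.RootSubgroups.UnipotentFamily

/-!
# A pair of minimal operators with `a b + b a` not nilpotent
-/

set_option linter.all false
set_option autoImplicit false

namespace Cfsg.Agent.QuadraticPair

open Cfsg Matrix Generic

universe u

variable {k : Type u} [Field k] {M : Type*} [AddCommGroup M] [Module k M]
  {G : Subgroup (LinearMap.GeneralLinearGroup k M)} {a b : Module.End k M}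

theorem z_comm_left (ha : a * a = 0) : Commute (a * b + b * a) a := by
  show (a * b + b * a) * a = a * (a * b + b * a)
  rw [add_mul, mul_add, mul_assoc b a a, ha, mul_zero, add_zero, ← mul_assoc a a b, ha, zero_mul, zero_add,
    mul_assoc]

theorem z_comm_right (hb : b * b = 0) : Commute (a * b + b * a) b := by
  rw [add_comm]; exact z_comm_left hb

section mats

variable (ha : a * a = 0) (hb : b * b = 0) (F : Fit (k := k) (a * b + b * a)) (y : F.R)

/-- The embedding of the matrix algebra, `y` playing the part of the inverse of `x`. -/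
noncomputable def Ψ (A : Matrix (Fin 2) (Fin 2) F.R) : Module.End k M :=
  F.φ (A 0 0 * y) * (a * b) + F.φ (A 0 1) * a + F.φ (A 1 0 * y) * b + F.φ (A 1 1 * y) * (b * a)

include ha hb in
theorem Ψ_mul (hy : F.x * y = 1) (A B : Matrix (Fin 2) (Fin 2) F.R) : Ψ F y (A * B) = Ψ F y A * Ψ F y B := by
  have hcab : Commute (a * b + b * a) (a * b) := (z_comm_left ha).mul_right (z_comm_right hb)
  have hcba : Commute (a * b + b * a) (b * a) := (z_comm_right hb).mul_right (z_comm_left ha)
  have key : ∀ (X : Module.End k M), Commute (a * b + b * a) X → ∀ (r s : F.R) (Y : Module.End k M),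
      (F.φ r * X) * (F.φ s * Y) = F.φ (r * s) * (X * Y) := by
    intro X hX r s Y
    rw [mul_assoc, ← mul_assoc X, ← (F.commute_φ hX s).eq, mul_assoc, ← mul_assoc, F.φ_mul]
  have hzz : ∀ (r : F.R) (Y : Module.End k M), F.φ r * ((a * b + b * a) * Y) = F.φ (r * F.x) * Y := fun r Y => by
    rw [← mul_assoc, F.φ_mul_z]
  have p11 : a * b * (a * b) = (a * b + b * a) * (a * b) := by
    rw [add_mul, mul_assoc b a (a * b), ← mul_assoc a a b, ha, zero_mul, mul_zero, add_zero]
  have p12 : a * b * a = (a * b + b * a) * a := by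
    rw [add_mul, mul_assoc b a a, ha, mul_zero, add_zero]
  have p13 : a * b * b = 0 := by rw [mul_assoc, hb, mul_zero]
  have p14 : a * b * (b * a) = 0 := by rw [← mul_assoc, p13, zero_mul]
  have p22 : a * a = 0 := ha
  have p21 : a * (a * b) = 0 := by rw [← mul_assoc, ha, zero_mul]
  have p24 : a * (b * a) = (a * b + b * a) * a := by rw [← mul_assoc, p12]
  have p32 : b * a * a = 0 := by rw [mul_assoc, ha, mul_zero]
  have p31 : b * (a * b) = (a * b + b * a) * b := by
    rw [add_mul, mul_assoc a b b, hb, mul_zero, zero_add, mul_assoc]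
  have p33 : b * b = 0 := hb
  have p34 : b * (b * a) = 0 := by rw [← mul_assoc, hb, zero_mul]
  have p41 : b * a * (a * b) = 0 := by rw [← mul_assoc, p32, zero_mul]
  have p43 : b * a * b = (a * b + b * a) * b := by rw [mul_assoc, p31]
  have p44 : b * a * (b * a) = (a * b + b * a) * (b * a) := by
    rw [add_mul, mul_assoc a b (b * a), p34, mul_zero, zero_add]
  simp only [Ψ, mul_add, add_mul, key _ hcab, key _ (z_comm_left ha), key _ (z_comm_right hb), key _ hcba]
  simp only [p11, p12, p13, p14, p22, p21, p24, p32, p31, p33, p34, p41, p43, p44, hzz, mul_zero, add_zero, zero_add]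
  simp only [Matrix.mul_apply, Fin.sum_univ_two]
  rw [show (A 0 0 * B 0 0 + A 0 1 * B 1 0) * y = A 0 0 * y * (B 0 0 * y) * F.x + A 0 1 * (B 1 0 * y) by
      linear_combination -(A 0 0 * B 0 0 * y) * hy,
    show A 0 0 * B 0 1 + A 0 1 * B 1 1 = A 0 0 * y * B 0 1 * F.x + A 0 1 * (B 1 1 * y) * F.x by
      linear_combination -(A 0 0 * B 0 1 + A 0 1 * B 1 1) * hy,
    show (A 1 0 * B 0 0 + A 1 1 * B 1 0) * y = A 1 0 * y * (B 0 0 * y) * F.x + A 1 1 * y * (B 1 0 * y) * F.x by
      linear_combination -(A 1 0 * B 0 0 * y + A 1 1 * B 1 0 * y) * hy,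
    show (A 1 0 * B 0 1 + A 1 1 * B 1 1) * y = A 1 0 * y * B 0 1 + A 1 1 * y * (B 1 1 * y) * F.x by
      linear_combination -(A 1 1 * B 1 1 * y) * hy]
  simp only [F.φ_add, add_mul]
  abel

theorem Ψ_one (hy : F.x * y = 1) : Ψ F y 1 = F.e := by
  simp only [Ψ, Matrix.one_apply_eq, Matrix.one_apply_ne (show (0 : Fin 2) ≠ 1 by decide),
    Matrix.one_apply_ne (show (1 : Fin 2) ≠ 0 by decide), one_mul, zero_mul, F.φ_zero, add_zero]
  rw [← mul_add, F.φ_mul_z, mul_comm y, hy, F.φ_one]

theorem e_Ψ (A : Matrix (Fin 2) (Fin 2) F.R) : F.e * Ψ F y A = Ψ F y A := by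
  simp only [Ψ, mul_add, ← mul_assoc, ← F.φ_one, ← F.φ_mul, one_mul]

include ha hb in
theorem commute_e (ha' : True) : Commute F.e a ∧ Commute F.e b := by
  rw [← F.φ_one]
  exact ⟨F.commute_φ (z_comm_left ha) 1, F.commute_φ (z_comm_right hb) 1⟩

include ha hb in
theorem Ψ_e (A : Matrix (Fin 2) (Fin 2) F.R) : Ψ F y A * F.e = Ψ F y A := by
  obtain ⟨hea, heb⟩ := commute_e ha hb F trivial
  have hφ : ∀ r, F.φ r * F.e = F.φ r := fun r => by rw [← F.φ_one, ← F.φ_mul, mul_one]
  simp only [Ψ, add_mul, mul_assoc, ← hea.eq, ← heb.eq]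
  rw [show b * (F.e * a) = F.e * (b * a) by rw [← mul_assoc, ← heb.eq, mul_assoc],
    show a * (F.e * b) = F.e * (a * b) by rw [← mul_assoc, ← hea.eq, mul_assoc]]
  simp only [← mul_assoc, hφ]

theorem Ψ_up (hy : F.x * y = 1) (r : F.R) : Ψ F y (up r : Matrix (Fin 2) (Fin 2) F.R) = F.e + F.φ r * a := by
  simp [Ψ, F.φ_zero]
  rw [add_right_comm, ← mul_add, F.φ_mul_z, mul_comm y, hy, F.φ_one]

theorem Ψ_low (hy : F.x * y = 1) (r : F.R) : Ψ F y (low r : Matrix (Fin 2) (Fin 2) F.R) = F.e + F.φ (r * y) * b := by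
  simp [Ψ, F.φ_zero]
  rw [add_right_comm, ← mul_add, F.φ_mul_z, mul_comm y, hy, F.φ_one]

end mats

/-- The group of the two scalar families. -/
def pairGroup (ha : a * a = 0) (hb : b * b = 0) : Subgroup (LinearMap.GeneralLinearGroup k M) :=
  Subgroup.closure (Set.range (ex (k := k) ha) ∪ Set.range (ex (k := k) hb))

theorem pairGroup_le (ha : Adm G a) (hb : Adm G b) : pairGroup (k := k) ha.sq hb.sq ≤ G := by
  rw [pairGroup, Subgroup.closure_le]
  rintro _ (⟨c, rfl⟩ | ⟨c, rfl⟩)
  · exact ha.ex_mem c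
  · exact hb.ex_mem c

theorem ex_inv {x : Module.End k M} (h : x * x = 0) (c : k) : (ex h c)⁻¹ = ex h (-c) :=
  Units.ext (by simp [sub_eq_add_neg])

theorem pairGroup_induction (ha : a * a = 0) (hb : b * b = 0) (P : Module.End k M → Prop)
    (h1 : P 1) (hA : ∀ c : k, P (1 + c • a)) (hB : ∀ c : k, P (1 + c • b))
    (hmul : ∀ X Y, P X → P Y → P (X * Y)) : ∀ g ∈ pairGroup (k := k) ha hb, P (g : Module.End k M) := by
  intro g hg
  induction hg using Subgroup.closure_induction'' with
  | mem x hx => rcases hx with ⟨c, rfl⟩ | ⟨c, rfl⟩; exacts [hA c, hB c]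
  | inv_mem x hx =>
    rcases hx with ⟨c, rfl⟩ | ⟨c, rfl⟩ <;> rw [ex_inv]
    · exact hA _
    · exact hB _
  | one => exact h1
  | mul x y _ _ hx hy => rw [Units.val_mul]; exact hmul _ _ hx hy

section filtration

variable (a b)

/-- Images of the nilpotent parts. -/
def filt : ℕ → Submodule k M
  | 0 => ⊤
  | j + 1 => (filt j).map a ⊔ (filt j).map b

/-- Operators dropping `m` steps. -/
def drop (m : ℕ) : Submodule k (Module.End k M) where
  carrier := {X | ∀ j, ∀ v ∈ filt a b j, X v ∈ filt a b (j + m)}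
  zero_mem' := fun j v _ => by simp
  add_mem' hX hY := fun j v hv => add_mem (hX j v hv) (hY j v hv)
  smul_mem' c _ hX := fun j v hv => Submodule.smul_mem _ c (hX j v hv)

variable {a b}

theorem drop_mul {m l : ℕ} {X Y : Module.End k M} (hX : X ∈ drop a b m) (hY : Y ∈ drop a b l) :
    X * Y ∈ drop a b (l + m) := fun j v hv => by
  rw [← add_assoc]; exact hX _ _ (hY j v hv)

theorem filt_anti (j : ℕ) : filt a b (j + 1) ≤ filt a b j := by
  induction j with
  | zero => exact le_top
  | succ j ih => exact sup_le_sup (Submodule.map_mono ih) (Submodule.map_mono ih)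

theorem drop_anti {m : ℕ} : drop a b (m + 1) ≤ drop a b m := fun X hX j v hv => filt_anti _ (hX j v hv)

theorem drop_le {m l : ℕ} (h : l ≤ m) : drop a b m ≤ drop a b l := by
  induction h with
  | refl => exact le_rfl
  | step _ ih => exact drop_anti.trans ih

theorem left_mem_drop : a ∈ drop a b 1 := fun j v hv =>
  Submodule.mem_sup_left (Submodule.mem_map_of_mem hv)

theorem right_mem_drop : b ∈ drop a b 1 := fun j v hv =>
  Submodule.mem_sup_right (Submodule.mem_map_of_mem hv)

theorem filt_two (ha : a * a = 0) (hb : b * b = 0) : ∀ j, filt a b (2 * j + 2) ≤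
    LinearMap.range ((a * b) ^ (j + 1)) ⊔ LinearMap.range ((b * a) ^ (j + 1)) := by
  have step : ∀ (U : Submodule k M), (U.map a ⊔ U.map b).map a ⊔ (U.map a ⊔ U.map b).map b =
      U.map (a * b) ⊔ U.map (b * a) := by
    intro U
    rw [Submodule.map_sup, Submodule.map_sup, ← Submodule.map_comp, ← Submodule.map_comp, ← Submodule.map_comp,
      ← Submodule.map_comp, ← Module.End.mul_eq_comp, ← Module.End.mul_eq_comp, ← Module.End.mul_eq_comp,
      ← Module.End.mul_eq_comp, ha, hb]
    simp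
  intro j
  induction j with
  | zero =>
    rw [show 2 * 0 + 2 = 0 + 1 + 1 by ring, filt, filt, filt, step]
    simp [Submodule.map_top]
  | succ j ih =>
    rw [show 2 * (j + 1) + 2 = 2 * j + 2 + 1 + 1 by ring, filt, filt, step]
    refine (sup_le_sup (Submodule.map_mono ih) (Submodule.map_mono ih)).trans ?_
    rw [Submodule.map_sup, Submodule.map_sup, ← LinearMap.range_comp, ← LinearMap.range_comp, ← LinearMap.range_comp,
      ← LinearMap.range_comp, ← Module.End.mul_eq_comp, ← Module.End.mul_eq_comp, ← Module.End.mul_eq_comp,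
      ← Module.End.mul_eq_comp, ← pow_succ', ← pow_succ', pow_succ' (b * a) j, pow_succ' (a * b) j]
    have z1 : a * b * (b * a * (b * a) ^ j) = 0 := by
      rw [← mul_assoc, show a * b * (b * a) = a * (b * b) * a by simp only [mul_assoc], hb]; simp
    have z2 : b * a * (a * b * (a * b) ^ j) = 0 := by
      rw [← mul_assoc, show b * a * (a * b) = b * (a * a) * b by simp only [mul_assoc], ha]; simp
    rw [z1, z2]
    simp

theorem filt_bot (ha : a * a = 0) (hb : b * b = 0) (hn : IsNilpotent (a * b + b * a)) : ∃ N, filt a b N = ⊥ := by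
  obtain ⟨n, hn⟩ := hn
  have hz : ∀ m, (a * b + b * a) ^ (m + 1) = (a * b) ^ (m + 1) + (b * a) ^ (m + 1) := by
    intro m
    induction m with
    | zero => simp
    | succ m ih =>
      have e1 : (a * b) ^ (m + 1) * (b * a) = 0 := by
        rw [pow_succ, mul_assoc _ (a * b) _, mul_assoc a b, ← mul_assoc b b, hb]; simp
      have e2 : (b * a) ^ (m + 1) * (a * b) = 0 := by
        rw [pow_succ, mul_assoc _ (b * a) _, mul_assoc b a, ← mul_assoc a a, ha]; simp
      rw [pow_succ, ih, add_mul, mul_add, mul_add, e1, e2, add_zero, zero_add, ← pow_succ, ← pow_succ]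
  have h0 : (a * b) ^ (n + 1) + (b * a) ^ (n + 1) = 0 := by rw [← hz, pow_succ, hn, zero_mul]
  have h1 : (a * b) ^ (n + 2) = 0 := by
    have := congrArg (a * b * ·) h0
    rw [mul_add, mul_zero, pow_succ' (b * a), ← mul_assoc, show a * b * (b * a) = a * (b * b) * a by
      simp only [mul_assoc], hb] at this
    simpa [← pow_succ'] using this
  have h2 : (b * a) ^ (n + 2) = 0 := by
    have := congrArg (b * a * ·) h0
    rw [mul_add, mul_zero, pow_succ' (a * b), ← mul_assoc, show b * a * (a * b) = b * (a * a) * b by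
      simp only [mul_assoc], ha] at this
    simpa [← pow_succ'] using this
  exact ⟨2 * (n + 1) + 2, eq_bot_iff.2 ((filt_two ha hb (n + 1)).trans (by rw [h1, h2]; simp))⟩

theorem drop_bot (ha : a * a = 0) (hb : b * b = 0) (hn : IsNilpotent (a * b + b * a)) :
    ∃ N, ∀ X ∈ drop a b N, X = 0 := by
  obtain ⟨N, hN⟩ := filt_bot ha hb hn
  refine ⟨N, fun X hX => LinearMap.ext fun v => ?_⟩
  have := hX 0 v Submodule.mem_top
  rwa [zero_add, hN, Submodule.mem_bot] at this

end filtration

theorem unipotent_of_nilpotent (ha : a * a = 0) (hb : b * b = 0) (hn : IsNilpotent (a * b + b * a)) :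
    IsUnipotentOn (pairGroup (k := k) ha hb) := by
  obtain ⟨N, hN⟩ := drop_bot ha hb hn
  refine ⟨N, fun l hl hlN => hN _ ?_⟩
  have h1 : ∀ g ∈ pairGroup (k := k) ha hb, (g : Module.End k M) - 1 ∈ drop a b 1 := by
    refine pairGroup_induction ha hb (fun X => X - 1 ∈ drop a b 1) (by simp) (fun c => ?_) (fun c => ?_) ?_
    · rw [add_sub_cancel_left]; exact Submodule.smul_mem _ c left_mem_drop
    · rw [add_sub_cancel_left]; exact Submodule.smul_mem _ c right_mem_drop
    · intro X Y hX hY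
      rw [show X * Y - 1 = (X - 1) * (Y - 1) + ((X - 1) + (Y - 1)) by
        simp only [sub_mul, mul_sub, one_mul, mul_one]; abel]
      exact add_mem (drop_le (by omega) (drop_mul hX hY)) (add_mem hX hY)
  subst hlN
  clear hN
  have key : ∀ l : List (LinearMap.GeneralLinearGroup k M), (∀ g ∈ l, g ∈ pairGroup (k := k) ha hb) →
      (l.map fun g : LinearMap.GeneralLinearGroup k M => (g : Module.End k M) - 1).prod ∈ drop a b l.length := by
    intro l hl
    induction l with
    | nil => intro j v hv; simpa using hv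
    | cons g t ih =>
      rw [List.map_cons, List.prod_cons, List.length_cons]
      exact drop_mul (h1 g (hl g (by simp))) (ih fun x hx => hl x (by simp [hx]))
  have := key l hl
  simpa [List.map_map, List.map_eq_map, Function.comp_def, List.map_flatMap, ← List.map_eq_flatMap] using this

section main

variable [FiniteDimensional k M]

/-- Every word lifts. -/
theorem exists_lift (ha : a * a = 0) (hb : b * b = 0) (F : Fit (k := k) (a * b + b * a)) {y : F.R} (hy : F.x * y = 1)
    {g : Matrix.SpecialLinearGroup (Fin 2) F.R} (hg : g ∈ words k F.x) :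
    ∃ h ∈ pairGroup (k := k) ha hb, F.e * (h : Module.End k M) = Ψ F y g := by
  have hup : ∀ c : k, F.e * ((ex ha c : LinearMap.GeneralLinearGroup k M) : Module.End k M) =
      Ψ F y (up (algebraMap k F.R c) : Matrix (Fin 2) (Fin 2) F.R) := fun c => by
    rw [Ψ_up F y hy, coe_ex, Algebra.algebraMap_eq_smul_one, F.φ_smul, F.φ_one, mul_add, mul_one, mul_smul_comm,
      smul_mul_assoc]
  have hlow : ∀ c : k, F.e * ((ex hb c : LinearMap.GeneralLinearGroup k M) : Module.End k M) =
      Ψ F y (low (algebraMap k F.R c * F.x) : Matrix (Fin 2) (Fin 2) F.R) := fun c => by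
    rw [Ψ_low F y hy, coe_ex, mul_assoc, hy, mul_one, Algebra.algebraMap_eq_smul_one, F.φ_smul, F.φ_one, mul_add,
      mul_one, mul_smul_comm, smul_mul_assoc]
  induction hg using Subgroup.closure_induction'' with
  | mem x hx =>
    rcases hx with ⟨c, rfl⟩ | ⟨c, rfl⟩
    · exact ⟨_, Subgroup.subset_closure (Or.inl ⟨c, rfl⟩), hup c⟩
    · exact ⟨_, Subgroup.subset_closure (Or.inr ⟨c, rfl⟩), hlow c⟩
  | inv_mem x hx =>
    rcases hx with ⟨c, rfl⟩ | ⟨c, rfl⟩
    · rw [← up_neg, ← map_neg]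
      exact ⟨_, Subgroup.subset_closure (Or.inl ⟨-c, rfl⟩), hup (-c)⟩
    · rw [← low_neg, ← neg_mul, ← map_neg]
      exact ⟨_, Subgroup.subset_closure (Or.inr ⟨-c, rfl⟩), hlow (-c)⟩
  | one => exact ⟨1, one_mem _, by rw [Units.val_one, mul_one, Matrix.SpecialLinearGroup.coe_one, Ψ_one F y hy]⟩
  | mul x x' _ _ hx hx' =>
    obtain ⟨h, hh, e⟩ := hx
    obtain ⟨h', hh', e'⟩ := hx'
    refine ⟨h * h', mul_mem hh hh', ?_⟩
    rw [Units.val_mul, ← mul_assoc, e, Matrix.SpecialLinearGroup.coe_mul, Ψ_mul ha hb F y hy, ← e',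
      ← mul_assoc, Ψ_e ha hb]

/-- The part `e a` is admissible. -/
theorem adm_part (hk2 : ringChar k ≠ 2) (hk3 : Nat.card k ≠ 3) (ha : Adm G a) (hb : Adm G b)
    (F : Fit (k := k) (a * b + b * a)) : Adm G (F.e * a) := by
  haveI := F.finite
  have h2 : (2 : k) ≠ 0 := Ring.two_ne_zero hk2
  obtain ⟨c, hc0, hc1⟩ := exists_sq_ne_one h2 hk3
  obtain ⟨y, hy⟩ := isUnit_iff_exists_inv.1 F.isUnit_x
  set W := words k F.x
  have hU : ∀ r, up r ∈ W ∧ low r ∈ W := fun r => up_low_mem h2 hk3 F.isUnit_x F.surj r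
  obtain ⟨hea, heb⟩ := commute_e ha.sq hb.sq F trivial
  set e := F.e with he
  have hee : e * e = e := F.e_idem
  set f := 1 - e with hf
  have hff : f * f = f := by simp [hf, sub_mul, mul_sub, hee]
  have hfa : Commute f a := (Commute.one_left a).sub_left hea
  have hfb : Commute f b := (Commute.one_left b).sub_left heb
  set a₀ := f * a
  set b₀ := f * b
  have ha₀ : a₀ * a₀ = 0 := by rw [mul_assoc, ← mul_assoc a f, ← hfa.eq, mul_assoc f a a, ha.sq]; simp
  have hb₀ : b₀ * b₀ = 0 := by rw [mul_assoc, ← mul_assoc b f, ← hfb.eq, mul_assoc f b b, hb.sq]; simp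
  have hn : IsNilpotent (a₀ * b₀ + b₀ * a₀) := by
    refine ⟨F.n + 1, ?_⟩
    have e1 : a₀ * b₀ = f * (a * b) := by rw [mul_assoc, ← mul_assoc a f, ← hfa.eq, mul_assoc f a b, ← mul_assoc, hff]
    have e2 : b₀ * a₀ = f * (b * a) := by rw [mul_assoc, ← mul_assoc b f, ← hfb.eq, mul_assoc f b a, ← mul_assoc, hff]
    rw [e1, e2, ← mul_add, hf, sub_mul, one_mul]
    exact F.nil_part
  obtain ⟨N, hN⟩ := drop_bot ha₀ hb₀ hn
  have hcom : ∀ g ∈ pairGroup (k := k) ha.sq hb.sq, Commute f (g : Module.End k M) ∧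
      f * ((g : Module.End k M) - 1) ∈ drop a₀ b₀ 1 := by
    refine pairGroup_induction ha.sq hb.sq (fun X => Commute f X ∧ f * (X - 1) ∈ drop a₀ b₀ 1)
      ⟨Commute.one_right f, by simp⟩ (fun s => ⟨(Commute.one_right f).add_right (hfa.smul_right s), ?_⟩)
      (fun s => ⟨(Commute.one_right f).add_right (hfb.smul_right s), ?_⟩) ?_
    · rw [add_sub_cancel_left, mul_smul_comm]; exact Submodule.smul_mem _ s left_mem_drop
    · rw [add_sub_cancel_left, mul_smul_comm]; exact Submodule.smul_mem _ s right_mem_drop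
    · intro X Y hX hY
      refine ⟨hX.1.mul_right hY.1, ?_⟩
      rw [show f * (X * Y - 1) = f * (X - 1) * (f * (Y - 1)) + (f * (X - 1) + f * (Y - 1)) by
        rw [mul_assoc f, ← mul_assoc (X - 1), ← (hX.1.sub_right (Commute.one_right f)).eq, mul_assoc f (X - 1),
          ← mul_assoc f f, hff]
        simp only [sub_mul, mul_sub, one_mul, mul_one]; abel]
      exact add_mem (drop_le (by omega) (drop_mul hX.2 hY.2)) (add_mem hX.2 hY.2)
  -- a diagonal word
  obtain ⟨D, hDW, hD⟩ : ∃ D ∈ W, ∀ s : k, D * up (algebraMap k F.R s) * D⁻¹ * (up (algebraMap k F.R s))⁻¹ =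
      up (algebraMap k F.R ((c * c - 1) * s)) := by
    refine ⟨up (algebraMap k F.R c) * low (algebraMap k F.R (-c⁻¹)) * up (algebraMap k F.R c) * wel⁻¹, ?_, fun s => ?_⟩
    · exact mul_mem (mul_mem (mul_mem (hU _).1 (hU _).2) (hU _).1)
        (inv_mem (mul_mem (mul_mem (hU 1).1 (hU (-1)).2) (hU 1).1))
    · rw [mul_inv_eq_iff_eq_mul, ← up_add, mul_inv_eq_iff_eq_mul]
      have hCC : algebraMap k F.R c * algebraMap k F.R c⁻¹ = 1 := by rw [← map_mul, mul_inv_cancel₀ hc0, map_one]
      rw [map_mul, map_sub, map_mul, map_one, map_neg]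
      generalize algebraMap k F.R c = C at hCC ⊢
      generalize algebraMap k F.R c⁻¹ = C' at hCC ⊢
      generalize algebraMap k F.R s = S
      have hwinv : ((wel⁻¹ : Matrix.SpecialLinearGroup (Fin 2) F.R) : Matrix (Fin 2) (Fin 2) F.R) = !![0, -1; 1, 0] := by
        rw [Matrix.SpecialLinearGroup.coe_inv, coe_wel, Matrix.adjugate_fin_two_of]; simp
      ext i j
      fin_cases i <;> fin_cases j <;>
        simp [Matrix.mul_apply, Fin.sum_univ_two, hwinv, Matrix.vecMul, dotProduct]
      all_goals simp [mul_comm C' C, hCC]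
      all_goals linear_combination (-(C * S)) * hCC
  have iter : ∀ m, ∀ s : k, ∃ g ∈ pairGroup (k := k) ha.sq hb.sq,
      e * (g : Module.End k M) = Ψ F y (up (algebraMap k F.R ((c * c - 1) ^ m * s)) : Matrix (Fin 2) (Fin 2) F.R) ∧
        f * ((g : Module.End k M) - 1) ∈ drop a₀ b₀ (m + 1) := by
    intro m
    induction m with
    | zero =>
      intro s
      obtain ⟨g, hg, hge⟩ := exists_lift ha.sq hb.sq F hy (up_mem F.x s)
      exact ⟨g, hg, by rw [pow_zero, one_mul]; exact hge, (hcom g hg).2⟩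
    | succ m ih =>
      intro s
      obtain ⟨g, hg, hge, hgd⟩ := ih s
      obtain ⟨h, hh, hhe⟩ := exists_lift ha.sq hb.sq F hy hDW
      refine ⟨h * g * h⁻¹ * g⁻¹, mul_mem (mul_mem (mul_mem hh hg) (inv_mem hh)) (inv_mem hg), ?_, ?_⟩
      · set U := up (algebraMap k F.R ((c * c - 1) ^ m * s))
        have hz : ∀ (p : LinearMap.GeneralLinearGroup k M) (q : Matrix.SpecialLinearGroup (Fin 2) F.R),
            e * (p : Module.End k M) = Ψ F y (q : Matrix (Fin 2) (Fin 2) F.R) →
            e * ((p⁻¹ : LinearMap.GeneralLinearGroup k M) : Module.End k M) = Ψ F y ((q⁻¹ : Matrix.SpecialLinearGroup (Fin 2) F.R) : Matrix (Fin 2) (Fin 2) F.R) := by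
          intro p q hpq
          have h1 : Ψ F y ((q⁻¹ : Matrix.SpecialLinearGroup (Fin 2) F.R) : Matrix (Fin 2) (Fin 2) F.R) * (e * (p : Module.End k M)) = e := by
            rw [hpq, ← Ψ_mul ha.sq hb.sq F y hy, ← Matrix.SpecialLinearGroup.coe_mul, inv_mul_cancel,
              Matrix.SpecialLinearGroup.coe_one, Ψ_one F y hy]
          rw [← mul_assoc, Ψ_e ha.sq hb.sq] at h1
          have h2 := congrArg (· * ((p⁻¹ : LinearMap.GeneralLinearGroup k M) : Module.End k M)) h1
          simpa [mul_assoc] using h2.symm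
        have hmul : ∀ (p p' : LinearMap.GeneralLinearGroup k M) (q q' : Matrix.SpecialLinearGroup (Fin 2) F.R),
            e * (p : Module.End k M) = Ψ F y (q : Matrix (Fin 2) (Fin 2) F.R) →
            e * (p' : Module.End k M) = Ψ F y (q' : Matrix (Fin 2) (Fin 2) F.R) →
            e * ((p * p' : LinearMap.GeneralLinearGroup k M) : Module.End k M) = Ψ F y ((q * q' : Matrix.SpecialLinearGroup (Fin 2) F.R) : Matrix (Fin 2) (Fin 2) F.R) := by
          intro p p' q q' h h'
          rw [Units.val_mul, ← mul_assoc, h, Matrix.SpecialLinearGroup.coe_mul, Ψ_mul ha.sq hb.sq F y hy, ← h',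
            ← mul_assoc, Ψ_e ha.sq hb.sq]
        have := hmul _ _ _ _ (hmul _ _ _ _ (hmul _ _ _ _ hhe hge) (hz _ _ hhe)) (hz _ _ hge)
        rw [this, hD, pow_succ']
        simp only [mul_assoc]
      · obtain ⟨hch, hdh⟩ := hcom h hh
        obtain ⟨hcg, -⟩ := hcom g hg
        obtain ⟨hc', hd'⟩ := hcom (h⁻¹ * g⁻¹) (mul_mem (inv_mem hh) (inv_mem hg))
        set H := (h : Module.End k M)
        set K := (g : Module.End k M)
        set L := (((h⁻¹ * g⁻¹ : LinearMap.GeneralLinearGroup k M)) : Module.End k M) with hL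
        have hKH : ((h * g * h⁻¹ * g⁻¹ : LinearMap.GeneralLinearGroup k M) : Module.End k M) - 1 = (H * K - K * H) * L := by
          have : K * H * L = 1 := by
            rw [hL, ← Units.val_mul, ← Units.val_mul, show g * h * (h⁻¹ * g⁻¹) = 1 by group, Units.val_one]
          rw [sub_mul, this, hL, ← Units.val_mul, ← Units.val_mul]
          simp only [mul_assoc]
        have cH : Commute f (H - 1) := hch.sub_right (Commute.one_right f)
        have cK : Commute f (K - 1) := hcg.sub_right (Commute.one_right f)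
        have e1 : f * ((H * K - K * H) * L) =
            (f * (H - 1) * (f * (K - 1)) - f * (K - 1) * (f * (H - 1))) +
              (f * (H - 1) * (f * (K - 1)) - f * (K - 1) * (f * (H - 1))) * (f * (L - 1)) := by
          have q : ∀ X Y : Module.End k M, Commute f X → f * X * (f * Y) = f * (X * Y) := fun X Y hX => by
            rw [mul_assoc, ← mul_assoc X, ← hX.eq, mul_assoc f X, ← mul_assoc f f, hff]
          rw [q _ _ cH, q _ _ cK, ← mul_sub,
            q _ _ ((cH.mul_right cK).sub_right (cK.mul_right cH))]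
          simp only [sub_mul, mul_sub, one_mul, mul_one]
          abel
        rw [hKH, e1]
        have d1 := drop_mul hdh hgd
        have d2 := drop_mul hgd hdh
        rw [add_comm 1 (m + 1)] at d2
        exact add_mem (sub_mem d1 d2) (drop_le (by omega) (drop_mul (sub_mem d1 d2) hd'))
  refine ⟨by rw [mul_assoc, ← mul_assoc a e, ← hea.eq, mul_assoc e a a, ha.sq]; simp, fun t => ?_⟩
  set d := c * c - 1
  have hd : d ^ N ≠ 0 := pow_ne_zero _ (sub_ne_zero.2 hc1)
  obtain ⟨g, hg, hge, hgd⟩ := iter N ((d ^ N)⁻¹ * t)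
  refine ⟨g, pairGroup_le ha hb hg, ?_⟩
  have h0 := hN _ (drop_le (Nat.le_succ N) hgd)
  rw [← mul_assoc (d ^ N), mul_inv_cancel₀ hd, one_mul, Ψ_up F y hy, Algebra.algebraMap_eq_smul_one, F.φ_smul,
    F.φ_one, smul_mul_assoc, ← he] at hge
  rw [hf, sub_mul, one_mul, sub_eq_zero, mul_sub, mul_one, hge] at h0
  linear_combination (norm := abel) h0

theorem support (hk2 : ringChar k ≠ 2) (hk3 : Nat.card k ≠ 3) (ha : Min G a) (hb : Adm G b)
    (F : Fit (k := k) (a * b + b * a)) : F.e * a = a := by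
  obtain ⟨hea, -⟩ := commute_e ha.sq hb.sq F trivial
  have hne : F.e * a ≠ 0 := by
    intro h
    have h1 : F.φ F.x = 0 := by
      rw [F.φ_x, mul_add, ← mul_assoc F.e a b, h, zero_mul, zero_add, ← mul_assoc F.e b a]
      rw [show F.e * b * a = b * (F.e * a) by
        rw [(commute_e ha.sq hb.sq F trivial).2.eq, mul_assoc], h, mul_zero]
    exact F.isUnit_x.ne_zero (F.φ_inj h1)
  obtain ⟨-, hr, -⟩ := ha.congr (adm_part hk2 hk3 ha.toAdm hb F) hne
    (by rintro _ ⟨m, rfl⟩; rw [hea.eq]; exact ⟨F.e m, rfl⟩)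
    (fun m hm => by simp [LinearMap.mem_ker.1 hm])
  refine LinearMap.ext fun m => ?_
  obtain ⟨v, hv⟩ := hr.ge ⟨m, rfl⟩
  show F.e (a m) = a m
  rw [← hv]
  exact LinearMap.congr_fun F.e_idem (a v)

/-- The homomorphism of `SL₂`. -/
noncomputable def chi (ha : a * a = 0) (hb : b * b = 0) (F : Fit (k := k) (a * b + b * a)) (y : F.R)
    (hy : F.x * y = 1) : Matrix.SpecialLinearGroup (Fin 2) F.R →* LinearMap.GeneralLinearGroup k M :=
  MonoidHom.toHomUnits
    { toFun := fun g => 1 - F.e + Ψ F y (g : Matrix (Fin 2) (Fin 2) F.R)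
      map_one' := by rw [Matrix.SpecialLinearGroup.coe_one, Ψ_one F y hy, sub_add_cancel]
      map_mul' := fun g g' => by
        rw [Matrix.SpecialLinearGroup.coe_mul, Ψ_mul ha hb F y hy]
        simp only [add_mul, mul_add, sub_mul, mul_sub, one_mul, mul_one, e_Ψ, Ψ_e ha hb, F.e_idem]
        abel }

@[simp] theorem coe_chi (ha : a * a = 0) (hb : b * b = 0) (F : Fit (k := k) (a * b + b * a)) (y : F.R)
    (hy : F.x * y = 1) (g : Matrix.SpecialLinearGroup (Fin 2) F.R) :
    (chi ha hb F y hy g : Module.End k M) = 1 - F.e + Ψ F y (g : Matrix (Fin 2) (Fin 2) F.R) := rfl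

/-- What a pair with `a b + b a` not nilpotent gives. -/
structure Pair (G : Subgroup (LinearMap.GeneralLinearGroup k M)) (a b : Module.End k M) where
  fit : Fit (k := k) (a * b + b * a)
  minL : Min G a
  minR : Min G b
  ea : fit.e * a = a
  eb : fit.e * b = b
  field : IsField fit.R
  inv : fit.R
  inv_spec : fit.x * inv = 1

theorem chi_map (ha : a * a = 0) (hb : b * b = 0) (F : Fit (k := k) (a * b + b * a)) {y : F.R}
    (hy : F.x * y = 1) (hea : F.e * a = a) (heb : F.e * b = b) :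
    (words k F.x).map (chi ha hb F y hy) = pairGroup (k := k) ha hb := by
  rw [words, pairGroup, MonoidHom.map_closure, Set.image_union, ← Set.range_comp, ← Set.range_comp]
  congr 3 <;> funext c <;> refine Units.ext ?_
  · simp only [Function.comp_apply, coe_chi, coe_ex, Ψ_up F y hy, Algebra.algebraMap_eq_smul_one, F.φ_smul,
      F.φ_one, smul_mul_assoc, hea]
    abel
  · simp only [Function.comp_apply, coe_chi, coe_ex, Ψ_low F y hy, mul_assoc, hy, mul_one,
      Algebra.algebraMap_eq_smul_one, F.φ_smul, F.φ_one, smul_mul_assoc, heb]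
    abel

theorem adm_φ_left (hk2 : ringChar k ≠ 2) (hk3 : Nat.card k ≠ 3) (ha : Adm G a) (hb : Adm G b)
    (F : Fit (k := k) (a * b + b * a)) (hea : F.e * a = a) (heb : F.e * b = b) (r : F.R) :
    Adm G (F.φ r * a) ∧ Adm G (F.φ r * b) := by
  haveI := F.finite
  obtain ⟨y, hy⟩ := isUnit_iff_exists_inv.1 F.isUnit_x
  have hW : ∀ s, up s ∈ words k F.x ∧ low s ∈ words k F.x := fun s =>
    up_low_mem (Ring.two_ne_zero hk2) hk3 F.isUnit_x F.surj s
  have hmem : ∀ g ∈ words k F.x, chi ha.sq hb.sq F y hy g ∈ G := fun g hg =>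
    pairGroup_le ha hb ((chi_map ha.sq hb.sq F hy hea heb).le ⟨g, hg, rfl⟩)
  have sq : ∀ {X : Module.End k M}, X * X = 0 → Commute (a * b + b * a) X →
      F.φ r * X * (F.φ r * X) = 0 := by
    intro X hX hc
    rw [mul_assoc, ← mul_assoc X, ← (F.commute_φ hc r).eq, mul_assoc (F.φ r), hX]
    simp
  refine ⟨⟨sq ha.sq (z_comm_left ha.sq), fun c => ?_⟩, ⟨sq hb.sq (z_comm_right hb.sq), fun c => ?_⟩⟩
  · refine ⟨_, hmem _ (hW (c • r)).1, ?_⟩
    rw [coe_chi, Ψ_up F y hy, F.φ_smul, smul_mul_assoc]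
    abel
  · refine ⟨_, hmem _ (hW (c • r * F.x)).2, ?_⟩
    rw [coe_chi, Ψ_low F y hy, mul_assoc, hy, mul_one, F.φ_smul, smul_mul_assoc]
    abel

theorem exists_pair (hk2 : ringChar k ≠ 2) (hk3 : Nat.card k ≠ 3) (ha : Min G a) (hb : Min G b)
    (hz : ¬ IsNilpotent (a * b + b * a)) : Nonempty (Pair G a b) := by
  obtain ⟨F⟩ := exists_fit (k := k) hz
  haveI := F.finite
  have hea := support hk2 hk3 ha hb.toAdm F
  have heb : F.e * b = b := by
    let F' : Fit (k := k) (b * a + a * b) :=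
      ⟨F.n, F.Q, F.u, F.v, by rw [add_comm]; exact F.kill, fun f hf => F.exact' f (by rwa [add_comm] at hf),
        F.bez, F.unitX, F.deg⟩
    have h := support hk2 hk3 hb ha.toAdm F'
    have e : F'.e = F.e := by
      show Polynomial.aeval (b * a + a * b) (F.u * Polynomial.X ^ F.n) = Polynomial.aeval (a * b + b * a) (F.u * Polynomial.X ^ F.n)
      rw [add_comm (b * a)]
    rwa [e] at h
  obtain ⟨y, hy⟩ := isUnit_iff_exists_inv.1 F.isUnit_x
  have hne : ∀ r : F.R, r ≠ 0 → F.φ r * a ≠ 0 := by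
    intro r hr h
    refine hr (F.isUnit_x.mul_left_eq_zero.1 (F.φ_inj ?_))
    rw [← F.φ_mul_z, mul_add, ← mul_assoc (F.φ r) a b, h, zero_mul, zero_add, ← mul_assoc,
      (F.commute_φ (z_comm_right hb.sq) r).eq, mul_assoc, h, mul_zero]
  have hdom : ∀ r s : F.R, r * s = 0 → r = 0 ∨ s = 0 := by
    intro r s hrs
    rcases eq_or_ne r 0 with hr | hr
    · exact Or.inl hr
    right
    by_contra hs
    refine hne s hs (LinearMap.ext fun m => ?_)
    have hc := (F.commute_φ (z_comm_left ha.sq) r).eq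
    obtain ⟨-, hR, -⟩ := ha.congr (adm_φ_left hk2 hk3 ha.toAdm hb.toAdm F hea heb r).1 (hne r hr)
      (by rintro _ ⟨v, rfl⟩; rw [hc]; exact ⟨F.φ r v, rfl⟩)
      (fun v hv => by simp [LinearMap.mem_ker.1 hv])
    obtain ⟨v, hv⟩ := hR.ge ⟨m, rfl⟩
    show F.φ s (a m) = 0
    rw [← hv]
    show (F.φ s * (F.φ r * a)) v = 0
    rw [← mul_assoc, ← F.φ_mul, mul_comm, hrs, F.φ_zero, zero_mul, LinearMap.zero_apply]
  haveI : NoZeroDivisors F.R := ⟨fun {r s} h => hdom r s h⟩
  haveI : IsDomain F.R := NoZeroDivisors.to_isDomain _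
  exact ⟨⟨F, ha, hb, hea, heb, (fieldOfFiniteDimensional k F.R).toIsField, y, hy⟩⟩

namespace Pair

variable (P : Pair G a b)

theorem inv_unit : IsUnit P.inv := IsUnit.of_mul_eq_one _ (by rw [mul_comm]; exact P.inv_spec)

/-- The opposite of `a` in the space of `b`. -/
noncomputable def opp : Module.End k M := P.fit.φ P.inv * b

theorem left_opp : a * P.opp * a = a := by
  rw [opp, ← mul_assoc a, ← (P.fit.commute_φ (z_comm_left P.minL.sq) P.inv).eq, mul_assoc (P.fit.φ P.inv) a b,
    mul_assoc, show a * b * a = (a * b + b * a) * a by rw [add_mul, mul_assoc b a a, P.minL.sq, mul_zero, add_zero],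
    ← mul_assoc, P.fit.φ_mul_z, mul_comm P.inv, P.inv_spec, P.fit.φ_one, P.ea]

theorem opp_left : P.opp * a * P.opp = P.opp := by
  rw [opp, mul_assoc _ b a, mul_assoc, ← mul_assoc (b * a), ← (P.fit.commute_φ
      ((z_comm_right P.minR.sq).mul_right (z_comm_left P.minL.sq)) P.inv).eq, mul_assoc (P.fit.φ P.inv) (b * a) b,
    show b * a * b = (a * b + b * a) * b by rw [add_mul, mul_assoc a b b, P.minR.sq, mul_zero, zero_add],
    ← mul_assoc (P.fit.φ P.inv) (a * b + b * a) b, P.fit.φ_mul_z, mul_comm P.inv P.fit.x, P.inv_spec, P.fit.φ_one,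
    P.eb]

theorem φ_mem_left (hk2 : ringChar k ≠ 2) (hk3 : Nat.card k ≠ 3) (r : P.fit.R) :
    P.fit.φ r * a ∈ opSpace P.minL.toAdm := by
  refine ⟨(adm_φ_left hk2 hk3 P.minL.toAdm P.minR.toAdm P.fit P.ea P.eb r).1, ?_,
    fun v hv => by simp [LinearMap.mem_ker.1 hv]⟩
  rintro _ ⟨v, rfl⟩
  rw [(P.fit.commute_φ (z_comm_left P.minL.sq) r).eq]
  exact ⟨P.fit.φ r v, rfl⟩

theorem φ_mem_right (hk2 : ringChar k ≠ 2) (hk3 : Nat.card k ≠ 3) (r : P.fit.R) :
    P.fit.φ r * b ∈ opSpace P.minR.toAdm := by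
  refine ⟨(adm_φ_left hk2 hk3 P.minL.toAdm P.minR.toAdm P.fit P.ea P.eb r).2, ?_,
    fun v hv => by simp [LinearMap.mem_ker.1 hv]⟩
  rintro _ ⟨v, rfl⟩
  rw [(P.fit.commute_φ (z_comm_right P.minR.sq) r).eq]
  exact ⟨P.fit.φ r v, rfl⟩

theorem opp_mem (hk2 : ringChar k ≠ 2) (hk3 : Nat.card k ≠ 3) : P.opp ∈ opSpace P.minR.toAdm :=
  P.φ_mem_right hk2 hk3 _

/-- `a b a` lies in the space of `a`. -/
theorem aba_mem (hk2 : ringChar k ≠ 2) (hk3 : Nat.card k ≠ 3) : a * b * a ∈ opSpace P.minL.toAdm := by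
  have h : P.fit.φ P.fit.x * a = a * b * a := by
    rw [P.fit.φ_x, mul_assoc, add_mul, mul_assoc b a a, P.minL.sq, mul_zero, add_zero, mul_assoc a b a,
      ← mul_assoc P.fit.e, P.ea]
  rw [← h]
  exact P.φ_mem_left hk2 hk3 _

end Pair

end main

end Cfsg.Agent.QuadraticPair
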