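import Mathlib

/-!
# Generic words in two unitriangular families over an infinite field

For a monic `P` with `P x = 0`, a generic polynomial `a` is the top left entry of an upper triangular
word: the continued fraction of `X P / a` has linear partial quotients.
-/

set_option linter.all false
set_option autoImplicit false

namespace Cfsg.Agent.QuadraticPair.Generic

open Polynomial Matrix

variable {k : Type*} [Field k] {R : Type*} [CommRing R] [Algebra k R]

/-- Upper unitriangular. -/
def up (f : R) : Matrix.SpecialLinearGroup (Fin 2) R := ⟨!![1, f; 0, 1], by simp [Matrix.det_fin_two]⟩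

/-- Lower unitriangular. -/
def low (f : R) : Matrix.SpecialLinearGroup (Fin 2) R := ⟨!![1, 0; f, 1], by simp [Matrix.det_fin_two]⟩

@[simp] theorem coe_up (f : R) : (up f : Matrix (Fin 2) (Fin 2) R) = !![1, f; 0, 1] := rfl

@[simp] theorem coe_low (f : R) : (low f : Matrix (Fin 2) (Fin 2) R) = !![1, 0; f, 1] := rfl

/-- The group generated by the two families. -/
def words (k : Type*) [Field k] [Algebra k R] (x : R) : Subgroup (Matrix.SpecialLinearGroup (Fin 2) R) :=
  Subgroup.closure (Set.range (fun c : k => up (algebraMap k R c)) ∪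
    Set.range (fun c : k => low (algebraMap k R c * x)))

theorem up_mem (x : R) (c : k) : up (algebraMap k R c) ∈ words k x :=
  Subgroup.subset_closure (Or.inl ⟨c, rfl⟩)

theorem low_mem (x : R) (c : k) : low (algebraMap k R c * x) ∈ words k x :=
  Subgroup.subset_closure (Or.inr ⟨c, rfl⟩)

/-- `(a, c)` is the first column of a word. -/
def Col (x : R) (a c : k[X]) : Prop :=
  ∃ g ∈ words k x, (g : Matrix (Fin 2) (Fin 2) R) 0 0 = aeval x a ∧ (g : Matrix (Fin 2) (Fin 2) R) 1 0 = aeval x c

theorem Col.low_step {x : R} {a c : k[X]} (h : Col x a c) (d : k) : Col x a (c + C d * X * a) := by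
  obtain ⟨g, hg, e0, e1⟩ := h
  exact ⟨low (algebraMap k R d * x) * g, mul_mem (low_mem x d) hg,
    by simp [Matrix.mul_apply, Fin.sum_univ_two, e0], by
      simp [Matrix.mul_apply, Fin.sum_univ_two, e0, e1]; ring⟩

theorem Col.up_step {x : R} {a c : k[X]} (h : Col x a c) (e : k) : Col x (a + C e * c) c := by
  obtain ⟨g, hg, e0, e1⟩ := h
  exact ⟨up (algebraMap k R e) * g, mul_mem (up_mem x e) hg,
    by simp [Matrix.mul_apply, Fin.sum_univ_two, e0, e1],
    by simp [Matrix.mul_apply, Fin.sum_univ_two, e1]⟩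

theorem col_one (x : R) : Col x (1 : k[X]) 0 :=
  ⟨1, one_mem _, by simp, by simp⟩

/-- No low-degree combination `f a + g c` with `deg f < j`. -/
def Good (c a : k[X]) (N j : ℕ) : Prop :=
  ∀ f g : k[X], (∀ s, j ≤ s → f.coeff s = 0) → (∀ s, N - j ≤ s → (f * a + g * c).coeff s = 0) → f = 0

theorem eq_C_of_coeff {p : k[X]} (h : ∀ s, 1 ≤ s → p.coeff s = 0) : p = C (p.coeff 0) := by
  ext s
  rcases s with _ | s
  · simp
  · rw [coeff_C_succ]; exact h _ (by omega)

/-- The descent. -/
theorem descend {n : ℕ} {Q a0 : k[X]} (x : R) (hA : ∀ j, 1 ≤ j → j ≤ n + 1 → Good (X * Q) a0 (n + 1) j)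
    (hB : ∀ j, 1 ≤ j → j ≤ n → Good Q a0 n j) :
    ∀ (m i : ℕ), i + m = n → ∀ a c f g f' g' : k[X],
      (∀ s, n - i < s → a.coeff s = 0) → a.coeff (n - i) ≠ 0 → a.coeff 0 = 1 →
      (∀ s, n - i + 1 < s → c.coeff s = 0) → c.coeff (n - i + 1) ≠ 0 → c.coeff 0 = 0 →
      a = f * a0 + g * (X * Q) → (∀ s, i < s → f.coeff s = 0) → f.coeff i ≠ 0 →
      c = X * (f' * a0 + g' * Q) → (∀ s, i ≤ s → f'.coeff s = 0) → Col x a c := by
  intro m
  induction m with
  | zero =>
    intro i hi a c f g f' g' ha _ ha0 hc _ hc0 _ _ _ _ _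
    have e1 : a = 1 := by
      rw [eq_C_of_coeff (p := a) fun s hs => ha s (by omega), ha0, map_one]
    have e2 : c = 0 + C (c.coeff 1) * X * 1 := by
      ext s
      rcases s with _ | _ | s
      · simp [hc0]
      · simp
      · rw [hc (s + 2) (by omega)]
        simp
    rw [e1, e2]
    exact (col_one x).low_step _
  | succ m ih =>
    intro i hi a c f g f' g' ha hat ha0 hc hct hc0 haeq hf hft hceq hf'
    obtain ⟨L, hL⟩ : ∃ L, n - i = L + 1 := ⟨n - i - 1, by omega⟩
    rw [hL] at ha hat hc hct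
    set d := c.coeff (L + 2) / a.coeff (L + 1) with hd
    have hd0 : d ≠ 0 := div_ne_zero hct hat
    set c' := c - C d * X * a with hc'def
    set F' := f' - C d * f with hF'
    set G' := g' - C d * g * X with hG'
    have hc'eq : c' = X * (F' * a0 + G' * Q) := by
      rw [hc'def, hceq, hF', hG', haeq]; ring
    have hF's : ∀ s, i + 1 ≤ s → F'.coeff s = 0 := fun s hs => by
      simp [hF', hf' s (by omega), hf s (by omega)]
    have hF'i : F'.coeff i ≠ 0 := by simp [hF', hf' i le_rfl, hd0, hft]
    have hc'c : ∀ s, L + 1 < s → c'.coeff s = 0 := by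
      intro s hs
      obtain ⟨s, rfl⟩ : ∃ t, s = t + 1 := ⟨s - 1, by omega⟩
      simp only [hc'def, coeff_sub, mul_assoc, coeff_C_mul, coeff_X_mul]
      rcases (show s = L + 1 ∨ L + 1 < s by omega) with rfl | h
      · rw [hd, div_mul_cancel₀ _ hat, sub_self]
      · rw [hc (s + 1) (by omega), ha s h, mul_zero, sub_zero]
    have hc't : c'.coeff (L + 1) ≠ 0 := by
      intro h0
      have := hB (i + 1) (by omega) (by omega) F' G' hF's fun s hs => by
        rw [← coeff_X_mul, ← hc'eq]
        rcases (show s = L ∨ L < s by omega) with rfl | h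
        · exact h0
        · exact hc'c (s + 1) (by omega)
      exact hF'i (by simp [this])
    have hc'0 : c'.coeff 0 = 0 := by rw [hc'eq, coeff_X_mul_zero]
    set e := a.coeff (L + 1) / c'.coeff (L + 1) with he
    have he0 : e ≠ 0 := div_ne_zero hat hc't
    set a' := a - C e * c' with ha'def
    set F := f - C e * (X * F') with hF
    set Gg := g - C e * G' with hGg
    have ha'eq : a' = F * a0 + Gg * (X * Q) := by
      rw [ha'def, haeq, hc'eq, hF, hGg]; ring
    have hFs : ∀ s, i + 1 < s → F.coeff s = 0 := fun s hs => by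
      obtain ⟨s, rfl⟩ : ∃ t, s = t + 1 := ⟨s - 1, by omega⟩
      simp [hF, hf (s + 1) (by omega), hF's s (by omega)]
    have hFi : F.coeff (i + 1) ≠ 0 := by
      simp [hF, hf (i + 1) (by omega), he0, hF'i]
    have ha'c : ∀ s, L < s → a'.coeff s = 0 := by
      intro s hs
      simp only [ha'def, coeff_sub, coeff_C_mul]
      rcases (show s = L + 1 ∨ L + 1 < s by omega) with rfl | h
      · rw [he, div_mul_cancel₀ _ hc't, sub_self]
      · rw [ha s h, hc'c s h, mul_zero, sub_zero]
    have ha't : a'.coeff L ≠ 0 := by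
      intro h0
      have := hA (i + 2) (by omega) (by omega) F Gg (fun s hs => hFs s (by omega)) fun s hs => by
        rw [← ha'eq]
        rcases (show s = L ∨ L < s by omega) with rfl | h
        · exact h0
        · exact ha'c s h
      exact hFi (by simp [this])
    have ha'0 : a'.coeff 0 = 1 := by simp [ha'def, hc'0, ha0]
    have hL' : n - (i + 1) = L := by omega
    have h := ih (i + 1) (by omega) a' c' F Gg F' G' (by rwa [hL']) (by rwa [hL']) ha'0 (by rwa [hL'])
      (by rwa [hL']) hc'0 ha'eq hFs hFi hc'eq hF's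
    have h2 := (h.up_step e).low_step d
    rwa [show a' + C e * c' = a by rw [ha'def]; ring, show c' + C d * X * a = c by rw [hc'def]; ring] at h2

section Coordinates

variable {n : ℕ}

/-- The polynomial with given coefficients. -/
noncomputable def poly (v : Fin (n + 1) → k) : k[X] := ∑ i, C (v i) * X ^ (i : ℕ)

/-- The window matrix, with indeterminate coefficients. -/
noncomputable def window (n : ℕ) (c : k[X]) (N j : ℕ) : Matrix (Fin j) (Fin j) (MvPolynomial (Fin (n + 1)) k) :=
  Matrix.of fun s t => ∑ i : Fin (n + 1),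
    MvPolynomial.C (((X : k[X]) ^ ((t : ℕ) + (i : ℕ)) %ₘ c).coeff (N - j + s)) * MvPolynomial.X i

theorem eval_window (v : Fin (n + 1) → k) (c : k[X]) (N j : ℕ) (s t : Fin j) :
    MvPolynomial.eval v (window n c N j s t) = ((X ^ (t : ℕ) * poly v) %ₘ c).coeff (N - j + s) := by
  simp only [window, Matrix.of_apply, poly, map_sum, map_mul, MvPolynomial.eval_C, MvPolynomial.eval_X,
    Finset.mul_sum]
  rw [← modByMonicHom_apply, map_sum, finset_sum_coeff]
  refine Finset.sum_congr rfl fun i _ => ?_
  rw [modByMonicHom_apply, mul_left_comm, ← pow_add, ← smul_eq_C_mul, smul_modByMonic, coeff_smul, smul_eq_mul,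
    mul_comm]

theorem good_of_det {c : k[X]} (hc : c.Monic) {N j : ℕ} (hN : c.natDegree = N) (hjN : j ≤ N) (v : Fin (n + 1) → k)
    (hdet : MvPolynomial.eval v (window n c N j).det ≠ 0) : Good c (poly v) N j := by
  intro f g hf hlow
  rw [RingHom.map_det] at hdet
  by_contra hf0
  set r := f * poly v + g * c with hr
  have hdeg : r.degree < c.degree := by
    rw [degree_eq_natDegree hc.ne_zero, hN]
    exact (degree_lt_iff_coeff_zero _ _).2 fun m hm => hlow m (by omega)
  have hmod : (f * poly v) %ₘ c = r := by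
    have h1 : r %ₘ c = r := (modByMonic_eq_self_iff hc).2 hdeg
    rw [← h1, hr, add_modByMonic, (modByMonic_eq_zero_iff_dvd hc).2 (dvd_mul_left c g), add_zero]
  have hfsum : f = ∑ t : Fin j, C (f.coeff t) * X ^ (t : ℕ) := by
    ext s
    rw [finset_sum_coeff]
    simp only [coeff_C_mul, coeff_X_pow, mul_ite, mul_one, mul_zero]
    by_cases hs : s < j
    · rw [Finset.sum_eq_single ⟨s, hs⟩]
      · simp
      · intro t _ ht
        rw [if_neg]
        exact fun e => ht (Fin.ext e.symm)
      · simp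
    · rw [hf s (by omega), Finset.sum_eq_zero]
      intro t _
      rw [if_neg]
      have := t.2
      omega
  refine hdet (Matrix.exists_mulVec_eq_zero_iff.1 ⟨fun t : Fin j => f.coeff t, fun e => hf0 ?_, ?_⟩)
  · rw [hfsum]
    exact Finset.sum_eq_zero fun t _ => by rw [show f.coeff t = 0 from congrFun e t]; simp
  · funext s
    show ∑ t, MvPolynomial.eval v (window n c N j s t) * f.coeff t = 0
    simp only [eval_window]
    rw [← hlow (N - j + s) (by omega), ← hmod]
    conv_rhs => rw [hfsum, Finset.sum_mul]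
    rw [← modByMonicHom_apply, map_sum, finset_sum_coeff]
    refine Finset.sum_congr rfl fun t _ => ?_
    rw [modByMonicHom_apply, mul_assoc, ← smul_eq_C_mul, smul_modByMonic, coeff_smul, smul_eq_mul, mul_comm]

theorem det_window_ne {c : k[X]} (hc : c.Monic) {N j : ℕ} (hN : c.natDegree = N) (hjN : j ≤ N)
    (hn : N - j ≤ n) : (window n c N j).det ≠ 0 := by
  intro h
  set v : Fin (n + 1) → k := Pi.single ⟨N - j, by omega⟩ 1 with hv
  have hp : poly v = X ^ (N - j) := by
    simp only [poly, hv]
    rw [Finset.sum_eq_single ⟨N - j, by omega⟩]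
    · simp
    · intro i _ hi; simp [Pi.single_eq_of_ne hi]
    · simp
  have h1 : MvPolynomial.eval v (window n c N j).det = 1 := by
    rw [RingHom.map_det]
    have : (MvPolynomial.eval v).mapMatrix (window n c N j) = 1 := by
      ext s t
      show MvPolynomial.eval v (window n c N j s t) = _
      rw [eval_window, hp, ← pow_add, (modByMonic_eq_self_iff hc).2, coeff_X_pow, Matrix.one_apply]
      · congr 1
        rw [Fin.ext_iff]
        exact propext (by omega)
      · rw [degree_X_pow, degree_eq_natDegree hc.ne_zero, hN]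
        exact_mod_cast (by omega : (t : ℕ) + (N - j) < N)
    rw [this, Matrix.det_one]
  rw [h, map_zero] at h1
  exact zero_ne_one h1

end Coordinates

variable [Nontrivial R] [FiniteDimensional k R]

theorem minpoly_coeff_zero {x : R} (hx : IsUnit x) : (minpoly k x).coeff 0 ≠ 0 := by
  intro h
  obtain ⟨P', hP'⟩ := X_dvd_iff.2 h
  have hint : IsIntegral k x := IsIntegral.of_finite k x
  have h1 := minpoly.aeval k x
  rw [hP', map_mul, aeval_X, hx.mul_right_eq_zero] at h1
  have hne : P' ≠ 0 := fun e => minpoly.ne_zero hint (by rw [hP', e, mul_zero])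
  have := natDegree_le_natDegree (minpoly.degree_le_of_ne_zero k x hne h1)
  rw [hP', natDegree_mul X_ne_zero hne, natDegree_X] at this
  omega

/-- The conclusion for a generic coefficient vector. -/
theorem exists_generic [Infinite k] {x : R} (hx : IsUnit x) :
    ∃ (n : ℕ) (Φ : MvPolynomial (Fin (n + 1)) k), Φ ≠ 0 ∧ (minpoly k x).natDegree = n ∧ 1 ≤ n ∧
      ∀ v : Fin (n + 1) → k, MvPolynomial.eval v Φ ≠ 0 →
        v 0 ≠ 0 ∧ ∃ g ∈ words k x, (g : Matrix (Fin 2) (Fin 2) R) 1 0 = 0 ∧
          v 0 • (g : Matrix (Fin 2) (Fin 2) R) 0 0 = aeval x (poly v) := by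
  have hint : IsIntegral k x := IsIntegral.of_finite k x
  set P := minpoly k x with hP
  set n := P.natDegree with hn
  have hn1 : 1 ≤ n := minpoly.natDegree_pos hint
  have hPm : P.Monic := minpoly.monic hint
  have hXP : (X * P).Monic := monic_X.mul hPm
  have hXPd : (X * P).natDegree = n + 1 := by
    rw [natDegree_mul X_ne_zero hPm.ne_zero, natDegree_X, add_comm]
  refine ⟨n, MvPolynomial.X 0 * (∏ j ∈ Finset.Icc 1 (n + 1), (window n (X * P) (n + 1) j).det) *
    ∏ j ∈ Finset.Icc 1 n, (window n P n j).det, ?_, rfl, hn1, fun v hv => ?_⟩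
  · refine mul_ne_zero (mul_ne_zero (MvPolynomial.X_ne_zero 0) ?_) ?_ <;> rw [Finset.prod_ne_zero_iff] <;>
      intro j hj <;> rw [Finset.mem_Icc] at hj
    · exact det_window_ne hXP hXPd hj.2 (by omega)
    · exact det_window_ne hPm rfl hj.2 (by omega)
  simp only [map_mul, MvPolynomial.eval_X, map_prod, mul_ne_zero_iff, Finset.prod_ne_zero_iff,
    Finset.mem_Icc] at hv
  obtain ⟨⟨hv0, hvA⟩, hvB⟩ := hv
  set a := C (v 0)⁻¹ * poly v with ha
  have scale : ∀ c N j, Good c (poly v) N j → Good c a N j := by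
    intro c N j h f g hf hlow
    refine h f (C (v 0) * g) hf fun s hs => ?_
    have := hlow s hs
    have e : C (v 0) * a = poly v := by rw [ha, ← mul_assoc, ← map_mul, mul_inv_cancel₀ hv0, map_one, one_mul]
    rw [show f * poly v + C (v 0) * g * c = C (v 0) * (f * a + g * c) by
      rw [← e]; ring, coeff_C_mul, this, mul_zero]
  have hA : ∀ j, 1 ≤ j → j ≤ n + 1 → Good (X * P) a (n + 1) j := fun j h1 h2 =>
    scale _ _ _ (good_of_det hXP hXPd h2 v (hvA j ⟨h1, h2⟩))
  have hB : ∀ j, 1 ≤ j → j ≤ n → Good P a n j := fun j h1 h2 =>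
    scale _ _ _ (good_of_det hPm rfl h2 v (hvB j ⟨h1, h2⟩))
  have hcoef : ∀ s, n < s → a.coeff s = 0 := by
    intro s hs
    rw [ha, coeff_C_mul, poly, finset_sum_coeff, Finset.sum_eq_zero, mul_zero]
    intro i _
    rw [coeff_C_mul, coeff_X_pow, if_neg, mul_zero]
    have := i.2
    omega
  have htop : a.coeff n ≠ 0 := by
    intro h0
    refine one_ne_zero (hA 1 le_rfl (by omega) 1 0 (fun s hs => ?_) fun s hs => ?_)
    · rw [coeff_one, if_neg (by omega)]
    · rw [one_mul, zero_mul, add_zero]
      rcases (show s = n ∨ n < s by omega) with rfl | h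
      · exact h0
      · exact hcoef s h
  have h0 : a.coeff 0 = 1 := by
    rw [ha, coeff_C_mul, poly, finset_sum_coeff, Finset.sum_eq_single 0]
    · simp [hv0]
    · intro i _ hi
      rw [coeff_C_mul, coeff_X_pow, if_neg, mul_zero]
      exact fun e => hi (Fin.ext e.symm)
    · simp
  obtain ⟨g, hg, g0, g1⟩ := descend x hA hB n 0 (by omega) a (X * P) 1 0 0 1 (by simpa using hcoef)
    (by simpa using htop) h0 (fun s hs => coeff_eq_zero_of_natDegree_lt (by omega))
    (by rw [Nat.sub_zero, coeff_X_mul]; rw [hn, hPm.coeff_natDegree]; exact one_ne_zero)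
    (by simp) (by ring) (fun s hs => by rw [coeff_one, if_neg (by omega)]) (by simp) (by ring) (by simp)
  refine ⟨hv0, g, hg, by rw [g1, map_mul, hP, minpoly.aeval, mul_zero], ?_⟩
  rw [g0, ha, map_mul, aeval_C, ← Algebra.smul_def, smul_smul, mul_inv_cancel₀ hv0, one_smul]

/-- The squares of the diagonals span. -/
theorem mem_span_squares [Infinite k] {x : R} (hx : IsUnit x) (h2 : (2 : k) ≠ 0)
    (hgen : Function.Surjective (aeval x : k[X] → R)) (y : R) :
    y ∈ Submodule.span k {r : R | ∃ g ∈ words k x, (g : Matrix (Fin 2) (Fin 2) R) 1 0 = 0 ∧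
      r = (g : Matrix (Fin 2) (Fin 2) R) 0 0 * (g : Matrix (Fin 2) (Fin 2) R) 0 0} := by
  classical
  obtain ⟨n, Φ, hΦ, hn, hn1, hv⟩ := exists_generic (k := k) hx
  by_contra hnot
  obtain ⟨φ, hφx, hφ⟩ := Submodule.exists_dual_map_eq_bot_of_notMem hnot inferInstance
  let Ψ : MvPolynomial (Fin (n + 1)) k :=
    ∑ i : Fin (n + 1), ∑ l : Fin (n + 1), MvPolynomial.C (φ (x ^ ((i : ℕ) + (l : ℕ)))) * MvPolynomial.X i * MvPolynomial.X l
  have hΨ : ∀ v, MvPolynomial.eval v Ψ = φ (aeval x (poly v) * aeval x (poly v)) := by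
    intro v
    simp only [Ψ, poly, map_sum, map_mul, MvPolynomial.eval_C, MvPolynomial.eval_X, Finset.sum_mul,
      Finset.mul_sum, aeval_C, map_pow, aeval_X]
    rw [Finset.sum_comm]
    refine Finset.sum_congr rfl fun i _ => Finset.sum_congr rfl fun l _ => ?_
    rw [← Algebra.smul_def, ← Algebra.smul_def, smul_mul_smul_comm, map_smul, ← pow_add, smul_eq_mul]
    ring
  have h0 : Φ * Ψ = 0 := MvPolynomial.funext fun v => by
    rw [map_mul, map_zero]
    by_cases h : MvPolynomial.eval v Φ = 0
    · rw [h, zero_mul]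
    obtain ⟨hv0, g, hg, g10, g00⟩ := hv v h
    rw [hΨ, ← g00, smul_mul_smul_comm, map_smul]
    have : φ ((g : Matrix (Fin 2) (Fin 2) R) 0 0 * (g : Matrix (Fin 2) (Fin 2) R) 0 0) = 0 := by
      have hm := Submodule.mem_map_of_mem (f := φ) (Submodule.subset_span
        (s := {r : R | ∃ g ∈ words k x, (g : Matrix (Fin 2) (Fin 2) R) 1 0 = 0 ∧
          r = (g : Matrix (Fin 2) (Fin 2) R) 0 0 * (g : Matrix (Fin 2) (Fin 2) R) 0 0}) ⟨g, hg, g10, rfl⟩)
      rw [hφ] at hm
      exact (Submodule.mem_bot k).1 hm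
    rw [this, smul_zero, mul_zero]
  have hΨ0 : Ψ = 0 := (mul_eq_zero.1 h0).resolve_left hΦ
  have sq : ∀ y : R, φ (y * y) = 0 := by
    intro y
    obtain ⟨q, rfl⟩ := hgen y
    set r := q %ₘ minpoly k x
    have hr : aeval x q = aeval x r := (aeval_modByMonic_eq_self_of_root (minpoly.aeval k x)).symm
    have hv : poly (fun i : Fin (n + 1) => r.coeff i) = r := by
      have hlt : r.natDegree < n + 1 := by
        have := natDegree_modByMonic_le q (minpoly.monic (IsIntegral.of_finite k x))
        rw [hn] at this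
        exact Nat.lt_succ_of_le this
      conv_rhs => rw [as_sum_range' r (n + 1) hlt]
      rw [poly, ← Fin.sum_univ_eq_sum_range]
      simp [C_mul_X_pow_eq_monomial]
    rw [hr, ← hv, ← hΨ, hΨ0, map_zero]
  refine hφx ?_
  have e : (4 : k) • φ y = 0 := by
    rw [← map_smul]
    have : (4 : k) • y = (y + 1) * (y + 1) - (y - 1) * (y - 1) := by
      rw [Algebra.smul_def, map_ofNat]; ring
    rw [this, map_sub, sq, sq, sub_zero]
  have h4 : (4 : k) ≠ 0 := by rw [show (4 : k) = 2 * 2 by norm_num]; exact mul_ne_zero h2 h2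
  exact (smul_eq_zero.1 e).resolve_left h4

end Cfsg.Agent.QuadraticPair.Generic
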