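import Cfsg.Agent.Lib.QuadraticPair.Frame

/-!
# Opposites, and pairs with `a b a = 0`
-/

set_option linter.all false
set_option autoImplicit false

namespace Cfsg.Agent.QuadraticPair

open Cfsg

universe u

variable {k : Type u} [Field k] {M : Type*} [AddCommGroup M] [Module k M] [FiniteDimensional k M]
  {G : Subgroup (LinearMap.GeneralLinearGroup k M)} {a b : Module.End k M}

/-- Every invariant subspace has an invariant complement. -/
def HasComplements (G : Subgroup (LinearMap.GeneralLinearGroup k M)) : Prop :=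
  ∀ V : Submodule k M, (∀ g ∈ G, ∀ v ∈ V, (g : Module.End k M) v ∈ V) →
    ∃ W : Submodule k M, (∀ g ∈ G, ∀ w ∈ W, (g : Module.End k M) w ∈ W) ∧ IsCompl V W

/-- The hypotheses for the theory of roots and components. -/
structure Base (G : Subgroup (LinearMap.GeneralLinearGroup k M)) : Prop where
  two : ringChar k ≠ 2
  three : Nat.card k ≠ 3
  compl : HasComplements G

/-- The standing hypotheses. -/
structure Setting (G : Subgroup (LinearMap.GeneralLinearGroup k M)) : Prop extends Base G where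
  irred : IsIrreducibleFor G

instance {G : Subgroup (LinearMap.GeneralLinearGroup k M)} : CoeOut (Setting G) (Base G) := ⟨Setting.toBase⟩

theorem hasComplements_of_irreducible (h : IsIrreducibleFor G) : HasComplements G := fun V hV => by
  rcases h.2 V hV with rfl | rfl
  · exact ⟨⊤, fun _ _ _ _ => Submodule.mem_top, isCompl_bot_top⟩
  · exact ⟨⊥, fun g _ w hw => by rw [Submodule.mem_bot] at hw ⊢; rw [hw, map_zero], isCompl_top_bot⟩

theorem setting_of (hk2 : ringChar k ≠ 2) (hk3 : Nat.card k ≠ 3) (hG : IsQuadraticPair G) : Setting G :=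
  ⟨⟨hk2, hk3, hasComplements_of_irreducible hG.1⟩, hG.1⟩

/-- `d` is opposite to `a`. -/
structure Opp (a d : Module.End k M) : Prop where
  left : a * d * a = a
  right : d * a * d = d

theorem Opp.symm {d : Module.End k M} (h : Opp a d) : Opp d a := ⟨h.right, h.left⟩

theorem exists_opp_of_pair (S : Base G) (ha : Min G a) (hb : Min G b) (hz : ¬ IsNilpotent (a * b + b * a)) :
    ∃ d ∈ opSpace hb.toAdm, Opp a d := by
  obtain ⟨P⟩ := exists_pair S.two S.three ha hb hz
  exact ⟨P.opp, P.opp_mem S.two S.three, P.left_opp, P.opp_left⟩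

theorem min_of_mem {x : Module.End k M} (ha : Min G a) (hx : x ∈ opSpace ha.toAdm) (hx0 : x ≠ 0) :
    Min G x ∧ LinearMap.range x = LinearMap.range a ∧ LinearMap.ker x = LinearMap.ker a :=
  ha.congr hx.1 hx0 hx.2.1 hx.2.2

theorem rk_eq (ha : Min G a) (hb : Min G b) : rk a = rk b :=
  le_antisymm (ha.min b hb.toAdm hb.ne) (hb.min a ha.toAdm ha.ne)

/-- A conjugation invariant set of admissible operators, pairwise with `x y + y x` nilpotent, is trivial. -/
theorem family_trivial (S : Base G) (P : Set (Module.End k M)) (hP : ∀ x ∈ P, Adm G x)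
    (hconj : ∀ x ∈ P, ∀ g ∈ G,
      (g : Module.End k M) * x * ((g⁻¹ : LinearMap.GeneralLinearGroup k M) : Module.End k M) ∈ P)
    (hnil : ∀ x ∈ P, ∀ y ∈ P, IsNilpotent (x * y + y * x)) {x₀ : Module.End k M} (hx₀ : x₀ ∈ P) : x₀ = 0 := by
  classical
  let W : Set (Subgroup (LinearMap.GeneralLinearGroup k M)) :=
    {A | ∃ x, ∃ hx : x ∈ P, A = Subgroup.closure (Set.range (ex (k := k) (hP x hx).sq))}
  have hWG : ∀ A ∈ W, A ≤ G := by
    rintro A ⟨x, hx, rfl⟩
    exact (Subgroup.closure_le G).2 (Set.range_subset_iff.2 fun c => (hP x hx).ex_mem c)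
  have hconjW : ∀ A ∈ W, ∀ g ∈ G, Cfsg.conjBy A g ∈ W := by
    rintro A ⟨x, hx, rfl⟩ g hg
    refine ⟨_, hconj x hx g hg, ?_⟩
    rw [Cfsg.conjBy, MonoidHom.map_closure, ← Set.range_comp]
    congr 2
    funext c
    refine Units.ext ?_
    simp only [Function.comp_apply, MulEquiv.coe_toMonoidHom, MulAut.conj_apply, Units.val_mul, coe_ex]
    rw [mul_add, mul_one, add_mul, ← Units.val_mul, mul_inv_cancel, Units.val_one, mul_smul_comm, smul_mul_assoc]
  have hpair : ∀ A ∈ W, ∀ B ∈ W, Cfsg.IsUnipotentOn (A ⊔ B) := by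
    rintro A ⟨x, hx, rfl⟩ B ⟨y, hy, rfl⟩
    rw [← Subgroup.closure_union]
    exact unipotent_of_nilpotent (hP x hx).sq (hP y hy).sq (hnil x hx y hy)
  obtain ⟨⟨n, hn⟩, hnorm⟩ : Cfsg.IsUnipotentOn (⨆ A ∈ W, A) ∧
      ∀ g ∈ G, ∀ x ∈ (⨆ A ∈ W, A), g * x * g⁻¹ ∈ (⨆ A ∈ W, A) := by
    refine ⟨?_, fun g hg x hx => ?_⟩
    · refine (unip_iff' _).2 (Cfsg.Agent.RootSubgroups.UnipotentFamily.nil_iSup (k := k) (R := Module.End k M) (W := W)
        (fun A hA B hB => (unip_iff' _).1 (hpair A hA B hB))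
        (fun A hA B hB g hg => hconjW A hA g (hWG B hB hg)))
    · have : (⨆ A ∈ W, A) ≤ (⨆ A ∈ W, A).comap (MulAut.conj g).toMonoidHom := by
        refine iSup₂_le fun A hA => ?_
        rw [← Subgroup.map_le_iff_le_comap]
        exact le_iSup₂_of_le _ (hconjW A hA g hg) le_rfl
      exact this hx
  set N := ⨆ A ∈ W, A
  have hN : ∀ c : k, ex (hP x₀ hx₀).sq c ∈ N := fun c =>
    Subgroup.mem_iSup_of_mem (Subgroup.closure (Set.range (ex (k := k) (hP x₀ hx₀).sq)))
      (Subgroup.mem_iSup_of_mem ⟨x₀, hx₀, rfl⟩ (Subgroup.subset_closure ⟨c, rfl⟩))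
  let V : Submodule k M := ⨅ x ∈ N, LinearMap.ker ((x : Module.End k M) - 1)
  have hV : ∀ {v : M}, v ∈ V ↔ ∀ x ∈ N, (x : Module.End k M) v = v := fun {v} => by
    simp only [V, Submodule.mem_iInf, LinearMap.mem_ker, LinearMap.sub_apply, Module.End.one_apply, sub_eq_zero]
  have hinv : ∀ g ∈ G, ∀ v ∈ V, (g : Module.End k M) v ∈ V := by
    intro g hg v hv
    refine hV.2 fun x hx => ?_
    show (x : Module.End k M) ((g : Module.End k M) v) = (g : Module.End k M) v
    have h' := hV.1 hv _ (hnorm g⁻¹ (inv_mem hg) x hx)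
    rw [inv_inv, Units.val_mul, Units.val_mul, Module.End.mul_apply, Module.End.mul_apply] at h'
    calc (x : Module.End k M) ((g : Module.End k M) v)
        = ((g * g⁻¹ : LinearMap.GeneralLinearGroup k M) : Module.End k M) ((x : Module.End k M) ((g : Module.End k M) v)) := by simp
      _ = (g : Module.End k M) v := by rw [Units.val_mul, Module.End.mul_apply, h']
  obtain ⟨W', hW', hc⟩ := S.compl V hinv
  suffices hWb : W' = ⊥ by
    refine LinearMap.ext fun v => ?_
    have htop : V = ⊤ := eq_top_of_isCompl_bot (hWb ▸ hc)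
    simpa using hV.1 (htop.ge (Submodule.mem_top : v ∈ ⊤)) _ (hN 1)
  have hNG : N ≤ G := iSup₂_le hWG
  by_contra hne
  obtain ⟨w₀, hw₀, hw₀0⟩ := Submodule.exists_mem_ne_zero_of_ne_bot hne
  have hex : ∃ m, ∀ l : List (LinearMap.GeneralLinearGroup k M), (∀ g ∈ l, g ∈ N) → l.length = m →
      ∀ w ∈ W', (l.map fun g : LinearMap.GeneralLinearGroup k M => (g : Module.End k M) - 1).prod w = 0 :=
    ⟨n, fun l hl hlen w _ => by
      have := hn l hl hlen
      have e : (l.map fun g : LinearMap.GeneralLinearGroup k M => (g : Module.End k M) - 1).prod = 0 := by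
        simpa [List.map_map, List.map_eq_map, Function.comp_def, List.map_flatMap, ← List.map_eq_flatMap] using this
      rw [e, LinearMap.zero_apply]⟩
  rcases Nat.eq_zero_or_pos (Nat.find hex) with h0 | h0
  · have := Nat.find_spec hex [] (by simp) (by simp [h0]) w₀ hw₀
    exact hw₀0 (by simpa using this)
  · have hmin := Nat.find_min hex (show Nat.find hex - 1 < Nat.find hex by omega)
    push Not at hmin
    obtain ⟨l, hl, hlen, w, hw, hne'⟩ := hmin
    refine hne' ?_
    have hmem : ∀ l : List (LinearMap.GeneralLinearGroup k M), (∀ g ∈ l, g ∈ N) → ∀ w ∈ W',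
        (l.map fun g : LinearMap.GeneralLinearGroup k M => (g : Module.End k M) - 1).prod w ∈ W' := by
      intro l
      induction l with
      | nil => intro _ w hw; simpa using hw
      | cons g l ih =>
        intro hl w hw
        have h' := ih (fun x hx => hl x (List.mem_cons_of_mem _ hx)) w hw
        rw [List.map_cons, List.prod_cons, Module.End.mul_apply, LinearMap.sub_apply, Module.End.one_apply]
        exact sub_mem (hW' g (hNG (hl g List.mem_cons_self)) _ h') h'
    rw [← Submodule.mem_bot k, ← hc.inf_eq_bot]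
    refine ⟨hV.2 fun x hx => ?_, hmem l hl w hw⟩
    have := Nat.find_spec hex (x :: l) (by simpa [hx] using hl) (by simp [hlen]; omega) w hw
    rw [List.map_cons, List.prod_cons] at this
    simpa [sub_eq_zero] using this
where
  unip_iff' : ∀ H : Subgroup (LinearMap.GeneralLinearGroup k M),
      Cfsg.IsUnipotentOn H ↔ Cfsg.Agent.RootSubgroups.UnipotentFamily.Nil k (R := Module.End k M) H :=
    fun H => by
      rw [Cfsg.Agent.RootSubgroups.UnipotentFamily.nil_iff]
      unfold Cfsg.IsUnipotentOn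
      simp [List.map_map, List.map_eq_map, Function.comp_def, List.map_flatMap, ← List.map_eq_flatMap]

/-- Every minimal operator has an opposite. -/
theorem exists_opp (S : Base G) (ha : Min G a) : ∃ d, Min G d ∧ Opp a d := by
  classical
  by_cases h : ∃ b, Min G b ∧ ¬ IsNilpotent (a * b + b * a)
  · obtain ⟨b, hb, hz⟩ := h
    obtain ⟨d, hd, ho⟩ := exists_opp_of_pair S ha hb hz
    refine ⟨d, (min_of_mem hb hd fun e => ha.ne ?_).1, ho⟩
    rw [← ho.left, e, mul_zero, zero_mul]
  exfalso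
  push Not at h
  refine ha.ne (family_trivial S
    {x | ∃ g ∈ G, x = (g : Module.End k M) * a * ((g⁻¹ : LinearMap.GeneralLinearGroup k M) : Module.End k M)}
    ?_ ?_ ?_ ⟨1, one_mem _, by simp⟩)
  · rintro x ⟨g, hg, rfl⟩; exact ha.toAdm.conj hg
  · rintro x ⟨g₀, hg₀, rfl⟩ g hg
    refine ⟨g * g₀, mul_mem hg hg₀, ?_⟩
    rw [mul_inv_rev, Units.val_mul, Units.val_mul]
    simp only [mul_assoc]
  · rintro x ⟨g, hg, rfl⟩ y ⟨g', hg', rfl⟩
    obtain ⟨n, hn⟩ := h _ (ha.conj (mul_mem (inv_mem hg) hg'))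
    refine ⟨n, ?_⟩
    have e : (g : Module.End k M) * a * ((g⁻¹ : LinearMap.GeneralLinearGroup k M) : Module.End k M) *
          ((g' : Module.End k M) * a * ((g'⁻¹ : LinearMap.GeneralLinearGroup k M) : Module.End k M)) +
          (g' : Module.End k M) * a * ((g'⁻¹ : LinearMap.GeneralLinearGroup k M) : Module.End k M) *
          ((g : Module.End k M) * a * ((g⁻¹ : LinearMap.GeneralLinearGroup k M) : Module.End k M)) =
        (g : Module.End k M) * (a * (((g⁻¹ * g' : LinearMap.GeneralLinearGroup k M) : Module.End k M) * a *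
            (((g⁻¹ * g')⁻¹ : LinearMap.GeneralLinearGroup k M) : Module.End k M)) +
          ((g⁻¹ * g' : LinearMap.GeneralLinearGroup k M) : Module.End k M) * a *
            (((g⁻¹ * g')⁻¹ : LinearMap.GeneralLinearGroup k M) : Module.End k M) * a) *
          ((g⁻¹ : LinearMap.GeneralLinearGroup k M) : Module.End k M) := by
      rw [mul_inv_rev, inv_inv]
      simp only [Units.val_mul, mul_add, add_mul, mul_assoc]
      simp only [← mul_assoc (g : Module.End k M) ((g⁻¹ : LinearMap.GeneralLinearGroup k M) : Module.End k M),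
        Units.mul_inv, Units.inv_mul, one_mul, mul_one]
    rw [e, Units.conj_pow, hn]
    simp

theorem nilpotent_of_aba (ha : a * a = 0) (hb : b * b = 0) (h : a * b * a = 0) : IsNilpotent (a * b + b * a) := by
  refine ⟨3, ?_⟩
  have h' : ∀ Y, a * (b * (a * Y)) = 0 := fun Y => by rw [← mul_assoc, ← mul_assoc, h, zero_mul]
  have h'' : a * (b * a) = 0 := by rw [← mul_assoc, h]
  simp [pow_succ, mul_add, add_mul, mul_assoc, sq_left ha, sq_left hb, ha, hb, h', h'']

theorem bab_eq_zero (S : Base G) (ha : Min G a) (hb : Min G b) (h : a * b * a = 0) : b * a * b = 0 := by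
  obtain ⟨n, hn⟩ := nilpotent_of_aba ha.sq hb.sq h
  exact (nil_aba S.two n ha hb hn).2

/-- The relation `a b a = 0` only depends on the spaces. -/
theorem left_zero (S : Base G) (ha : Min G a) (hb : Min G b) (h : a * b * a = 0) {y : Module.End k M}
    (hy : y ∈ opSpace hb.toAdm) : a * y * a = 0 := by
  rcases eq_or_ne y 0 with rfl | hy0
  · simp
  obtain ⟨hym, hyR, hyK⟩ := min_of_mem hb hy hy0
  by_cases hn : IsNilpotent (a * y + y * a)
  · obtain ⟨n, hn⟩ := hn; exact (nil_aba S.two n ha hym hn).1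
  exfalso
  obtain ⟨d, hd, ho⟩ := exists_opp_of_pair S ha hym hn
  have hdR : LinearMap.range d ≤ LinearMap.range b := hd.2.1.trans hyR.le
  have hdK : LinearMap.ker b ≤ LinearMap.ker d := hyK.ge.trans hd.2.2
  have hcap : LinearMap.range a ⊓ LinearMap.ker b = ⊥ := by
    rw [eq_bot_iff]
    rintro _ ⟨⟨m, rfl⟩, hm⟩
    have hdm : d (a m) = 0 := LinearMap.mem_ker.1 (hdK hm)
    rw [Submodule.mem_bot, ← ho.left]
    show a (d (a m)) = 0
    rw [hdm, map_zero]
  have hinj : Function.Injective (b.domRestrict (LinearMap.range a)) := by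
    rw [← LinearMap.ker_eq_bot, eq_bot_iff]
    intro u hu
    have : (u : M) ∈ LinearMap.range a ⊓ LinearMap.ker b := ⟨u.2, hu⟩
    rw [hcap, Submodule.mem_bot] at this
    exact Subtype.ext this
  have hmap : (LinearMap.range a).map b = LinearMap.range b := by
    refine Submodule.eq_of_le_of_finrank_le LinearMap.map_le_range ?_
    rw [← LinearMap.range_domRestrict, LinearMap.finrank_range_of_inj hinj]
    exact (rk_eq hb ha).le
  refine ha.ne ?_
  rw [← ho.left]
  refine LinearMap.ext fun m => ?_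
  show a (d (a m)) = 0
  obtain ⟨_, ⟨v, rfl⟩, hv⟩ := hmap.ge (hdR ⟨a m, rfl⟩)
  rw [← hv]
  exact LinearMap.congr_fun h v

theorem triple_zero (S : Base G) (ha : Min G a) (hb : Min G b) (h : a * b * a = 0) {x x' y : Module.End k M}
    (hx : x ∈ opSpace ha.toAdm) (hy : y ∈ opSpace hb.toAdm) (hx' : x' ∈ opSpace ha.toAdm) : x * y * x' = 0 := by
  refine LinearMap.ext fun m => ?_
  obtain ⟨v, hv⟩ := hx'.2.1 ⟨m, rfl⟩
  show x (y (x' m)) = 0
  rw [← hv]
  exact LinearMap.mem_ker.1 (hx.2.2 (LinearMap.mem_ker.2 (LinearMap.congr_fun (left_zero S ha hb h hy) v)))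

/-- Brackets of members. -/
theorem bracket_mem (S : Base G) (ha : Min G a) (hb : Min G b) (h : a * b * a = 0) (hne : b * a - a * b ≠ 0)
    {x y : Module.End k M} (hx : x ∈ opSpace ha.toAdm) (hy : y ∈ opSpace hb.toAdm) :
    y * x - x * y ∈ opSpace (adm_bracket ha.toAdm hb.toAdm h (bab_eq_zero S ha hb h)) := by
  have h2 := bab_eq_zero S ha hb h
  obtain ⟨-, hR, hK, -⟩ := bracket_spaces ha hb h h2 hne
  have t1 := fun x' (hx' : x' ∈ opSpace ha.toAdm) y' (hy' : y' ∈ opSpace hb.toAdm) x'' (hx'' : x'' ∈ opSpace ha.toAdm) =>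
    LinearMap.congr_fun (triple_zero S ha hb h hx' hy' hx'')
  have t2 := fun x' (hx' : x' ∈ opSpace hb.toAdm) y' (hy' : y' ∈ opSpace ha.toAdm) x'' (hx'' : x'' ∈ opSpace hb.toAdm) =>
    LinearMap.congr_fun (triple_zero S hb ha h2 hx' hy' hx'')
  refine ⟨adm_bracket hx.1 hy.1 (triple_zero S ha hb h hx hy hx) (triple_zero S hb ha h2 hy hx hy), ?_, fun m hm => ?_⟩
  · rw [hR]
    rintro _ ⟨m, rfl⟩
    refine sub_mem (Submodule.mem_sup_right ⟨hy.2.1 ⟨x m, rfl⟩, ?_⟩) (Submodule.mem_sup_left ⟨hx.2.1 ⟨y m, rfl⟩, ?_⟩)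
    · exact LinearMap.mem_ker.2 (t1 a (self_mem_opSpace _) y hy x hx m)
    · exact LinearMap.mem_ker.2 (t2 b (self_mem_opSpace _) x hx y hy m)
  · rw [hK] at hm
    obtain ⟨hm1, hm2⟩ := hm
    obtain ⟨u, hu, v, hv, e⟩ := Submodule.mem_sup.1 hm1
    obtain ⟨u', hu', v', hv', e'⟩ := Submodule.mem_sup.1 hm2
    have p1 : y (x m) = 0 := by
      rw [← e, map_add, LinearMap.mem_ker.1 (hx.2.2 hv), add_zero]
      obtain ⟨w, rfl⟩ := hu
      exact t2 y hy x hx b (self_mem_opSpace _) w
    have p2 : x (y m) = 0 := by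
      rw [← e', map_add, LinearMap.mem_ker.1 (hy.2.2 hv'), add_zero]
      obtain ⟨w, rfl⟩ := hu'
      exact t1 x hx y hy a (self_mem_opSpace _) w
    show y (x m) - x (y m) = 0
    rw [p1, p2, sub_zero]

/-- The torus of an opposite pair. -/
theorem torus_mem {p q : Module.End k M} (hp : Adm G p) (hq : Adm G q) (ho : Opp p q) {c : k} (hc : c ≠ 0) :
    ∃ g ∈ G, (g : Module.End k M) = 1 + (c - 1) • (p * q) + (c⁻¹ - 1) • (q * p) ∧
      ((g⁻¹ : LinearMap.GeneralLinearGroup k M) : Module.End k M) = 1 + (c⁻¹ - 1) • (p * q) + (c - 1) • (q * p) := by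
  have h1 : ∀ Y, p * (q * (p * Y)) = p * Y := fun Y => by rw [← mul_assoc, ← mul_assoc, ho.left]
  have h2 : ∀ Y, q * (p * (q * Y)) = q * Y := fun Y => by rw [← mul_assoc, ← mul_assoc, ho.right]
  have h1' : p * (q * p) = p := by rw [← mul_assoc, ho.left]
  have h2' : q * (p * q) = q := by rw [← mul_assoc, ho.right]
  let w : k → LinearMap.GeneralLinearGroup k M := fun s => ex hp.sq s * ex hq.sq (-s⁻¹) * ex hp.sq s
  have hw : ∀ s : k, s ≠ 0 → ((w s : LinearMap.GeneralLinearGroup k M) : Module.End k M) =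
      1 - p * q - q * p + s • p - s⁻¹ • q := by
    intro s hs
    simp only [w, Units.val_mul, coe_ex, mul_add, add_mul, mul_one, one_mul, smul_mul_smul_comm, mul_assoc,
      hp.sq, h1', smul_zero, smul_mul_assoc, mul_smul_comm, smul_smul]
    match_scalars <;> field_simp <;> ring
  refine ⟨w c * w (-1), mul_mem (mul_mem (mul_mem (hp.ex_mem _) (hq.ex_mem _)) (hp.ex_mem _))
    (mul_mem (mul_mem (hp.ex_mem _) (hq.ex_mem _)) (hp.ex_mem _)), ?_⟩
  have e1 : ((w c * w (-1) : LinearMap.GeneralLinearGroup k M) : Module.End k M) =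
      1 + (c - 1) • (p * q) + (c⁻¹ - 1) • (q * p) := by
    rw [Units.val_mul, hw c hc, hw (-1) (neg_ne_zero.2 one_ne_zero)]
    simp only [mul_add, add_mul, mul_sub, sub_mul, mul_one, one_mul, smul_mul_assoc, mul_smul_comm, mul_assoc,
      sq_left hp.sq, sq_left hq.sq, hp.sq, hq.sq, h1, h2, h1', h2', mul_zero, smul_smul, smul_zero]
    match_scalars <;> field_simp <;> ring
  refine ⟨e1, Units.inv_eq_of_mul_eq_one_right ?_⟩
  rw [e1]
  simp only [mul_add, add_mul, mul_one, one_mul, smul_mul_assoc, mul_smul_comm, mul_assoc,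
    sq_left hp.sq, sq_left hq.sq, hp.sq, hq.sq, h1, h2, h1', h2', mul_zero, smul_smul, smul_zero, smul_add]
  match_scalars <;> field_simp <;> ring

end Cfsg.Agent.QuadraticPair
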