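import Cfsg.Agent.Lib.QuadraticPair.RankOne

/-!
# Quadratic operators against the group of the roots
-/

set_option linter.all false
set_option autoImplicit false

namespace Cfsg.Agent.QuadraticPair

open Cfsg

universe u

variable {k : Type u} [Field k] {M : Type*} [AddCommGroup M] [Module k M] [FiniteDimensional k M]
  {G : Subgroup (LinearMap.GeneralLinearGroup k M)} {a q : Module.End k M}

/-- The span of the roots. -/
def rootSpan (G : Subgroup (LinearMap.GeneralLinearGroup k M)) : Submodule k (Module.End k M) :=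
  Submodule.span k {x | Min G x}

theorem root_mem_rootSpan (ha : Min G a) : a ∈ rootSpan G := Submodule.subset_span ha

theorem conj_rootSpan {x : Module.End k M} (hx : x ∈ rootSpan G) {g : LinearMap.GeneralLinearGroup k M} (hg : g ∈ G) :
    (g : Module.End k M) * x * ((g⁻¹ : LinearMap.GeneralLinearGroup k M) : Module.End k M) ∈ rootSpan G := by
  induction hx using Submodule.span_induction with
  | mem x hx => exact root_mem_rootSpan (Min.conj hx hg)
  | zero => simp
  | add x y _ _ hx hy => rw [mul_add, add_mul]; exact add_mem hx hy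
  | smul c x _ hx => rw [mul_smul_comm, smul_mul_assoc]; exact Submodule.smul_mem _ c hx

theorem bracket_rootSpan (hk2 : ringChar k ≠ 2) {x y : Module.End k M} (hx : x ∈ rootSpan G) (hy : y ∈ rootSpan G) :
    x * y - y * x ∈ rootSpan G := by
  induction hx using Submodule.span_induction with
  | mem b hb =>
    have hb' : Min G b := hb
    have h1 := conj_rootSpan hy (hb'.ex_mem 1)
    have h2 := conj_rootSpan hy (hb'.ex_mem (-1))
    rw [conj_ex] at h1 h2
    have h := (rootSpan G).smul_mem (2 : k)⁻¹ (sub_mem h1 h2)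
    have e : (2 : k)⁻¹ • (y + (1 : k) • (b * y - y * b) - ((1 : k) * 1) • (b * y * b) -
        (y + (-1 : k) • (b * y - y * b) - ((-1 : k) * -1) • (b * y * b))) = b * y - y * b := by
      have h2 := two_ne hk2
      match_scalars <;> field_simp <;> ring
    rwa [e] at h
  | zero => simp
  | add u v _ _ hu hv =>
    rw [show (u + v) * y - y * (u + v) = (u * y - y * u) + (v * y - y * v) by noncomm_ring]
    exact add_mem hu hv
  | smul c u _ hu =>
    rw [smul_mul_assoc, mul_smul_comm, ← smul_sub]; exact Submodule.smul_mem _ c hu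

theorem sandwich_span {q : Module.End k M} (h : ∀ r, Min G r → q * r * q = 0) {y : Module.End k M}
    (hy : y ∈ rootSpan G) : q * y * q = 0 := by
  induction hy using Submodule.span_induction with
  | mem x hx => exact h x hx
  | zero => simp
  | add x y _ _ hx hy => rw [mul_add, add_mul, hx, hy, add_zero]
  | smul c x _ hx => rw [mul_smul_comm, smul_mul_assoc, hx, smul_zero]

/-- There is no non-zero operator in the span killing all roots on both sides. -/
theorem no_sandwich (S : Base G) (hq : Adm G q) (hqL : q ∈ rootSpan G) (h : ∀ r, Min G r → q * r * q = 0) : q = 0 := by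
  refine family_trivial S {x | Adm G x ∧ x ∈ rootSpan G ∧ ∀ r, Min G r → x * r * x = 0} (fun x hx => hx.1) ?_ ?_
    ⟨hq, hqL, h⟩
  · rintro x ⟨h1, h2, h3⟩ g hg
    refine ⟨h1.conj hg, conj_rootSpan h2 hg, fun r hr => ?_⟩
    have := h3 _ (hr.conj (inv_mem hg))
    rw [inv_inv] at this
    calc (g : Module.End k M) * x * ((g⁻¹ : LinearMap.GeneralLinearGroup k M) : Module.End k M) * r *
          ((g : Module.End k M) * x * ((g⁻¹ : LinearMap.GeneralLinearGroup k M) : Module.End k M))
        = (g : Module.End k M) * (x * (((g⁻¹ : LinearMap.GeneralLinearGroup k M) : Module.End k M) * r * (g : Module.End k M)) * x) *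
            ((g⁻¹ : LinearMap.GeneralLinearGroup k M) : Module.End k M) := by simp only [mul_assoc]
      _ = 0 := by rw [this]; simp
  · rintro x ⟨h1, h2, h3⟩ y ⟨h1', h2', h3'⟩
    exact nilpotent_of_aba h1.sq h1'.sq (sandwich_span h3 h2')

theorem ker_le_of_mul (q Y : Module.End k M) : LinearMap.ker q ≤ LinearMap.ker (Y * q) := fun m hm => by
  show Y (q m) = 0
  rw [LinearMap.mem_ker.1 hm, map_zero]

theorem range_le_of_mul (q Y : Module.End k M) : LinearMap.range (q * Y) ≤ LinearMap.range q := by
  rintro _ ⟨m, rfl⟩; exact ⟨Y m, rfl⟩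

/-- `q a q` is zero or a root. -/
theorem qaq_root (S : Base G) (ha : Min G a) (hq : Adm G q) (h : q * a * q ≠ 0) :
    Min G (q * a * q) ∧ q * a * q ∈ rootSpan G := by
  have h2 := two_ne S.two
  have hL : q * a * q ∈ rootSpan G := by
    have p1 := conj_rootSpan (root_mem_rootSpan ha) (hq.ex_mem 1)
    have p2 := conj_rootSpan (root_mem_rootSpan ha) (hq.ex_mem (-1))
    rw [conj_ex] at p1 p2
    have hh := (rootSpan G).smul_mem (2 : k)⁻¹
      (sub_mem (add_mem (root_mem_rootSpan ha) (root_mem_rootSpan ha)) (add_mem p1 p2))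
    have e : (2 : k)⁻¹ • (a + a - (a + (1 : k) • (q * a - a * q) - ((1 : k) * 1) • (q * a * q) +
        (a + (-1 : k) • (q * a - a * q) - ((-1 : k) * -1) • (q * a * q)))) = q * a * q := by
      match_scalars <;> field_simp <;> ring
    rwa [e] at hh
  refine ⟨?_, hL⟩
  by_cases hn : IsNilpotent (a * q + q * a)
  · obtain ⟨n, hn⟩ := hn
    have haqa := nil_aba_left S.two n ha hq hn
    have A1 : ∀ Y, a * (q * (a * Y)) = 0 := fun Y => by rw [← mul_assoc, ← mul_assoc, haqa, zero_mul]
    have A1' : a * (q * a) = 0 := by rw [← mul_assoc, haqa]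
    set X := q * a * q
    let a' : k → Module.End k M := fun c => a + c • (q * a - a * q) - (c * c) • X
    have hzero : ∀ c d, a' c * a' d = 0 := fun c d => by
      simp [a', X, mul_add, add_mul, mul_sub, sub_mul, mul_assoc, sq_left ha.sq, sq_left hq.sq, ha.sq, hq.sq, A1, A1']
    have ha' : ∀ c, Adm G (a' c) := fun c => by
      have := ha.toAdm.conj (hq.ex_mem c)
      rwa [conj_ex] at this
    have hX : Adm G X := by
      have hh := ((ha.toAdm.smul 2).add (((ha' 1).smul (-1)).add ((ha' (-1)).smul (-1))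
        (by simp [hzero]) (by simp [hzero]))
        (by
          have e0 : ∀ c, a * a' c = 0 := fun c => by simpa [a'] using hzero 0 c
          simp [mul_add, e0])
        (by
          have e0 : ∀ c, a' c * a = 0 := fun c => by simpa [a'] using hzero c 0
          simp [add_mul, e0])).smul (2 : k)⁻¹
      have e : (2 : k)⁻¹ • ((2 : k) • a + ((-1 : k) • a' 1 + (-1 : k) • a' (-1))) = X := by
        simp only [a']; match_scalars <;> field_simp <;> ring
      rwa [e] at hh
    refine ⟨hX, h, fun y hy hy0 => le_trans ?_ (ha.min y hy hy0)⟩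
    have hle : LinearMap.range X ≤ (LinearMap.range a).map q := by
      rintro _ ⟨m, rfl⟩; exact ⟨a (q m), ⟨q m, rfl⟩, rfl⟩
    exact (Submodule.finrank_mono hle).trans (Submodule.finrank_map_le _ _)
  · obtain ⟨F⟩ := exists_fit (k := k) (z := a * q + q * a) hn
    have hea := support S.two S.three ha hq F
    obtain ⟨ca, cq⟩ := commute_e ha.sq hq.sq F trivial
    set e := F.e
    have hee : e * e = e := F.e_idem
    have hq' : Adm G (e * q) := by
      let F' : Fit (k := k) (q * a + a * q) :=
        ⟨F.n, F.Q, F.u, F.v, by rw [add_comm]; exact F.kill, fun f hf => F.exact' f (by rwa [add_comm] at hf),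
          F.bez, F.unitX, F.deg⟩
      have := adm_part S.two S.three hq ha.toAdm F'
      have e1 : F'.e = e := by
        show Polynomial.aeval (q * a + a * q) (F.u * Polynomial.X ^ F.n) = Polynomial.aeval (a * q + q * a) (F.u * Polynomial.X ^ F.n)
        rw [add_comm (q * a)]
      rwa [e1] at this
    have hza : (a * q + q * a) * e = a * (e * q) + e * q * a := by
      rw [add_mul]
      congr 1
      · rw [mul_assoc, ← cq.eq]
      · rw [mul_assoc, ← ca.eq, hea, mul_assoc]
        nth_rewrite 1 [← hea]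
        rw [← mul_assoc, ← cq.eq, mul_assoc]
    set q' := e * q with hq'def
    have hqq : q * a * q = q' * a * q' := by
      have l : q * a = q' * a := by
        nth_rewrite 1 [← hea]
        rw [← mul_assoc, ← cq.eq]
      have r : a * q = a * q' := by
        nth_rewrite 1 [← hea]
        rw [ca.eq, mul_assoc]
      rw [l, mul_assoc, r, ← mul_assoc]
    obtain ⟨y, hy⟩ := isUnit_iff_exists_inv.1 F.isUnit_x
    have hyz : F.φ y * (a * q' + q' * a) = e := by
      rw [← hza, ← mul_assoc, F.φ_mul_z, mul_comm, hy, F.φ_one, hee]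
    have hinj : Function.Injective (a.domRestrict (LinearMap.range q')) := by
      rw [← LinearMap.ker_eq_bot, eq_bot_iff]
      rintro ⟨_, v, rfl⟩ hu
      have hu' : a (q' v) = 0 := hu
      have : (a * q' + q' * a) (q' v) = 0 := by
        show a (q' (q' v)) + q' (a (q' v)) = 0
        rw [show q' (q' v) = 0 from LinearMap.congr_fun hq'.sq v, hu', map_zero, map_zero, add_zero]
      have h3 := LinearMap.congr_fun hyz (q' v)
      rw [Module.End.mul_apply, this, map_zero] at h3
      refine Subtype.ext ?_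
      show q' v = 0
      rw [show q' v = (e * q') v by rw [hq'def, ← mul_assoc, hee]]
      exact h3.symm
    have hq'0 : q' ≠ 0 := fun e0 => h (by rw [hqq, e0]; simp)
    have hrk : rk q' ≤ rk a := by
      show Module.finrank k (LinearMap.range q') ≤ _
      rw [← LinearMap.finrank_range_of_inj hinj]
      refine Submodule.finrank_mono ?_
      rw [LinearMap.range_domRestrict]
      exact LinearMap.map_le_range
    have hmin : Min G q' := ⟨hq', hq'0, fun z hz hz0 => hrk.trans (ha.min z hz hz0)⟩
    have hn' : ¬ IsNilpotent (q' * a + a * q') := by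
      rintro ⟨n, hn'⟩
      apply hq'0
      have h1 : (F.φ y * (a * q' + q' * a)) ^ n = 0 := by
        have hc : Commute (F.φ y) (a * q' + q' * a) := by
          rw [← hza]
          exact F.commute_φ ((Commute.refl _).mul_right (by have h5 := (F.commute_φ (Commute.refl _) 1).symm; rw [F.φ_one] at h5; exact h5)) y
        rw [hc.mul_pow, add_comm (a * q'), hn', mul_zero]
      rw [hyz] at h1
      rcases n with _ | n
      · rw [pow_zero] at h1
        rw [show q' = 1 * q' by rw [one_mul], h1, zero_mul]
      · have hp : ∀ i, e ^ (i + 1) = e := fun i => by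
          induction i with
          | zero => simp
          | succ i ih => rw [pow_succ, ih, hee]
        rw [hp] at h1
        rw [hq'def, h1, zero_mul]
    obtain ⟨P⟩ := exists_pair S.two S.three hmin ha hn'
    rw [hqq]
    exact (min_of_mem hmin (P.aba_mem S.two S.three) (fun e0 => h (by rw [hqq, e0]))).1

/-- An operator killing all roots on both sides commutes with them. -/
theorem commute_of_sandwich (S : Base G) (hq : Adm G q) (h : ∀ r, Min G r → q * r * q = 0) (ha : Min G a) :
    q * a = a * q := by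
  classical
  have h2 := two_ne S.two
  have haqa : a * q * a = 0 := by
    obtain ⟨n, hn⟩ := nilpotent_of_aba hq.sq ha.sq (h a ha)
    exact nil_aba_left S.two n ha hq (by rwa [add_comm])
  set δ := q * a - a * q with hδ
  have hδA : Adm G δ := adm_bracket ha.toAdm hq haqa (h a ha)
  have hδL : δ ∈ rootSpan G := by
    have p1 := conj_rootSpan (root_mem_rootSpan ha) (hq.ex_mem 1)
    rw [conj_ex, one_smul, mul_one, one_smul, h a ha, sub_zero] at p1
    simpa [hδ] using sub_mem p1 (root_mem_rootSpan ha)
  refine sub_eq_zero.1 (by_contra fun hne => hne (no_sandwich S hδA hδL fun r hr => ?_))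
  by_contra hX0
  obtain ⟨hXm, -⟩ := qaq_root S hr hδA hX0
  set X := δ * r * δ with hXdef
  -- `X` is a bracket with `q`
  have hLq : ∀ y ∈ rootSpan G, q * y * q = 0 := fun y hy => sandwich_span h hy
  set w := δ * r - r * δ with hw
  set y := a * w - w * a
  have hwL : w ∈ rootSpan G := bracket_rootSpan S.two hδL (root_mem_rootSpan hr)
  have hyL : y ∈ rootSpan G := bracket_rootSpan S.two (root_mem_rootSpan ha) hwL
  have key : ∀ u v : Module.End k M, u ∈ rootSpan G → v ∈ rootSpan G →
      (q * u - u * q) * (q * v - v * q) = (q * v - v * q) * (q * u - u * q) := by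
    intro u v hu hv
    have e0 : q * (u * v - v * u) * q = 0 := hLq _ (bracket_rootSpan S.two hu hv)
    have e1 : ∀ Z, q * (u * (q * Z)) = 0 := fun Z => by rw [← mul_assoc, ← mul_assoc, hLq u hu, zero_mul]
    have e2 : ∀ Z, q * (v * (q * Z)) = 0 := fun Z => by rw [← mul_assoc, ← mul_assoc, hLq v hv, zero_mul]
    have e1' : q * (u * q) = 0 := by rw [← mul_assoc, hLq u hu]
    have e2' : q * (v * q) = 0 := by rw [← mul_assoc, hLq v hv]
    simp only [sub_mul, mul_sub, mul_assoc, e1, e2, e1', e2', sq_left hq.sq, hq.sq, mul_zero] at e0 ⊢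
    linear_combination (norm := abel) -e0
  have hDw : q * w - w * q = 0 := by
    have e1 := key a r (root_mem_rootSpan ha) (root_mem_rootSpan hr)
    have e2 : q * δ - δ * q = 0 := by
      rw [hδ]
      simp only [mul_sub, sub_mul, ← mul_assoc, hq.sq, h a ha]
      simp [mul_assoc, hq.sq]
    calc q * w - w * q = (q * δ - δ * q) * r - r * (q * δ - δ * q) +
          (δ * (q * r - r * q) - (q * r - r * q) * δ) := by rw [hw]; noncomm_ring
      _ = 0 := by rw [e2, zero_mul, mul_zero, hδ, e1]; simp
  have hXy : (-2 : k) • X = q * y - y * q := by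
    have e : q * y - y * q = (δ * w - w * δ) + (a * (q * w - w * q) - (q * w - w * q) * a) := by
      rw [hδ]; simp only [y]; noncomm_ring
    rw [e, hDw, mul_zero, zero_mul, sub_zero, add_zero, hw]
    simp only [mul_sub, sub_mul, ← mul_assoc, hδA.sq, zero_mul, ← hXdef]
    rw [mul_assoc r δ δ, hδA.sq, mul_zero]
    module
  set y' := (-2 : k)⁻¹ • y
  have hy'L : y' ∈ rootSpan G := Submodule.smul_mem _ _ hyL
  have hX : X = q * y' - y' * q := by
    rw [mul_smul_comm, smul_mul_assoc, ← smul_sub, ← hXy, smul_smul, inv_mul_cancel₀ (neg_ne_zero.2 h2), one_smul]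
  have qX : q * X = 0 := by rw [hX, mul_sub, ← mul_assoc, hq.sq, ← mul_assoc, hLq _ hy'L]; simp
  have Xq : X * q = 0 := by rw [hX, sub_mul, hLq _ hy'L, mul_assoc, hq.sq]; simp
  obtain ⟨d, hd, ho⟩ := exists_opp S hXm
  have hh : q * (X * d - d * X) = (X * d - d * X) * q := by
    have e1 := key y' d hy'L (root_mem_rootSpan hd)
    rw [← hX] at e1
    refine sub_eq_zero.1 ?_
    calc _ = (q * X - X * q) * d - d * (q * X - X * q) + (X * (q * d - d * q) - (q * d - d * q) * X) := by noncomm_ring
      _ = 0 := by rw [qX, Xq, e1]; simp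
  rw [mul_sub, sub_mul, ← mul_assoc q X, qX, mul_assoc d X q, Xq, zero_mul, mul_zero, zero_sub, sub_zero, ← mul_assoc] at hh
  -- `hh : -(q d X) = X d q`
  set E' := X * d
  set F' := d * X
  have hEE : E' * E' = E' := by simp only [E']; rw [← mul_assoc, ho.left]
  have hFF : F' * F' = F' := by simp only [F']; rw [← mul_assoc, ho.right]
  have hh' : E' * q = -(q * F') := by simp only [E', F']; rw [← hh, ← mul_assoc q]
  have s1 : E' * q = -(E' * q * F') := by
    conv_lhs => rw [← hEE, mul_assoc, hh']
    rw [mul_neg, ← mul_assoc]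
  have s2 : q * F' = -(E' * q * F') := by
    conv_lhs => rw [← hFF, ← mul_assoc, show q * F' = -(E' * q) by rw [hh', neg_neg]]
    rw [neg_mul]
  have hqF : q * F' = 0 := by
    have : (2 : k) • (q * F') = 0 := by
      rw [two_smul]
      linear_combination (norm := abel) s2 - s1 + hh'
    exact (smul_eq_zero.1 this).resolve_left h2
  have hEq : E' * q = 0 := by rw [hh', hqF, neg_zero]
  refine hXm.ne ?_
  calc X = E' * X * F' := by simp only [E', F']; rw [ho.left, ← mul_assoc, ho.left]
    _ = E' * q * (y' * F') - E' * y' * (q * F') := by rw [hX]; simp only [mul_sub, sub_mul, mul_assoc]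
    _ = 0 := by rw [hEq, hqF, zero_mul, mul_zero, sub_zero]

theorem root_conj {g : LinearMap.GeneralLinearGroup k M} (hg : g ∈ G) (ha : Min G a) :
    Cfsg.conjBy (root ha.toAdm) g = root (ha.conj hg).toAdm := by
  have key : ∀ {a : Module.End k M} (ha : Min G a) {g : LinearMap.GeneralLinearGroup k M} (hg : g ∈ G)
      {x : LinearMap.GeneralLinearGroup k M}, x ∈ root ha.toAdm → g * x * g⁻¹ ∈ root (ha.conj hg).toAdm := by
    intro a ha g hg x hx
    have hx' : op x ∈ opSpace ha.toAdm := hx
    have e : op (g * x * g⁻¹) = (g : Module.End k M) * op x * ((g⁻¹ : LinearMap.GeneralLinearGroup k M) : Module.End k M) := by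
      simp [op, mul_sub, sub_mul, mul_assoc]
    rw [mem_root, e]
    refine ⟨hx'.1.conj hg, ?_, fun m hm => ?_⟩
    · rintro _ ⟨m, rfl⟩
      obtain ⟨v, hv⟩ := hx'.2.1 ⟨((g⁻¹ : LinearMap.GeneralLinearGroup k M) : Module.End k M) m, rfl⟩
      refine ⟨(g : Module.End k M) v, ?_⟩
      show (g : Module.End k M) (a (((g⁻¹ : LinearMap.GeneralLinearGroup k M) : Module.End k M) ((g : Module.End k M) v))) = _
      rw [← Module.End.mul_apply _ (g : Module.End k M) v, Units.inv_mul, Module.End.one_apply, hv]
      rfl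
    · have h0 : (g : Module.End k M) (a (((g⁻¹ : LinearMap.GeneralLinearGroup k M) : Module.End k M) m)) = 0 := hm
      have h' := congrArg ((g⁻¹ : LinearMap.GeneralLinearGroup k M) : Module.End k M) h0
      rw [← Module.End.mul_apply, Units.inv_mul, Module.End.one_apply, map_zero] at h'
      show (g : Module.End k M) (op x _) = 0
      rw [LinearMap.mem_ker.1 (hx'.2.2 (LinearMap.mem_ker.2 h')), map_zero]
  refine le_antisymm (by rintro _ ⟨x, hx, rfl⟩; exact key ha hg hx) fun x hx => ?_
  have hx2 := key (ha.conj hg) (inv_mem hg) hx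
  have e : (((g⁻¹ : LinearMap.GeneralLinearGroup k M) : Module.End k M) *
      ((g : Module.End k M) * a * ((g⁻¹ : LinearMap.GeneralLinearGroup k M) : Module.End k M)) *
      (((g⁻¹)⁻¹ : LinearMap.GeneralLinearGroup k M) : Module.End k M)) = a := by
    rw [inv_inv, ← mul_assoc, ← mul_assoc, Units.inv_mul, one_mul, mul_assoc, Units.inv_mul, mul_one]
  refine ⟨g⁻¹ * x * g⁻¹⁻¹, ?_, by simp [mul_assoc]⟩
  show op _ ∈ opSpace ha.toAdm
  have hx3 : op (g⁻¹ * x * g⁻¹⁻¹) ∈ opSpace ((ha.conj hg).conj (inv_mem hg)).toAdm := hx2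
  rw [mem_opSpace, e] at hx3
  exact hx3

/-- The group of the roots. -/
def rootGroup (G : Subgroup (LinearMap.GeneralLinearGroup k M)) : Subgroup (LinearMap.GeneralLinearGroup k M) :=
  ⨆ A ∈ quadraticRootSubgroups G, A

theorem root_le_rootGroup (ha : Min G a) : root ha.toAdm ≤ rootGroup G :=
  le_iSup₂_of_le _ (root_mem_roots ha) le_rfl

theorem rootGroup_le : rootGroup G ≤ G :=
  iSup₂_le fun A hA => by obtain ⟨a, ha, rfl⟩ := exists_root hA; exact root_le _

theorem rootGroup_conj {g : LinearMap.GeneralLinearGroup k M} (hg : g ∈ G) {x : LinearMap.GeneralLinearGroup k M}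
    (hx : x ∈ rootGroup G) : g * x * g⁻¹ ∈ rootGroup G := by
  have : rootGroup G ≤ (rootGroup G).comap (MulAut.conj g).toMonoidHom := iSup₂_le fun A hA => by
    obtain ⟨a, ha, rfl⟩ := exists_root hA
    rw [← Subgroup.map_le_iff_le_comap, ← Cfsg.conjBy, root_conj hg ha]
    exact root_le_rootGroup (ha.conj hg)
  exact this hx

/-- Splitting off the part of a quadratic element in a group containing an opposite pair at `q r q`. -/
theorem split (S : Base G) {H : Subgroup (LinearMap.GeneralLinearGroup k M)} (hHG : H ≤ G) {q r d : Module.End k M}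
    (hq : Adm G q) {X : Module.End k M} (hXdef : X = q * r * q) (hXm : Min G X) (ho : Opp X d)
    (hdR : Adm H X) (hdR' : Adm H d)
    (hHq : ∀ t : k, ∀ g ∈ H, ex hq.sq t * g * (ex hq.sq t)⁻¹ ∈ H) :
    ∃ q0 s : Module.End k M, Adm G q0 ∧ Adm H s ∧ rk q0 < rk q ∧ q0 * s = 0 ∧ s * q0 = 0 ∧ q = q0 - s := by
  have qX : q * X = 0 := by rw [hXdef, ← mul_assoc, ← mul_assoc, hq.sq]; simp
  have Xq : X * q = 0 := by rw [hXdef, mul_assoc, hq.sq, mul_zero]
  set e1 := X * d
  set e2 := d * X
  have qe1 : q * e1 = 0 := by simp only [e1]; rw [← mul_assoc, qX, zero_mul]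
  have e2q : e2 * q = 0 := by simp only [e2]; rw [mul_assoc, Xq, mul_zero]
  have qe1' : ∀ Z, q * (e1 * Z) = 0 := fun Z => by rw [← mul_assoc, qe1, zero_mul]
  have e2q' : ∀ Z, e2 * (q * Z) = 0 := fun Z => by rw [← mul_assoc, e2q, zero_mul]
  have e21 : e2 * e1 = 0 := by
    simp only [e1, e2]; rw [mul_assoc, ← mul_assoc X X, hXm.sq, zero_mul, mul_zero]
  have e21' : ∀ Z, e2 * (e1 * Z) = 0 := fun Z => by rw [← mul_assoc, e21, zero_mul]
  set T := e1 * q + q * e2 with hT
  set Q := e1 * q * e2 with hQ
  clear_value T Q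
  have hprod : ∀ Y ∈ ({q, T, Q} : Set (Module.End k M)), ∀ Z ∈ ({q, T, Q} : Set (Module.End k M)), Y * Z = 0 := by
    intro Y hY Z hZ
    simp only [Set.mem_insert_iff, Set.mem_singleton_iff] at hY hZ
    rcases hY with rfl | rfl | rfl <;> rcases hZ with rfl | rfl | rfl <;>
      simp [hT, hQ, mul_add, add_mul, mul_assoc, hq.sq, sq_left hq.sq, qe1, qe1', e2q, e2q', e21, e21', ← mul_assoc e2 e1]
  have hlin : ∀ a b c a' b' c' : k, (a • q + b • T + c • Q) * (a' • q + b' • T + c' • Q) = 0 := fun a b c a' b' c' => by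
    simp only [add_mul, mul_add, smul_mul_smul_comm]
    simp [hprod]
  -- the torus conjugates
  have hR : ∀ s : k, s ≠ 0 → Adm H ((s - 1) • T + ((s - 1) * (s - 1)) • Q) := by
    intro s hs
    obtain ⟨g, hg, hge, hgi⟩ := torus_mem hdR hdR' ho hs
    set Y := (s - 1) • T + ((s - 1) * (s - 1)) • Q with hY
    have hYY : Y * Y = 0 := by
      have := hlin 0 (s - 1) ((s - 1) * (s - 1)) 0 (s - 1) ((s - 1) * (s - 1))
      simpa using this
    have hconj : (g : Module.End k M) * q * ((g⁻¹ : LinearMap.GeneralLinearGroup k M) : Module.End k M) = q + Y := by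
      rw [hge, hgi, hY, hT, hQ]
      simp only [e1, e2] at qe1' e2q' qe1 e2q ⊢
      simp only [add_mul, mul_add, one_mul, mul_one, smul_mul_assoc, mul_smul_comm, e2q, zero_mul, smul_zero,
        add_zero, qe1, mul_assoc (X * d) q, mul_zero]
      module
    refine adm_of_mem hYY fun t => ?_
    have hmem : g * ex hq.sq t * g⁻¹ * (ex hq.sq t)⁻¹ ∈ H := by
      rw [mul_assoc g, mul_assoc g]
      refine mul_mem hg ?_
      exact hHq t _ (inv_mem hg)
    convert hmem using 1
    refine Units.ext ?_
    have hgx : ((g * ex hq.sq t * g⁻¹ : LinearMap.GeneralLinearGroup k M) : Module.End k M) = 1 + t • (q + Y) := by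
      rw [Units.val_mul, Units.val_mul, coe_ex, mul_add, mul_one, add_mul, Units.mul_inv, mul_smul_comm,
        smul_mul_assoc, hconj]
    rw [Units.val_mul _ (ex hq.sq t)⁻¹, hgx, coe_ex, coe_ex_inv]
    have : Y * q = 0 := by
      have := hlin 0 (s - 1) ((s - 1) * (s - 1)) 1 0 0
      simpa using this
    simp only [add_mul, mul_sub, one_mul, mul_one, smul_mul_smul_comm, smul_mul_assoc, mul_smul_comm, hq.sq, this,
      smul_add, smul_zero, add_zero, sub_zero]
    abel
  obtain ⟨s, hs0, hs1⟩ := Generic.exists_sq_ne_one (Ring.two_ne_zero S.two) S.three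
  set t := s - 1 with ht
  have ht0 : t ≠ 0 := fun e => hs1 (by rw [sub_eq_zero] at e; rw [e, one_mul])
  have ht2 : t + 2 ≠ 0 := fun e => hs1 (by rw [show s = -1 by linear_combination e]; ring)
  have h2 := two_ne S.two
  have hsum : Adm H ((-1 : k) • T + Q) := by
    -- a combination of the two conjugates
    have z : ∀ u v u' v' : k, (u • T + v • Q) * (u' • T + v' • Q) = 0 := fun u v u' v' => by
      simpa using hlin 0 u v 0 u' v'
    have h := ((hR s hs0).smul (-(t * (t + 2))⁻¹)).add
      ((hR (-1) (by simp)).smul ((1 + t) * (2 * (t + 2))⁻¹))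
      (by rw [smul_mul_smul_comm, z, smul_zero]) (by rw [smul_mul_smul_comm, z, smul_zero])
    convert h using 1
    rw [smul_add, smul_add, smul_smul, smul_smul, smul_smul, smul_smul]
    match_scalars <;> field_simp <;> ring
  set q0 := q + (-1 : k) • T + Q with hq0
  have hq0G : Adm G q0 := by
    have hG : Adm G ((-1 : k) • T + Q) := adm_of_mem hsum.sq fun u => hHG (hsum.ex_mem u)
    rw [hq0, add_assoc]
    exact hq.add hG (by simpa using hlin 1 0 0 0 (-1) 1) (by simpa using hlin 0 (-1) 1 1 0 0)
  have e0 : q0 = (1 - e1) * (q * (1 - e2)) := by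
    rw [hq0, hT, hQ]
    simp only [mul_sub, sub_mul, one_mul, mul_one, neg_smul, one_smul, mul_assoc]
    abel
  have hlt : rk q0 < rk q := by
    have hle : LinearMap.range q0 ≤ (LinearMap.range q).map (1 - e1) := by
      rw [e0]; rintro _ ⟨m, rfl⟩; exact ⟨q ((1 - e2) m), ⟨_, rfl⟩, rfl⟩
    refine lt_of_le_of_lt (Submodule.finrank_mono hle) ?_
    have hXq : LinearMap.range X ≤ LinearMap.range q ⊓ LinearMap.ker (1 - e1) := by
      rintro _ ⟨m, rfl⟩
      refine ⟨⟨r (q m), by simp [hXdef]⟩, ?_⟩
      show ((1 - e1) * X) m = 0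
      rw [sub_mul, one_mul, ho.left, sub_self]; rfl
    have hcount := LinearMap.finrank_range_add_finrank_ker ((1 - e1).domRestrict (LinearMap.range q))
    rw [LinearMap.range_domRestrict] at hcount
    have e : (LinearMap.ker ((1 - e1).domRestrict (LinearMap.range q))).map (LinearMap.range q).subtype =
        LinearMap.range q ⊓ LinearMap.ker (1 - e1) := by
      ext x; simp [LinearMap.domRestrict, and_comm]
    rw [← Submodule.finrank_map_subtype_eq, e] at hcount
    have l1 := Submodule.finrank_mono hXq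
    have l2 : 0 < rk X := Nat.pos_of_ne_zero fun e0 => hXm.ne (LinearMap.range_eq_bot.1 (Submodule.finrank_eq_zero.1 e0))
    simp only [rk] at *
    omega
  refine ⟨q0, _, hq0G, hsum, hlt, ?_, ?_, by rw [hq0]; abel⟩
  · have h6 := hlin 1 (-1) 1 0 (-1) 1
    simp only [one_smul, zero_smul, zero_add, add_assoc] at h6
    rw [hq0, add_assoc]
    exact h6
  · have h6 := hlin 0 (-1) 1 1 (-1) 1
    simp only [one_smul, zero_smul, zero_add, add_assoc] at h6
    rw [hq0, add_assoc]
    exact h6

/-- Every quadratic element is a product of a root-group element and a centralizing one. -/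
theorem exp_mem_product (S : Base G) : ∀ (n : ℕ) {q : Module.End k M} (hq : Adm G q), rk q = n → ∀ c : k,
    ex hq.sq c ∈ rootGroup G ⊔ (G ⊓ Subgroup.centralizer (rootGroup G : Set (LinearMap.GeneralLinearGroup k M))) := by
  intro n
  induction n using Nat.strong_induction_on with
  | _ n ih =>
    intro q hq hn c
    by_cases hsand : ∀ r, Min G r → q * r * q = 0
    · refine Subgroup.mem_sup_right ⟨hq.ex_mem c, ?_⟩
      have hle : rootGroup G ≤ Subgroup.centralizer {ex hq.sq c} := iSup₂_le fun A hA => by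
        obtain ⟨a, ha, rfl⟩ := exists_root hA
        intro x hx
        rw [Subgroup.mem_centralizer_singleton_iff]
        refine commute_iff.2 ?_
        rcases eq_or_ne (op x) 0 with h0 | h0
        · rw [h0]; simp
        rw [op_ex, smul_mul_assoc, mul_smul_comm, commute_of_sandwich S hq hsand (min_of_mem ha hx h0).1]
      exact Subgroup.mem_centralizer_iff.2 fun x hx => Subgroup.mem_centralizer_singleton_iff.1 (hle hx)
    push Not at hsand
    obtain ⟨r, hr, hne⟩ := hsand
    obtain ⟨hXm, -⟩ := qaq_root S hr hq hne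
    set X := q * r * q with hXdef
    obtain ⟨d, hd, ho⟩ := exists_opp S hXm
    obtain ⟨q0, s, hq0, hs, hlt, h0, -, e⟩ := split S rootGroup_le hq hXdef hXm ho
      (adm_of_mem hXm.sq fun t => root_le_rootGroup hXm (ex_mem_root _ (self_mem_opSpace _) t))
      (adm_of_mem hd.sq fun t => root_le_rootGroup hd (ex_mem_root _ (self_mem_opSpace _) t))
      (fun t g hg => rootGroup_conj (hq.ex_mem t) hg)
    have hfac : ex hq.sq c = ex hq0.sq c * (ex hs.sq c)⁻¹ := by
      refine Units.ext ?_
      rw [Units.val_mul, coe_ex, coe_ex, coe_ex_inv, e]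
      simp only [add_mul, mul_sub, one_mul, mul_one, smul_mul_smul_comm, h0, smul_zero, sub_zero]
      module
    rw [hfac]
    exact mul_mem (ih _ (hn ▸ hlt) hq0 rfl c) (inv_mem (Subgroup.mem_sup_left (hs.ex_mem c)))

end Cfsg.Agent.QuadraticPair
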