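import Cfsg.Agent.Lib.QuadraticPair.Component

/-!
# The group of a component is quasisimple
-/

set_option linter.all false
set_option autoImplicit false

namespace Cfsg.Agent.QuadraticPair

open Cfsg
open Cfsg.Agent.ThreeTransp.RankOne (mem_conjBy commutator_eq_bot_iff)

universe u

variable {k : Type u} [Field k] {M : Type*} [AddCommGroup M] [Module k M] [FiniteDimensional k M]
  {G : Subgroup (LinearMap.GeneralLinearGroup k M)} {a b d : Module.End k M}

/-- The torus acts on a root by squares. -/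
theorem torus_conj (ha : Min G a) (ho : Opp a d) {s : k} (hs : s ≠ 0) {h : LinearMap.GeneralLinearGroup k M}
    (he : (h : Module.End k M) = 1 + (s - 1) • (a * d) + (s⁻¹ - 1) • (d * a))
    (hi : ((h⁻¹ : LinearMap.GeneralLinearGroup k M) : Module.End k M) = 1 + (s⁻¹ - 1) • (a * d) + (s - 1) • (d * a))
    {y : Module.End k M} (hy : y ∈ opSpace ha.toAdm) (c : k) :
    h * ex hy.1.sq c * h⁻¹ * (ex hy.1.sq c)⁻¹ = ex hy.1.sq ((s * s - 1) * c) := by
  obtain ⟨p1, p2, p3, p4⟩ := proj ha ho hy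
  have e1 : (h : Module.End k M) * y = s • y := by
    rw [he, add_mul, add_mul, one_mul, smul_mul_assoc, smul_mul_assoc, p1, p3]; module
  have e2 : y * ((h⁻¹ : LinearMap.GeneralLinearGroup k M) : Module.End k M) = s • y := by
    rw [hi, mul_add, mul_add, mul_one, mul_smul_comm, mul_smul_comm, p2, p4]; module
  refine Units.ext ?_
  rw [Units.val_mul, Units.val_mul, Units.val_mul, coe_ex, coe_ex, coe_ex_inv, mul_add, mul_one, add_mul,
    Units.mul_inv, mul_smul_comm, e1, smul_mul_assoc, smul_mul_assoc, e2]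
  simp only [add_mul, mul_sub, one_mul, mul_one, smul_mul_assoc, mul_smul_comm, hy.1.sq, smul_zero, sub_zero]
  module

theorem adm_sup_left (ha : Min G a) (hb : Min G b) :
    Adm (root ha.toAdm ⊔ root hb.toAdm) a ∧ Adm (root ha.toAdm ⊔ root hb.toAdm) b :=
  ⟨adm_of_mem ha.sq fun t => Subgroup.mem_sup_left (ex_mem_root _ (self_mem_opSpace _) t),
    adm_of_mem hb.sq fun t => Subgroup.mem_sup_right (ex_mem_root _ (self_mem_opSpace _) t)⟩

theorem eq_ex_op {ha : Adm G a} {x : LinearMap.GeneralLinearGroup k M} (hx : x ∈ root ha) :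
    x = ex (mem_root.1 hx).1.sq (1 : k) := Units.ext (by rw [coe_ex, one_smul]; simp [op])

variable (N R : Subgroup (LinearMap.GeneralLinearGroup k M))

/-- A normal subgroup meeting a root contains it. -/
theorem root_le_of_meets (S : Setting G) (hN : ∀ r ∈ R, ∀ n ∈ N, r * n * r⁻¹ ∈ N) (ha : Min G a)
    (hR : ∀ D ∈ quadraticRootSubgroups G, IsRankOnePair (root ha.toAdm) D → root ha.toAdm ⊔ D ≤ R)
    (heN : ex ha.sq (1 : k) ∈ N) : root ha.toAdm ≤ N := by
  obtain ⟨d, hd, ho⟩ := exists_opp S ha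
  have hX := hR _ (root_mem_roots hd) (special S ha hd ho).1
  have h2 := two_ne S.two
  obtain ⟨hXa, hXd⟩ := adm_sup_left ha hd
  have htor : ∀ s : k, s ≠ 0 → ex ha.sq (s * s - 1) ∈ N := fun s hs => by
    obtain ⟨h, hh, he, hi⟩ := torus_mem hXa hXd ho hs
    have := torus_conj ha ho hs he hi (self_mem_opSpace ha.toAdm) 1
    rw [mul_one] at this
    rw [← this]
    exact mul_mem (hN h (hX hh) _ heN) (inv_mem heN)
  have hsq : ∀ s : k, ex ha.sq (s * s - 1) ∈ N := fun s => by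
    rcases eq_or_ne s 0 with rfl | hs
    · have e : ex ha.sq ((0 : k) * 0 - 1) = (ex ha.sq (1 : k))⁻¹ := Units.ext (by
        rw [coe_ex, coe_ex_inv]; simp [sub_eq_add_neg])
      rw [e]; exact inv_mem heN
    · exact htor s hs
  have hline : Adm N a := adm_of_mem ha.sq fun c => by
    have e : ex ha.sq c = ex ha.sq ((c + 1) / 2 * ((c + 1) / 2) - 1) * (ex ha.sq ((c - 1) / 2 * ((c - 1) / 2) - 1))⁻¹ := by
      refine Units.ext ?_
      rw [Units.val_mul, coe_ex, coe_ex, coe_ex_inv]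
      simp only [add_mul, mul_sub, one_mul, mul_one, smul_mul_smul_comm, ha.sq, smul_zero, sub_zero]
      match_scalars <;> field_simp <;> ring
    rw [e]
    exact mul_mem (hsq _) (inv_mem (hsq _))
  set w := ex ha.sq (1 : k) * (ex hd.sq (1 : k))⁻¹ * ex ha.sq (1 : k) with hw
  have hwX : w ∈ root ha.toAdm ⊔ root hd.toAdm := mul_mem (mul_mem
    (Subgroup.mem_sup_left (ex_mem_root _ (self_mem_opSpace _) 1))
    (inv_mem (Subgroup.mem_sup_right (ex_mem_root _ (self_mem_opSpace _) 1))))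
    (Subgroup.mem_sup_left (ex_mem_root _ (self_mem_opSpace _) 1))
  have hwa : (w : Module.End k M) * a = -d * (w : Module.End k M) := by
    simp only [hw, Units.val_mul, coe_ex, coe_ex_inv, one_smul, add_mul, mul_add, mul_sub, sub_mul, one_mul, mul_one,
      neg_mul, ho.left, ha.sq, hd.sq]
    simp only [← mul_assoc, hd.sq, ha.sq, zero_mul, ho.left, ho.right, mul_assoc, sq_left ha.sq, mul_zero]
    simp only [mul_assoc, sq_left ha.sq, sq_left hd.sq, ha.sq, hd.sq,
      show a * (d * a) = a by rw [← mul_assoc, ho.left], show d * (a * d) = d by rw [← mul_assoc, ho.right], mul_zero]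
    abel
  have hlined : Adm N d := adm_of_mem hd.sq fun c => by
    have e : ex hd.sq c = w * ex ha.sq (-c) * w⁻¹ := by
      refine Units.ext ?_
      rw [Units.val_mul, Units.val_mul, coe_ex, coe_ex, mul_add, mul_one, mul_smul_comm, hwa, add_mul,
        Units.mul_inv, smul_mul_assoc, mul_assoc, Units.mul_inv, mul_one, smul_neg, neg_smul, neg_neg]
    rw [e]
    obtain ⟨g, hg, eg⟩ := hline.mem (-c)
    rw [show ex ha.sq (-c) = g from Units.ext (by rw [coe_ex, eg])]
    exact hN w (hX hwX) g hg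
  intro x hx
  obtain ⟨s, hs0, hs1⟩ := Generic.exists_sq_ne_one h2 S.three
  obtain ⟨h, hh, he, hi⟩ := torus_mem hline hlined ho hs0
  have ht := torus_conj ha ho hs0 he hi (mem_root.1 hx) ((s * s - 1)⁻¹)
  rw [mul_inv_cancel₀ (sub_ne_zero.2 hs1), ← eq_ex_op hx] at ht
  rw [← ht, mul_assoc h, mul_assoc h]
  exact mul_mem hh (hN _ (hX (Subgroup.mem_sup_left (ex_mem_root _ (mem_root.1 hx) _))) _ (inv_mem hh))

variable {N R}

/-- The commutator subgroup of two rank one roots meets each of them. -/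
theorem meets_of_derived (S : Setting G) (hN : ∀ r ∈ R, ∀ n ∈ N, r * n * r⁻¹ ∈ N)
    {A B : Subgroup (LinearMap.GeneralLinearGroup k M)} (hA : A ∈ quadraticRootSubgroups G)
    (hB : B ∈ quadraticRootSubgroups G) (hp : IsRankOnePair A B) (hX : A ⊔ B ≤ R)
    (hc : ∀ x ∈ B, ∀ f ∈ A, x * f * x⁻¹ * f⁻¹ ∈ N) : ∃ e ∈ A, e ∈ N ∧ e ≠ 1 := by
  obtain ⟨a, d, ha, hd, rfl, rfl, ho⟩ := opp_of_rankOne S hA hB hp
  let T : Subgroup (LinearMap.GeneralLinearGroup k M) :=
    { carrier := {x | x ∈ R ∧ ∀ f ∈ root ha.toAdm, x * f * x⁻¹ * f⁻¹ ∈ N}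
      one_mem' := ⟨one_mem _, fun f _ => by simp⟩
      mul_mem' := fun {x y} hx hy => ⟨mul_mem hx.1 hy.1, fun f hf => by
        have e : x * y * f * (x * y)⁻¹ * f⁻¹ = x * (y * f * y⁻¹ * f⁻¹) * x⁻¹ * (x * f * x⁻¹ * f⁻¹) := by group
        rw [e]
        exact mul_mem (hN x hx.1 _ (hy.2 f hf)) (hx.2 f hf)⟩
      inv_mem' := fun {x} hx => ⟨inv_mem hx.1, fun f hf => by
        have e : x⁻¹ * f * x⁻¹⁻¹ * f⁻¹ = x⁻¹ * (x * f * x⁻¹ * f⁻¹)⁻¹ * x⁻¹⁻¹ := by group
        rw [e]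
        exact hN _ (inv_mem hx.1) _ (inv_mem (hx.2 f hf))⟩ }
  have hXT : root ha.toAdm ⊔ root hd.toAdm ≤ T := sup_le
    (fun x hx => ⟨hX (Subgroup.mem_sup_left hx), fun f hf => by
      rw [root_commutative ha.toAdm x hx f hf]; simp⟩)
    (fun x hx => ⟨hX (Subgroup.mem_sup_right hx), hc x hx⟩)
  obtain ⟨s, hs0, hs1⟩ := Generic.exists_sq_ne_one (two_ne S.two) S.three
  obtain ⟨hXa, hXd⟩ := adm_sup_left ha hd
  obtain ⟨h, hh, he, hi⟩ := torus_mem hXa hXd ho hs0
  have ht := torus_conj ha ho hs0 he hi (self_mem_opSpace ha.toAdm) 1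
  refine ⟨_, ex_mem_root _ (self_mem_opSpace _) _, ht ▸ (hXT hh).2 _ (ex_mem_root _ (self_mem_opSpace _) 1), fun e => ?_⟩
  have := congrArg op e
  rw [op_ex] at this
  simp only [op, Units.val_one, sub_self, mul_one, smul_eq_zero, sub_eq_zero, hs1, false_or] at this
  exact ha.ne this

/-- A family of commuting unipotent sets inside a normal subgroup is trivial. -/
theorem unipotent_sets_trivial (hirr : IsIrreducibleFor G) (hGR : ∀ g ∈ G, ∀ r ∈ R, g * r * g⁻¹ ∈ R) (hNR : N ≤ R)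
    (W : Set (Set (LinearMap.GeneralLinearGroup k M))) (hWN : ∀ P ∈ W, P ⊆ N)
    (hWn : ∀ P ∈ W, ∀ n ∈ N, ∀ w ∈ P, n * w * n⁻¹ ∈ P)
    (hWc : ∀ P ∈ W, ∀ v ∈ P, ∀ w ∈ P, v * w = w * v) (hWu : ∀ P ∈ W, ∀ w ∈ P, IsNilpotent (op w))
    (hWR : ∀ P ∈ W, ∀ r ∈ R, ∀ w ∈ P, ∃ Q ∈ W, r * w * r⁻¹ ∈ Q) : ∀ P ∈ W, ∀ w ∈ P, w = 1 := by
  classical
  let Fix : Set (LinearMap.GeneralLinearGroup k M) → Submodule k M := fun P => ⨅ w ∈ P, LinearMap.ker (op w)
  let Inv : Subgroup (LinearMap.GeneralLinearGroup k M) → Submodule k M → Prop := fun H V =>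
    ∀ h ∈ H, ∀ v ∈ V, (h : Module.End k M) v ∈ V
  have mfix : ∀ P v, v ∈ Fix P ↔ ∀ w ∈ P, op w v = 0 := fun P v => by simp [Fix, Submodule.mem_iInf]
  have swap : ∀ (x y : LinearMap.GeneralLinearGroup k M) (v : M),
      op x ((y : Module.End k M) v) = (y : Module.End k M) (op (y⁻¹ * x * y) v) := fun x y v => by
    rw [← Module.End.mul_apply, ← Module.End.mul_apply]
    congr 1
    simp [op, mul_sub, sub_mul, ← mul_assoc]
  set F : Submodule k M := ⨅ P ∈ W, Fix P with hF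
  have mF : ∀ v, v ∈ F ↔ ∀ P ∈ W, v ∈ Fix P := fun v => by simp [hF, Submodule.mem_iInf]
  have minimal : ∀ (H : Subgroup (LinearMap.GeneralLinearGroup k M)) (V : Submodule k M), Inv H V → V ≠ ⊥ →
      ∃ V', V' ≤ V ∧ Inv H V' ∧ V' ≠ ⊥ ∧ ∀ U, U ≤ V' → Inv H U → U ≠ ⊥ → U = V' := by
    intro H V hV hV0
    obtain ⟨V', ⟨h1, h2, h3⟩, hmin⟩ := (wellFounded_lt (α := Submodule k M)).has_min
      {U | U ≤ V ∧ Inv H U ∧ U ≠ ⊥} ⟨V, le_rfl, hV, hV0⟩
    exact ⟨V', h1, h2, h3, fun U hU hUi hU0 => (eq_of_le_of_not_lt hU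
      (hmin U ⟨hU.trans h1, hUi, hU0⟩))⟩
  have stepN : ∀ V, Inv N V → V ≠ ⊥ → V ⊓ F ≠ ⊥ := by
    intro V hV hV0
    obtain ⟨V1, hle, hV1, hV10, hmin⟩ := minimal N V hV hV0
    suffices V1 ≤ F from ne_bot_of_le_ne_bot hV10 (le_inf hle this)
    intro v hv
    rw [mF]
    intro P hP
    suffices V1 ⊓ Fix P = V1 from (this.ge hv).2
    refine hmin _ inf_le_left (fun n hn u hu => ⟨hV1 n hn u hu.1, (mfix _ _).2 fun w hw => ?_⟩) ?_
    · rw [swap, (mfix _ _).1 hu.2 _ (by simpa using hWn P hP n⁻¹ (inv_mem hn) w hw), map_zero]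
    · obtain ⟨V2, hle2, hV2, hV20, hmin2⟩ := minimal (Subgroup.closure P) V1
        (fun h hh => hV1 h ((Subgroup.closure_le N).2 (hWN P hP) hh)) hV10
      refine ne_bot_of_le_ne_bot hV20 (le_inf hle2 fun u hu => (mfix _ _).2 fun w hw => ?_)
      suffices V2 ⊓ LinearMap.ker (op w) = V2 from LinearMap.mem_ker.1 (this.ge hu).2
      refine hmin2 _ inf_le_left (fun h hh z hz => ⟨hV2 h hh z hz.1, ?_⟩) ?_
      · show (op w) _ = 0
        rw [swap]
        have e : h⁻¹ * w * h = w := by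
          have hle : Subgroup.closure P ≤ Subgroup.centralizer {w} := (Subgroup.closure_le _).2 fun p hp =>
            Subgroup.mem_centralizer_singleton_iff.2 (hWc P hP p hp w hw)
          rw [mul_assoc, ← Subgroup.mem_centralizer_singleton_iff.1 (hle hh), inv_mul_cancel_left]
        rw [e, LinearMap.mem_ker.1 hz.2, map_zero]
      · intro h0
        obtain ⟨n, hn⟩ := hWu P hP w hw
        obtain ⟨z, hz, hz0⟩ := Submodule.exists_mem_ne_zero_of_ne_bot hV20
        have hmem : ∀ i, ((op w) ^ i) z ∈ V2 := fun i => by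
          induction i with
          | zero => simpa using hz
          | succ i ih =>
            rw [pow_succ', Module.End.mul_apply]
            show ((w : Module.End k M) - 1) _ ∈ V2
            rw [LinearMap.sub_apply, Module.End.one_apply]
            exact sub_mem (hV2 w (Subgroup.subset_closure hw) _ ih) ih
        have hex : ∃ i, ((op w) ^ i) z = 0 := ⟨n, by rw [hn]; rfl⟩
        rcases hi : Nat.find hex with _ | i
        · have := Nat.find_spec hex
          rw [hi, pow_zero] at this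
          exact hz0 this
        · refine Nat.find_min hex (m := i) (by omega) ?_
          rw [← Submodule.mem_bot k, ← h0]
          refine ⟨hmem i, ?_⟩
          have := Nat.find_spec hex
          rwa [hi, pow_succ', Module.End.mul_apply] at this
  have stepR : ∀ V, Inv R V → V ≠ ⊥ → V ⊓ F ≠ ⊥ := fun V hV hV0 => stepN V (fun h hh => hV h (hNR hh)) hV0
  have invF : Inv R F := fun r hr v hv => (mF _).2 fun P hP => (mfix _ _).2 fun w hw => by
    obtain ⟨Q, hQ, hwQ⟩ := hWR P hP r⁻¹ (inv_mem hr) w hw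
    rw [inv_inv] at hwQ
    rw [swap, (mfix _ _).1 ((mF _).1 hv Q hQ) _ hwQ, map_zero]
  let U : Submodule k M := ⨆ V ∈ {V | Inv R V ∧ ∀ V' ≤ V, Inv R V' → V' ≠ ⊥ → V' = V}, V
  have hUF : U ≤ F := iSup₂_le fun V ⟨hV, hmin⟩ => by
    rcases eq_or_ne V ⊥ with rfl | h0
    · exact bot_le
    have hi : Inv R (V ⊓ F) := fun r hr v hv => ⟨hV r hr v hv.1, invF r hr v hv.2⟩
    exact (hmin _ inf_le_left hi (stepR V hV h0)).ge.trans inf_le_right
  have hUinv : Inv G U := by
    intro g hg v hv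
    have : U ≤ U.comap (g : Module.End k M) := iSup₂_le fun V ⟨hV, hmin⟩ => by
      rw [← Submodule.map_le_iff_le_comap]
      refine le_iSup₂_of_le _ ⟨fun r hr => ?_, fun V' hle hV' h0 => ?_⟩ le_rfl
      · rintro _ ⟨u, hu, rfl⟩
        refine ⟨_, hV (g⁻¹ * r * g) (by simpa using hGR g⁻¹ (inv_mem hg) r hr) u hu, ?_⟩
        rw [← Module.End.mul_apply, ← Module.End.mul_apply, ← Units.val_mul, ← Units.val_mul]
        simp [mul_assoc]
      · have hinj : Function.Injective (g : Module.End k M) := fun x y e => by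
          have := congrArg ((g⁻¹ : LinearMap.GeneralLinearGroup k M) : Module.End k M) e
          rwa [← Module.End.mul_apply, ← Module.End.mul_apply, Units.inv_mul] at this
        have e : (V'.comap (g : Module.End k M)).map (g : Module.End k M) = V' :=
          Submodule.map_comap_eq_self (hle.trans LinearMap.map_le_range)
        have := hmin (V'.comap (g : Module.End k M))
          ((Submodule.comap_mono hle).trans (Submodule.comap_map_eq_of_injective hinj V).le) (fun r hr u hu => by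
            show (g : Module.End k M) ((r : Module.End k M) u) ∈ V'
            have h := hV' (g * r * g⁻¹) (hGR g hg r hr) _ hu
            rw [← Module.End.mul_apply, ← Units.val_mul, inv_mul_cancel_right, Units.val_mul] at h
            exact h) (fun e0 => h0 (by rw [← e, e0, Submodule.map_bot]))
        rw [← e, this]
    exact this hv
  rcases hirr.2 U hUinv with h0 | h1
  · exfalso
    obtain ⟨m, hm⟩ := hirr.1
    obtain ⟨V', -, hV', hV'0, hmin⟩ := minimal R ⊤ (fun h _ v _ => Submodule.mem_top)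
      (fun e => hm ((Submodule.mem_bot k).1 (e ▸ Submodule.mem_top)))
    exact hV'0 (le_bot_iff.1 (h0 ▸ le_iSup₂_of_le V' ⟨hV', hmin⟩ le_rfl))
  · intro P hP w hw
    refine Units.ext (LinearMap.ext fun m => ?_)
    have := (mfix _ _).1 ((mF m).1 (hUF (h1.ge Submodule.mem_top)) P hP) w hw
    simpa [op, sub_eq_zero] using this

theorem rootGroup_le_of_part (S : Setting G) {A : Subgroup (LinearMap.GeneralLinearGroup k M)}
    (hN : ∀ r ∈ partGroup G A, ∀ n ∈ N, r * n * r⁻¹ ∈ N) (hNle : N ≤ partGroup G A) :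
    ∀ r ∈ rootGroup G, ∀ n ∈ N, r * n * r⁻¹ ∈ N := by
  have hle : rootGroup G ≤ Subgroup.normalizer (N : Set (LinearMap.GeneralLinearGroup k M)) := iSup₂_le fun D hD x hx => by
    rw [Subgroup.mem_normalizer_iff]
    by_cases hr : Rel G A D
    · have hxP := le_partGroup ⟨hD, hr⟩ hx
      exact fun n => ⟨fun hn => hN x hxP n hn, fun hn => by simpa [mul_assoc] using hN x⁻¹ (inv_mem hxP) _ hn⟩
    · have hc := commutator_eq_bot_iff.1 (part_group_commute S hr)
      have hxD : x ∈ partGroup G D := le_partGroup ⟨hD, .refl⟩ hx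
      intro n
      constructor
      · intro hn; rwa [← hc n (hNle hn) x hxD, mul_inv_cancel_right]
      · intro hn
        have := hc _ (hNle hn) x hxD
        rw [inv_mul_cancel_right] at this
        rw [mul_left_cancel this]
        exact hn
  intro r hr n hn
  exact ((Subgroup.mem_normalizer_iff.1 (hle hr)) n).1 hn

/-- A normal subgroup of the group of a component is everything or central. -/
theorem normal_dichotomy (S : Setting G) {A₀ : Subgroup (LinearMap.GeneralLinearGroup k M)}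
    (hA₀ : A₀ ∈ quadraticRootSubgroups G) (hNle : N ≤ partGroup G A₀)
    (hN : ∀ r ∈ partGroup G A₀, ∀ n ∈ N, r * n * r⁻¹ ∈ N) :
    N = partGroup G A₀ ∨ ∀ n ∈ N, ∀ r ∈ partGroup G A₀, n * r = r * n := by
  classical
  have hpartX : ∀ {A B : Subgroup (LinearMap.GeneralLinearGroup k M)}, A ∈ part G A₀ → B ∈ quadraticRootSubgroups G →
      IsRankOnePair A B → A ⊔ B ≤ partGroup G A₀ := fun {A B} hA hB hp =>
    sup_le (le_partGroup hA) (le_partGroup ⟨hB, Relation.ReflTransGen.tail hA.2 ⟨hA.1, hB, hp⟩⟩)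
  by_cases hmeet : ∃ A ∈ part G A₀, ∃ e ∈ A, e ∈ N ∧ e ≠ 1
  · obtain ⟨A, hA, e, he, heN, he1⟩ := hmeet
    refine Or.inl (le_antisymm hNle ?_)
    obtain ⟨a, ha, rfl⟩ := exists_root hA.1
    have hy0 : op e ≠ 0 := fun h0 => he1 (Units.ext (by simpa [op, sub_eq_zero] using h0))
    obtain ⟨hm, -, -⟩ := min_of_mem ha (mem_root.1 he) hy0
    have hAN : root hm.toAdm ≤ N := root_le_of_meets N _ S hN hm
      (fun D hD hp => hpartX ((root_eq_of_mem ha (mem_root.1 he) hy0).symm ▸ hA) hD hp)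
      (eq_ex_op he ▸ heN)
    rw [root_eq_of_mem ha (mem_root.1 he) hy0] at hAN
    refine iSup₂_le fun B hB => ?_
    obtain ⟨g, hg, rfl⟩ := conj_pair_class S hA hB
    rintro _ ⟨x, hx, rfl⟩
    exact hN g hg x (hAN hx)
  push Not at hmeet
  refine Or.inr ?_
  have hRN := rootGroup_le_of_part S hN hNle
  have hconjP : ∀ {A : Subgroup (LinearMap.GeneralLinearGroup k M)}, A ∈ part G A₀ → ∀ n ∈ N,
      conjBy A n ∈ part G A₀ := fun {A} hA n hn => part_conj S hA (partGroup_le_root (hNle hn))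
  -- conjugates under `N` commute
  have horb : ∀ A ∈ part G A₀, ∀ n ∈ N, ⁅A, conjBy A n⁆ = ⊥ := by
    intro A hA n hn
    have hB := hconjP hA n hn
    have hcN : ∀ g ∈ conjBy A n, ∀ f ∈ A, g * f * g⁻¹ * f⁻¹ ∈ N := by
      rintro _ ⟨e, he, rfl⟩ f hf
      obtain ⟨a, ha, rfl⟩ := exists_root hA.1
      have hm : n * e * n⁻¹ * e⁻¹ ∈ N := by
        rw [mul_assoc n e, mul_assoc n]
        exact mul_mem hn (hN e (le_partGroup hA he) _ (inv_mem hn))
      have hef : e * f * e⁻¹ = f := by rw [root_commutative ha.toAdm e he f hf, mul_inv_cancel_right]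
      have e' : n * e * n⁻¹ * f * (n * e * n⁻¹)⁻¹ * f⁻¹ =
          n * e * n⁻¹ * e⁻¹ * (e * f * e⁻¹) * (n * e * n⁻¹ * e⁻¹)⁻¹ * f⁻¹ := by group
      show n * e * n⁻¹ * f * (n * e * n⁻¹)⁻¹ * f⁻¹ ∈ N
      rw [e', hef, mul_assoc (n * e * n⁻¹ * e⁻¹) f, mul_assoc (n * e * n⁻¹ * e⁻¹)]
      exact mul_mem hm (hN f (le_partGroup hA hf) _ (inv_mem hm))
    have hle : ⁅conjBy A n, A⁆ ≤ N := Subgroup.commutator_le.2 hcN
    rcases part_pair S hA hB with h | h | h
    · exact h
    · exfalso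
      obtain ⟨e, he, heN, he1⟩ := meets_of_derived S hN hA.1 hB.1 h (hpartX hA hB.1 h) hcN
      exact he1 (hmeet A hA e he heN)
    · by_contra hne
      obtain ⟨e, he, he1⟩ := (Subgroup.bot_or_exists_ne_one _).resolve_left hne
      exact he1 (hmeet _ h.1 e he (hle (Subgroup.commutator_comm A (conjBy A n) ▸ he)))
  let O : Subgroup (LinearMap.GeneralLinearGroup k M) → Set (LinearMap.GeneralLinearGroup k M) := fun A =>
    {g | ∃ n ∈ N, ∃ x ∈ A, g = n * x * n⁻¹}
  have hOc : ∀ A ∈ part G A₀, ∀ g ∈ O A, ∀ f ∈ O A, g * f = f * g := by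
    rintro A hA _ ⟨n, hn, x, hx, rfl⟩ _ ⟨m, hm, y, hy, rfl⟩
    have h := horb _ (hconjP hA n hn) (m * n⁻¹) (mul_mem hm (inv_mem hn))
    rw [ThreeTransp.RankOne.conjBy_conjBy, inv_mul_cancel_right, ThreeTransp.RankOne.commutator_eq_bot_iff] at h
    exact h _ ⟨x, hx, rfl⟩ _ ⟨y, hy, rfl⟩
  have hOsq : ∀ A ∈ part G A₀, ∀ g ∈ O A, op g * op g = 0 := by
    rintro A hA _ ⟨n, hn, x, hx, rfl⟩
    obtain ⟨b, hb, e⟩ := exists_root (hconjP hA n hn).1
    have hg : n * x * n⁻¹ ∈ root hb.toAdm := e ▸ ⟨x, hx, rfl⟩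
    exact (mem_root.1 hg).1.sq
  let P : Subgroup (LinearMap.GeneralLinearGroup k M) → Set (LinearMap.GeneralLinearGroup k M) := fun A =>
    {w | w ∈ N ∧ ∃ g ∈ O A, ∃ f ∈ O A, w = g * f⁻¹}
  have triv : ∀ Q ∈ {Q | ∃ A ∈ part G A₀, Q = P A}, ∀ w ∈ Q, w = 1 := by
    refine unipotent_sets_trivial (R := rootGroup G) S.irred (fun g hg r hr => rootGroup_conj hg hr)
      (hNle.trans partGroup_le_root) _ ?_ ?_ ?_ ?_ ?_
    · rintro _ ⟨A, -, rfl⟩ w hw; exact hw.1
    · rintro _ ⟨A, -, rfl⟩ n hn w ⟨hw, _, ⟨n₁, hn₁, x, hx, rfl⟩, _, ⟨n₂, hn₂, y, hy, rfl⟩, rfl⟩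
      exact ⟨mul_mem (mul_mem hn hw) (inv_mem hn), n * n₁ * x * (n * n₁)⁻¹, ⟨_, mul_mem hn hn₁, x, hx, rfl⟩,
        n * n₂ * y * (n * n₂)⁻¹, ⟨_, mul_mem hn hn₂, y, hy, rfl⟩, by group⟩
    · rintro _ ⟨A, hA, rfl⟩ v ⟨-, g, hg, f, hf, rfl⟩ w ⟨-, g', hg', f', hf', rfl⟩
      exact Commute.mul_left (Commute.mul_right (hOc A hA g hg g' hg') (Commute.inv_right (hOc A hA g hg f' hf')))
        (Commute.inv_left (Commute.mul_right (hOc A hA f hf g' hg') (Commute.inv_right (hOc A hA f hf f' hf'))))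
    · rintro _ ⟨A, hA, rfl⟩ w ⟨-, g, hg, f, hf, rfl⟩
      have hfi : ((f⁻¹ : LinearMap.GeneralLinearGroup k M) : Module.End k M) = 1 - op f :=
        Units.inv_eq_of_mul_eq_one_right (by
          have h1 : (f : Module.End k M) = 1 + op f := by simp [op]
          rw [h1, add_mul, one_mul, mul_sub, mul_one, hOsq A hA f hf]; abel)
      have e : op (g * f⁻¹) = op g - (1 + op g) * op f := by
        rw [show op (g * f⁻¹) = (g : Module.End k M) * ((f⁻¹ : LinearMap.GeneralLinearGroup k M) : Module.End k M) - 1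
          from rfl, hfi, show (g : Module.End k M) = 1 + op g by simp [op]]
        simp [op, mul_sub, add_mul]; abel
      rw [e]
      have c : Commute (op g) (op f) := commute_iff.1 (hOc A hA g hg f hf)
      have ng : IsNilpotent (op g) := ⟨2, by rw [pow_two, hOsq A hA g hg]⟩
      have nf : IsNilpotent (op f) := ⟨2, by rw [pow_two, hOsq A hA f hf]⟩
      have c1 : Commute (1 + op g) (op f) := (Commute.one_left _).add_left c
      exact Commute.isNilpotent_sub (((Commute.one_right (op g)).add_right (Commute.refl _)).mul_right c) ng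
        (c1.isNilpotent_mul_left nf)
    · rintro _ ⟨A, hA, rfl⟩ r hr w ⟨hw, _, ⟨n₁, hn₁, x, hx, rfl⟩, _, ⟨n₂, hn₂, y, hy, rfl⟩, rfl⟩
      exact ⟨_, ⟨_, part_conj S hA hr, rfl⟩, hRN r hr _ hw, r * n₁ * r⁻¹ * (r * x * r⁻¹) * (r * n₁ * r⁻¹)⁻¹,
        ⟨_, hRN r hr _ hn₁, _, ⟨x, hx, rfl⟩, rfl⟩, r * n₂ * r⁻¹ * (r * y * r⁻¹) * (r * n₂ * r⁻¹)⁻¹,
        ⟨_, hRN r hr _ hn₂, _, ⟨y, hy, rfl⟩, rfl⟩, by group⟩
  intro n hn r hr
  have hle : partGroup G A₀ ≤ Subgroup.centralizer {n} := iSup₂_le fun A hA e he => by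
    rw [Subgroup.mem_centralizer_singleton_iff]
    have hm : n * e * n⁻¹ * e⁻¹ ∈ N := by
      rw [mul_assoc n e, mul_assoc n]
      exact mul_mem hn (hN e (le_partGroup hA he) _ (inv_mem hn))
    have := triv _ ⟨A, hA, rfl⟩ _ ⟨hm, _, ⟨n, hn, e, he, rfl⟩, e, ⟨1, one_mem _, e, he, by simp⟩, rfl⟩
    exact (mul_inv_eq_iff_eq_mul.1 (mul_inv_eq_one.1 this)).symm
  exact (Subgroup.mem_centralizer_singleton_iff.1 (hle hr)).symm

theorem partGroup_perfect (S : Setting G) {A₀ : Subgroup (LinearMap.GeneralLinearGroup k M)} :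
    ⁅partGroup G A₀, partGroup G A₀⁆ = partGroup G A₀ := by
  refine le_antisymm (Subgroup.commutator_le.2 fun x hx y hy =>
    mul_mem (mul_mem (mul_mem hx hy) (inv_mem hx)) (inv_mem hy)) (iSup₂_le fun A hA x hx => ?_)
  obtain ⟨a, ha, rfl⟩ := exists_root hA.1
  obtain ⟨d, hd, ho⟩ := exists_opp S ha
  obtain ⟨s, hs0, hs1⟩ := Generic.exists_sq_ne_one (two_ne S.two) S.three
  obtain ⟨hXa, hXd⟩ := adm_sup_left ha hd
  obtain ⟨h, hh, he, hi⟩ := torus_mem hXa hXd ho hs0
  have ht := torus_conj ha ho hs0 he hi (mem_root.1 hx) ((s * s - 1)⁻¹)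
  rw [mul_inv_cancel₀ (sub_ne_zero.2 hs1), ← eq_ex_op hx] at ht
  rw [← ht]
  refine Subgroup.commutator_mem_commutator ?_ (le_partGroup hA (ex_mem_root _ (mem_root.1 hx) _))
  exact sup_le (le_partGroup hA) (le_partGroup
    ⟨root_mem_roots hd, Relation.ReflTransGen.tail hA.2 ⟨hA.1, root_mem_roots hd, (special S ha hd ho).1⟩⟩) hh

theorem partGroup_quasisimple (S : Setting G) {A₀ : Subgroup (LinearMap.GeneralLinearGroup k M)}
    (hA₀ : A₀ ∈ quadraticRootSubgroups G) : IsQuasisimple ↥(partGroup G A₀) := by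
  have hperf : Group.IsPerfect ↥(partGroup G A₀) := Subgroup.isPerfect_iff.2 (partGroup_perfect S)
  have hnt : Nontrivial ↥(partGroup G A₀) := by
    obtain ⟨a, ha, rfl⟩ := exists_root hA₀
    exact (Subgroup.nontrivial_iff_ne_bot _).2
      (ne_bot_of_le_ne_bot (root_ne_bot ha) (le_partGroup ⟨hA₀, .refl⟩))
  refine Components.Basic.isQuasisimple_of_normal hperf hnt fun N' hN' => ?_
  rcases normal_dichotomy (N := N'.map (partGroup G A₀).subtype) S hA₀ (Subgroup.map_subtype_le _)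
      (by rintro r hr _ ⟨n, hn, rfl⟩; exact ⟨_, hN'.conj_mem n hn ⟨r, hr⟩, rfl⟩) with h | h
  · left
    refine Subgroup.map_injective (Subgroup.subtype_injective _) ?_
    rw [h, ← MonoidHom.range_eq_map, Subgroup.range_subtype]
  · right
    intro n hn
    rw [Subgroup.mem_center_iff]
    exact fun r => Subtype.ext (h _ ⟨n, hn, rfl⟩ r r.2).symm

end Cfsg.Agent.QuadraticPair
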