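import Cfsg.Agent.Lib.QuadraticPair.Root

/-!
# Two roots: a unipotent group or a special rank one group
-/

set_option linter.all false
set_option autoImplicit false

namespace Cfsg.Agent.QuadraticPair

open Cfsg

universe u

variable {k : Type u} [Field k] {M : Type*} [AddCommGroup M] [Module k M] [FiniteDimensional k M]
  {G : Subgroup (LinearMap.GeneralLinearGroup k M)} {a b : Module.End k M}

theorem unipotent_of_aba (S : Base G) (ha : Min G a) (hb : Min G b) (h : a * b * a = 0) :
    IsUnipotentOn (root ha.toAdm ⊔ root hb.toAdm) := by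
  classical
  set A := opSpace ha.toAdm
  set B := opSpace hb.toAdm
  have hAA : A * A = ⊥ := eq_bot_iff.2 (Submodule.mul_le.2 fun x hx y hy =>
    (Submodule.mem_bot k).2 (mul_zero_of_mem ha.toAdm hx hy))
  have hBB : B * B = ⊥ := eq_bot_iff.2 (Submodule.mul_le.2 fun x hx y hy =>
    (Submodule.mem_bot k).2 (mul_zero_of_mem hb.toAdm hx hy))
  have tri : ∀ {a b : Module.End k M} (ha : Min G a) (hb : Min G b), a * b * a = 0 →
      opSpace ha.toAdm * opSpace hb.toAdm * opSpace ha.toAdm = ⊥ := by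
    intro a b ha hb h
    refine eq_bot_iff.2 (Submodule.mul_le.2 fun x hx z hz => ?_)
    rw [Submodule.mem_bot]
    refine Submodule.mul_induction_on hx (fun u hu v hv => triple_zero S ha hb h hu hv hz) fun u v hu hv => ?_
    rw [add_mul, hu, hv, add_zero]
  have hABA : A * B * A = ⊥ := tri ha hb h
  have hBAB : B * A * B = ⊥ := tri hb ha (bab_eq_zero S ha hb h)
  set L := A + B + (A * B + B * A)
  have hABB : A * B * B = ⊥ := by rw [mul_assoc, hBB, Submodule.mul_bot]
  have hBAA : B * A * A = ⊥ := by rw [mul_assoc, hAA, Submodule.mul_bot]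
  have hLL : L * L ≤ A * B + B * A := by
    simp only [L, add_mul, mul_add, ← mul_assoc, hAA, hBB, hABA, hBAB, hABB, hBAA, Submodule.bot_mul]
    simp only [Submodule.add_eq_sup, bot_sup_eq, sup_bot_eq]
    exact le_of_eq (sup_comm _ _)
  have hL : L * L ≤ L := hLL.trans le_sup_right
  have h3 : L ^ 3 = ⊥ := by
    rw [eq_bot_iff, pow_succ, pow_two]
    refine (mul_le_mul' hLL le_rfl).trans (le_of_eq ?_)
    simp only [L, add_mul, mul_add, ← mul_assoc, hABA, hBAB, Submodule.bot_mul]
    rw [mul_assoc A B B, hBB, mul_assoc B A A, hAA]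
    simp [← Submodule.zero_eq_bot]
  have hX : root ha.toAdm ⊔ root hb.toAdm ≤ Cfsg.Agent.RootSubgroups.UnipotentFamily.groupOf L hL := by
    refine sup_le (fun g hg => ?_) fun g hg => ?_
    · exact Submodule.mem_sup_left (Submodule.mem_sup_left hg)
    · exact Submodule.mem_sup_left (Submodule.mem_sup_right hg)
  have hn : Cfsg.Agent.RootSubgroups.UnipotentFamily.Nil k (R := Module.End k M) (root ha.toAdm ⊔ root hb.toAdm) :=
    ⟨3, Cfsg.Agent.RootSubgroups.UnipotentFamily.pow_eq_bot_of_le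
      (Cfsg.Agent.RootSubgroups.UnipotentFamily.le_groupOf.1 hX) h3⟩
  rw [Cfsg.Agent.RootSubgroups.UnipotentFamily.nil_iff] at hn
  unfold IsUnipotentOn
  simpa [List.map_map, List.map_eq_map, Function.comp_def, List.map_flatMap, ← List.map_eq_flatMap] using hn

theorem aba_of_mem (S : Base G) (ha : Min G a) (hb : Min G b) {y : Module.End k M} (hy : y ∈ opSpace ha.toAdm)
    (hy0 : y ≠ 0) (h : y * b * y = 0) : a * b * a = 0 := by
  obtain ⟨hm, hR, hK⟩ := min_of_mem ha hy hy0
  refine bab_eq_zero S hb ha (left_zero S hb hm (bab_eq_zero S hm hb h) ⟨ha.toAdm, hR.ge, hK.le⟩)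

section Opposed

variable (S : Base G) (ha : Min G a) (hb : Min G b) (ho : Opp a b)

include ho in
theorem proj {y : Module.End k M} (hy : y ∈ opSpace ha.toAdm) :
    a * b * y = y ∧ y * (b * a) = y ∧ b * a * y = 0 ∧ y * (a * b) = 0 := by
  refine ⟨eq_mul_left hy.2.1 ho.left, eq_mul_right hy.2.2 (by rw [← mul_assoc, ho.left]),
    eq_zero_left hy.2.1 (by rw [mul_assoc, ha.sq, mul_zero]), eq_zero_right hy.2.2 (by rw [← mul_assoc, ha.sq, zero_mul])⟩

include S ho in
theorem exists_opp_mem {y : Module.End k M} (hy : y ∈ opSpace ha.toAdm) (hy0 : y ≠ 0) :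
    ∃ y' ∈ opSpace hb.toAdm, Opp y y' ∧ y * y' = a * b ∧ y' * y = b * a := by
  obtain ⟨hm, hR, hK⟩ := min_of_mem ha hy hy0
  have hn : ¬ IsNilpotent (y * b + b * y) := fun ⟨n, hn⟩ => by
    have := aba_of_mem S ha hb hy hy0 (nil_aba S.two n hm hb hn).1
    rw [ho.left] at this
    exact ha.ne this
  obtain ⟨y', hy', ho'⟩ := exists_opp_of_pair S hm hb hn
  have hy'0 : y' ≠ 0 := fun e => hy0 (by rw [← ho'.left, e, mul_zero, zero_mul])
  obtain ⟨-, hR', hK'⟩ := min_of_mem hb hy' hy'0
  obtain ⟨p1, p2, -, -⟩ := proj ha ho hy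
  have q1 : b * (y * y') = b := eq_mul_right hK'.le (by rw [← mul_assoc, ho'.right])
  have q2 : (y' * y) * b = b := eq_mul_left hR'.ge ho'.right
  refine ⟨y', hy', ho', ?_, ?_⟩
  · calc y * y' = a * b * y * y' := by rw [p1]
      _ = a * (b * (y * y')) := by simp only [mul_assoc]
      _ = a * b := by rw [q1]
  · calc y' * y = y' * (y * (b * a)) := by rw [p2]
      _ = y' * y * b * a := by simp only [mul_assoc]
      _ = b * a := by rw [q2]

include ho in
theorem conj_swap {n : LinearMap.GeneralLinearGroup k M} (hn : n ∈ G) {y y' : Module.End k M}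
    (hy : y ∈ opSpace ha.toAdm) (hy' : y' ∈ opSpace hb.toAdm)
    (he : (n : Module.End k M) = 1 - a * b - b * a + y - y')
    (hi : ((n⁻¹ : LinearMap.GeneralLinearGroup k M) : Module.End k M) = 1 - a * b - b * a - y + y') :
    (root ha.toAdm).map (MulAut.conj n).toMonoidHom ≤ root hb.toAdm := by
  rintro _ ⟨g, hg, rfl⟩
  have hg' : op g ∈ opSpace ha.toAdm := hg
  rw [mem_root]
  have e : op ((MulAut.conj n).toMonoidHom g) =
      (n : Module.End k M) * op g * ((n⁻¹ : LinearMap.GeneralLinearGroup k M) : Module.End k M) := by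
    simp [op, mul_sub, sub_mul, mul_assoc]
  rw [e]
  obtain ⟨p1, p2, p3, p4⟩ := proj ha ho hg'
  have x1 : (n : Module.End k M) * op g = -(y' * op g) := by
    rw [he]
    simp only [sub_mul, add_mul, one_mul, p1, p3, mul_zero_of_mem ha.toAdm hy hg']
    abel
  have x2 : op g * ((n⁻¹ : LinearMap.GeneralLinearGroup k M) : Module.End k M) = op g * y' := by
    rw [hi]
    simp only [mul_sub, mul_add, mul_one, p2, p4, mul_zero_of_mem ha.toAdm hg' hy]
    abel
  refine ⟨hg'.1.conj hn, ?_, fun m hm => ?_⟩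
  · rw [x1]
    rintro _ ⟨m, rfl⟩
    exact neg_mem (hy'.2.1 ⟨_, rfl⟩)
  · rw [mul_assoc, x2]
    show (n : Module.End k M) (op g (y' m)) = 0
    rw [LinearMap.mem_ker.1 (hy'.2.2 hm), map_zero, map_zero]

include S ho in
theorem weyl {e : LinearMap.GeneralLinearGroup k M} (he : e ∈ root ha.toAdm) (he1 : e ≠ 1) :
    ∃ f ∈ root hb.toAdm, f ≠ 1 ∧ Cfsg.conjBy (root ha.toAdm) f⁻¹ = Cfsg.conjBy (root hb.toAdm) e⁻¹ ∧
      f⁻¹ * e * f = e⁻¹ * f⁻¹ * e := by
  have hy : op e ∈ opSpace ha.toAdm := he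
  have hy0 : op e ≠ 0 := fun h0 => he1 (Units.ext (by simpa [op, sub_eq_zero] using h0))
  obtain ⟨y', hy', ho', h1, h2⟩ := exists_opp_mem S ha hb ho hy hy0
  have hy'0 : y' ≠ 0 := fun e => hy0 (by rw [← ho'.left, e, mul_zero, zero_mul])
  set y := op e with hye
  set f := ex hy'.1.sq (1 : k)
  have hf : f ∈ root hb.toAdm := ex_mem_root _ hy' 1
  have hfv : (f : Module.End k M) = 1 + y' := by simp [f]
  have hfi : ((f⁻¹ : LinearMap.GeneralLinearGroup k M) : Module.End k M) = 1 - y' := by simp [f]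
  have hev : (e : Module.End k M) = 1 + y := by simp [y, op]
  have hyy : y * y = 0 := mul_zero_of_mem ha.toAdm hy hy
  have hy'y' : y' * y' = 0 := mul_zero_of_mem hb.toAdm hy' hy'
  have hei : ((e⁻¹ : LinearMap.GeneralLinearGroup k M) : Module.End k M) = 1 - y :=
    Units.inv_eq_of_mul_eq_one_right (by rw [hev, add_mul, one_mul, mul_sub, mul_one, hyy]; abel)
  set n := e * f⁻¹ * e with hn
  have hnv : (n : Module.End k M) = 1 - a * b - b * a + y - y' := by
    rw [hn, Units.val_mul, Units.val_mul, hev, hfi]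
    simp only [add_mul, mul_add, mul_sub, sub_mul, one_mul, mul_one, ho'.left, hyy]
    rw [h1, h2]
    abel
  have hn' : f⁻¹ * e * f⁻¹ = n := Units.ext (by
    rw [hnv, Units.val_mul, Units.val_mul, hev, hfi]
    simp only [add_mul, mul_add, mul_sub, sub_mul, one_mul, mul_one, ho'.right, hy'y']
    rw [h1, h2]
    abel)
  have hni : ((n⁻¹ : LinearMap.GeneralLinearGroup k M) : Module.End k M) = 1 - a * b - b * a - y + y' := by
    have e0 : n⁻¹ = e⁻¹ * f * e⁻¹ := by rw [hn]; group
    rw [e0, Units.val_mul, Units.val_mul, hei, hfv]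
    simp only [add_mul, mul_add, mul_sub, sub_mul, one_mul, mul_one, ho'.left, hyy]
    rw [h1, h2]
    abel
  have hG : n ∈ G := mul_mem (mul_mem (root_le _ he) (inv_mem (root_le _ hf))) (root_le _ he)
  have hAB := conj_swap ha hb ho hG hy hy' hnv hni
  have hBA := conj_swap hb ha ho.symm (inv_mem hG) hy' hy (by rw [hni]; abel) (by rw [inv_inv, hnv]; abel)
  refine ⟨f, hf, fun h0 => hy'0 ?_, ?_, ?_⟩
  · have := congrArg op h0
    rw [op_ex, one_smul] at this
    simpa [op] using this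
  · have hmap : (root ha.toAdm).map (MulAut.conj n).toMonoidHom = root hb.toAdm := by
      refine le_antisymm hAB fun g hg => ?_
      have h' := hBA ⟨g, hg, rfl⟩
      exact ⟨_, h', by simp [mul_assoc]⟩
    rw [Cfsg.conjBy, Cfsg.conjBy, ← hmap, Subgroup.map_map]
    have hnorm : ∀ g ∈ root ha.toAdm, e * g * e⁻¹ = g := fun g hg => by
      rw [mul_inv_eq_iff_eq_mul]
      exact commute_iff.2 ((mul_zero_of_mem ha.toAdm hy hg).trans (mul_zero_of_mem ha.toAdm hg hy).symm)
    ext g
    simp only [Subgroup.mem_map, MonoidHom.comp_apply, MulEquiv.coe_toMonoidHom, MulAut.conj_apply]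
    refine exists_congr fun x => and_congr_right fun hx => ?_
    rw [show e⁻¹ * (n * x * n⁻¹) * e⁻¹⁻¹ = f⁻¹ * (e * x * e⁻¹) * f by rw [hn]; group, hnorm x hx, inv_inv]
  · have : f⁻¹ * e * f⁻¹ = e * f⁻¹ * e := hn'
    calc f⁻¹ * e * f = e⁻¹ * (e * f⁻¹ * e) * f := by group
      _ = e⁻¹ * (f⁻¹ * e * f⁻¹) * f := by rw [this]
      _ = e⁻¹ * f⁻¹ * e := by group

include ho in
theorem norm_trivial {g : LinearMap.GeneralLinearGroup k M} (hg : g ∈ root hb.toAdm)
    (hn : Cfsg.conjBy (root ha.toAdm) g ≤ root ha.toAdm) : g = 1 := by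
  have hx : op g ∈ opSpace hb.toAdm := hg
  obtain ⟨p1, p2, p3, p4⟩ := proj hb ho.symm hx
  have h := hn ⟨ex ha.sq 1, ex_mem_root _ (self_mem_opSpace _) 1, rfl⟩
  rw [mem_root] at h
  have hgv : (g : Module.End k M) = 1 + op g := by simp [op]
  have hgg : op g * op g = 0 := mul_zero_of_mem hb.toAdm hx hx
  have hgi : ((g⁻¹ : LinearMap.GeneralLinearGroup k M) : Module.End k M) = 1 - op g :=
    Units.inv_eq_of_mul_eq_one_right (by rw [hgv, add_mul, one_mul, mul_sub, mul_one, hgg]; abel)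
  have e : op ((MulAut.conj g).toMonoidHom (ex ha.sq (1 : k))) = (1 + op g) * a * (1 - op g) := by
    rw [← hgi, ← hgv]
    simp [op, mul_add, add_mul]
  rw [e] at h
  clear e
  generalize op g = x at *
  have h0 : a * b * ((1 + x) * a * (1 - x)) = (1 + x) * a * (1 - x) := eq_mul_left h.2.1 ho.left
  simp only [← mul_assoc, mul_add, mul_sub, mul_one, add_mul, one_mul] at h0
  rw [p3] at h0
  simp only [zero_mul, add_zero, ho.left] at h0
  have hxa : x * a = 0 := by
    have h3 : x * a * (1 - x) = 0 := by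
      simp only [mul_sub, mul_one]
      linear_combination (norm := abel) -h0
    calc x * a = x * a * ((1 - x) * (1 + x)) := by
          rw [show (1 - x) * (1 + x) = 1 by rw [mul_add, sub_mul, sub_mul, one_mul, one_mul, mul_one, hgg]; abel,
            mul_one]
      _ = 0 := by rw [← mul_assoc, h3, zero_mul]
  refine Units.ext ?_
  rw [hgv, show x = 0 by rw [← p2, ← mul_assoc, hxa, zero_mul], add_zero, Units.val_one]

include S ho in
theorem special : IsSpecialRankOnePair (root ha.toAdm) (root hb.toAdm) := by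
  have cm : ∀ {c : Module.End k M} (hc : Adm G c), Group.IsNilpotent (root hc) := fun {c} hc => by
    letI : CommGroup (root hc) := { (inferInstance : Group (root hc)) with
      mul_comm := fun g h => Subtype.ext (commute_iff.2
        ((mul_zero_of_mem hc g.2 h.2).trans (mul_zero_of_mem hc h.2 g.2).symm)) }
    exact CommGroup.isNilpotent
  refine ⟨⟨fun h => ?_, cm _, cm _, fun e he he1 => ?_, fun e he he1 => ?_⟩, fun e he he1 f hf hf1 hcond => ?_⟩
  · have hm := ex_mem_root ha.toAdm (self_mem_opSpace _) 1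
    rw [h, mem_root, op_ex, one_smul] at hm
    have := mul_zero_of_mem hb.toAdm hm (self_mem_opSpace _)
    exact ha.ne (by rw [← ho.left, this, zero_mul])
  · obtain ⟨f, hf, hf1, h1, -⟩ := weyl S ha hb ho he he1
    exact ⟨f, hf, hf1, h1⟩
  · obtain ⟨f, hf, hf1, h1, -⟩ := weyl S hb ha ho.symm he he1
    exact ⟨f, hf, hf1, h1⟩
  · obtain ⟨f', hf', -, h1, h2⟩ := weyl S ha hb ho he he1
    have : f * f'⁻¹ = 1 := by
      refine norm_trivial ha hb ho (mul_mem hf (inv_mem hf')) ?_
      rintro _ ⟨g, hg, rfl⟩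
      obtain ⟨g', hg', hgg⟩ := (h1.trans hcond.symm).le ⟨g, hg, rfl⟩
      simp only [MulEquiv.coe_toMonoidHom, MulAut.conj_apply, inv_inv] at hgg ⊢
      have e : f * f'⁻¹ * g * (f * f'⁻¹)⁻¹ = g' := by
        calc f * f'⁻¹ * g * (f * f'⁻¹)⁻¹ = f * (f'⁻¹ * g * f') * f⁻¹ := by group
          _ = g' := by rw [← hgg]; group
      rw [e]; exact hg'
    rw [mul_inv_eq_one] at this
    rw [this]; exact h2

include ho in
theorem fixed_sup :
    fixedSubmodule (root ha.toAdm ⊔ root hb.toAdm) = LinearMap.ker (a * b + b * a) ∧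
    commutatorSubmodule (root ha.toAdm ⊔ root hb.toAdm) = LinearMap.range (a * b + b * a) ∧
    ∀ x ∈ root ha.toAdm ⊔ root hb.toAdm,
      (a * b + b * a) * op x = op x ∧ op x * (a * b + b * a) = op x := by
  have key : ∀ x ∈ root ha.toAdm ⊔ root hb.toAdm,
      (a * b + b * a) * op x = op x ∧ op x * (a * b + b * a) = op x := by
    have gen : ∀ z, (z ∈ root ha.toAdm ∨ z ∈ root hb.toAdm) →
        (a * b + b * a) * op z = op z ∧ op z * (a * b + b * a) = op z := by
      rintro z (hz | hz)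
      · obtain ⟨p1, p2, p3, p4⟩ := proj ha ho hz
        rw [add_mul, mul_add, p1, p2, p3, p4, add_zero, zero_add]; exact ⟨rfl, rfl⟩
      · obtain ⟨p1, p2, p3, p4⟩ := proj hb ho.symm hz
        rw [add_mul, mul_add, p1, p2, p3, p4, add_zero, zero_add]; exact ⟨rfl, rfl⟩
    intro x hx
    rw [Subgroup.sup_eq_closure] at hx
    induction hx using Subgroup.closure_induction'' with
    | mem z hz => exact gen z hz
    | inv_mem z hz => exact gen _ (hz.imp inv_mem inv_mem)
    | one => simp [op]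
    | mul z w _ _ ihz ihw =>
      have e : op (z * w) = op z * op w + (op z + op w) := by
        simp only [op, Units.val_mul, sub_mul, mul_sub, one_mul, mul_one]; abel
      rw [e]
      constructor
      · rw [mul_add, mul_add, ← mul_assoc, ihz.1, ihw.1]
      · rw [add_mul, add_mul, mul_assoc, ihz.2, ihw.2]
  refine ⟨le_antisymm (fun m hm => ?_) fun m hm => ?_, le_antisymm (iSup₂_le fun x hx => ?_) ?_, key⟩
  · simp only [fixedSubmodule, Submodule.mem_iInf] at hm
    have h1 : a m = 0 := by simpa using hm _ (Subgroup.mem_sup_left (ex_mem_root _ (self_mem_opSpace ha.toAdm) 1))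
    have h2 : b m = 0 := by simpa using hm _ (Subgroup.mem_sup_right (ex_mem_root _ (self_mem_opSpace hb.toAdm) 1))
    simp [h1, h2]
  · simp only [fixedSubmodule, Submodule.mem_iInf]
    intro x hx
    show op x m = 0
    rw [← (key x hx).2, Module.End.mul_apply, LinearMap.mem_ker.1 hm, map_zero]
  · rintro _ ⟨m, rfl⟩
    exact ⟨op x m, LinearMap.congr_fun (key x hx).1 m⟩
  · rintro _ ⟨m, rfl⟩
    rw [LinearMap.add_apply]
    refine add_mem ?_ ?_
    · exact Submodule.mem_iSup_of_mem _ (Submodule.mem_iSup_of_mem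
        (Subgroup.mem_sup_left (ex_mem_root _ (self_mem_opSpace ha.toAdm) 1)) ⟨b m, by simp⟩)
    · exact Submodule.mem_iSup_of_mem _ (Submodule.mem_iSup_of_mem
        (Subgroup.mem_sup_right (ex_mem_root _ (self_mem_opSpace hb.toAdm) 1)) ⟨a m, by simp⟩)

end Opposed

theorem root_eq_of_mem (ha : Min G a) {x : Module.End k M} (hx : x ∈ opSpace ha.toAdm) (hx0 : x ≠ 0) :
    root (min_of_mem ha hx hx0).1.toAdm = root ha.toAdm := by
  ext g; rw [mem_root, mem_root, opSpace_mem_of_mem ha hx hx0]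

/-- The dichotomy. -/
theorem dichotomy (S : Base G) (ha : Min G a) (hb : Min G b) :
    a * b * a = 0 ∨ ∃ d, ∃ hd : Min G d, root hd.toAdm = root hb.toAdm ∧ Opp a d := by
  by_cases hn : IsNilpotent (a * b + b * a)
  · obtain ⟨n, hn⟩ := hn; exact Or.inl (nil_aba S.two n ha hb hn).1
  obtain ⟨d, hd, ho⟩ := exists_opp_of_pair S ha hb hn
  have hd0 : d ≠ 0 := fun e => ha.ne (by rw [← ho.left, e, mul_zero, zero_mul])
  exact Or.inr ⟨d, (min_of_mem hb hd hd0).1, root_eq_of_mem hb hd hd0, ho⟩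

end Cfsg.Agent.QuadraticPair
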