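import Cfsg.Agent.Lib.QuadraticPair.Surjective

/-!
# Root subgroups and the commutator case
-/

set_option linter.all false
set_option autoImplicit false

namespace Cfsg.Agent.QuadraticPair

open Cfsg

universe u

variable {k : Type u} [Field k] {M : Type*} [AddCommGroup M] [Module k M] [FiniteDimensional k M]
  {G : Subgroup (LinearMap.GeneralLinearGroup k M)} {a b : Module.End k M}

theorem mul_zero_of_mem (ha : Adm G a) {x y : Module.End k M} (hx : x ∈ opSpace ha) (hy : y ∈ opSpace ha) :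
    x * y = 0 :=
  LinearMap.ext fun m => LinearMap.mem_ker.1 (hx.2.2 (range_le_ker ha.sq (hy.2.1 ⟨m, rfl⟩)))

/-- The root subgroup. -/
def root (ha : Adm G a) : Subgroup (LinearMap.GeneralLinearGroup k M) where
  carrier := {g | op g ∈ opSpace ha}
  one_mem' := by
    show op (1 : LinearMap.GeneralLinearGroup k M) ∈ opSpace ha
    rw [show op (1 : LinearMap.GeneralLinearGroup k M) = 0 by simp [op]]; exact zero_mem _
  mul_mem' {g h} hg hh := by
    show op (g * h) ∈ opSpace ha
    have e : op (g * h) = op g * op h + (op g + op h) := by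
      simp only [op, Units.val_mul, sub_mul, mul_sub, one_mul, mul_one]; abel
    rw [e, mul_zero_of_mem ha hg hh, zero_add]
    exact add_mem hg hh
  inv_mem' {g} hg := by
    show op g⁻¹ ∈ opSpace ha
    have hg' : op g ∈ opSpace ha := hg
    have e : op g⁻¹ = -op g := by
      have hinv : ((g⁻¹ : LinearMap.GeneralLinearGroup k M) : Module.End k M) = 1 - op g := by
        refine Units.inv_eq_of_mul_eq_one_right ?_
        have h0 : op g * op g = 0 := mul_zero_of_mem ha hg' hg'
        simp only [op, sub_mul, mul_sub, one_mul, mul_one] at h0 ⊢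
        linear_combination (norm := abel) -h0
      show ((g⁻¹ : LinearMap.GeneralLinearGroup k M) : Module.End k M) - 1 = _
      rw [hinv]; abel
    rw [e]; exact neg_mem hg'

theorem mem_root {ha : Adm G a} {g : LinearMap.GeneralLinearGroup k M} : g ∈ root ha ↔ op g ∈ opSpace ha := Iff.rfl

theorem root_le (ha : Adm G a) : root ha ≤ G := fun g hg => by
  obtain ⟨h, hh, e⟩ := (mem_root.1 hg).1.mem 1
  rwa [show g = h from Units.ext (by rw [e, one_smul]; simp [op])]

theorem ex_mem_root (ha : Adm G a) {x : Module.End k M} (hx : x ∈ opSpace ha) (c : k) : ex hx.1.sq c ∈ root ha :=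
  mem_root.2 (by rw [op_ex]; exact (opSpace ha).smul_mem c hx)

theorem sameAction_eq {σ : LinearMap.GeneralLinearGroup k M} (hσ : σ ∈ minimalQuadraticElements G) :
    sameActionSubgroup G σ = root (min_op hσ).toAdm := by
  refine le_antisymm ((Subgroup.closure_le _).2 fun g hg => op_mem_opSpace hσ (Or.inl hg)) fun g hg => ?_
  rcases eq_or_ne (op g) 0 with h0 | h0
  · rw [show g = 1 from Units.ext (by simpa [op, sub_eq_zero] using h0)]; exact one_mem _
  · obtain ⟨hm, hR, hK⟩ := min_of_mem (min_op hσ) hg h0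
    exact Subgroup.subset_closure ⟨hm.mem_minimal (by simp [op]), hK, hR⟩

theorem exists_root {E : Subgroup (LinearMap.GeneralLinearGroup k M)} (hE : E ∈ quadraticRootSubgroups G) :
    ∃ a : Module.End k M, ∃ ha : Min G a, E = root ha.toAdm := by
  obtain ⟨σ, hσ, rfl⟩ := hE
  exact ⟨_, min_op hσ, sameAction_eq hσ⟩

theorem opSpace_congr {x : Module.End k M} (ha : Adm G a) (hx : Adm G x) (hR : LinearMap.range x = LinearMap.range a)
    (hK : LinearMap.ker x = LinearMap.ker a) : opSpace hx = opSpace ha := by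
  ext y; simp only [mem_opSpace, hR, hK]

theorem root_mem_roots (ha : Min G a) : root ha.toAdm ∈ quadraticRootSubgroups G := by
  have h := ha.mem_minimal (g := ex ha.sq 1) (by simp)
  refine ⟨_, h, ?_⟩
  rw [sameAction_eq h]
  have e : op (ex ha.sq (1 : k)) = a := by rw [op_ex, one_smul]
  ext g
  rw [mem_root, mem_root, opSpace_congr ha.toAdm (min_op h).toAdm (by rw [e]) (by rw [e])]

theorem opSpace_mem_of_mem (ha : Min G a) {x : Module.End k M} (hx : x ∈ opSpace ha.toAdm) (hx0 : x ≠ 0) :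
    opSpace (min_of_mem ha hx hx0).1.toAdm = opSpace ha.toAdm :=
  opSpace_congr _ _ (min_of_mem ha hx hx0).2.1 (min_of_mem ha hx hx0).2.2

theorem fixed_root (ha : Adm G a) : fixedSubmodule (root ha) = LinearMap.ker a := by
  refine le_antisymm (fun m hm => ?_) fun m hm => ?_
  · simp only [fixedSubmodule, Submodule.mem_iInf] at hm
    simpa using hm _ (ex_mem_root ha (self_mem_opSpace ha) 1)
  · simp only [fixedSubmodule, Submodule.mem_iInf]
    exact fun g hg => (mem_root.1 hg).2.2 hm

theorem commutator_root (ha : Adm G a) : commutatorSubmodule (root ha) = LinearMap.range a := by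
  refine le_antisymm (iSup₂_le fun g hg => (mem_root.1 hg).2.1) ?_
  refine le_iSup₂_of_le _ (ex_mem_root ha (self_mem_opSpace ha) 1) ?_
  simp

theorem comm_val {g h : LinearMap.GeneralLinearGroup k M} (hg : op g * op g = 0) (hh : op h * op h = 0)
    (h1 : op g * op h * op g = 0) (h2 : op h * op g * op h = 0) :
    op (g * h * g⁻¹ * h⁻¹) = op g * op h - op h * op g := by
  have hgi : ((g⁻¹ : LinearMap.GeneralLinearGroup k M) : Module.End k M) = 1 - op g :=
    Units.inv_eq_of_mul_eq_one_right (by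
      have : (g : Module.End k M) = 1 + op g := by simp [op]
      rw [this, add_mul, one_mul, mul_sub, mul_one, hg]; abel)
  have hhi : ((h⁻¹ : LinearMap.GeneralLinearGroup k M) : Module.End k M) = 1 - op h :=
    Units.inv_eq_of_mul_eq_one_right (by
      have : (h : Module.End k M) = 1 + op h := by simp [op]
      rw [this, add_mul, one_mul, mul_sub, mul_one, hh]; abel)
  have eg : (g : Module.End k M) = 1 + op g := by simp [op]
  have eh : (h : Module.End k M) = 1 + op h := by simp [op]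
  show ((g * h * g⁻¹ * h⁻¹ : LinearMap.GeneralLinearGroup k M) : Module.End k M) - 1 = _
  rw [Units.val_mul, Units.val_mul, Units.val_mul, hgi, hhi, eg, eh]
  generalize op g = A at *
  generalize op h = B at *
  have h1' : A * (B * A) = 0 := by rw [← mul_assoc]; exact h1
  have h2' : B * (A * B) = 0 := by rw [← mul_assoc]; exact h2
  have h1'' : ∀ Y, A * (B * (A * Y)) = 0 := fun Y => by rw [← mul_assoc, ← mul_assoc, h1, zero_mul]
  simp [mul_add, add_mul, mul_sub, sub_mul, mul_assoc, sq_left hg, sq_left hh, hg, hh, h1', h2', h1'']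
  abel

/-- A commutator bilinear on the factors generates in one step. -/
theorem commutator_sup_le {H : Type*} [Group H] {E F D : Subgroup H} (hc : ∀ d ∈ D, ∀ x ∈ E ⊔ F, x * d * x⁻¹ = d)
    (hEE : ∀ x ∈ E, ∀ y ∈ E, x * y = y * x) (hFF : ∀ x ∈ F, ∀ y ∈ F, x * y = y * x)
    (hEF : ∀ x ∈ E, ∀ y ∈ F, x * y * x⁻¹ * y⁻¹ ∈ D) : ⁅E ⊔ F, E ⊔ F⁆ ≤ D := by
  have hgen : ∀ x, (x ∈ E ∨ x ∈ F) → ∀ y ∈ E ⊔ F, x * y * x⁻¹ * y⁻¹ ∈ D := by
    intro x hx y hy
    rw [Subgroup.sup_eq_closure] at hy
    induction hy using Subgroup.closure_induction'' with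
    | mem z hz =>
      rcases hx with hx | hx <;> rcases hz with hz | hz
      · rw [hEE x hx z hz]; simp
      · exact hEF x hx z hz
      · have := inv_mem (hEF z hz x hx); simpa [mul_assoc] using this
      · rw [hFF x hx z hz]; simp
    | inv_mem z hz =>
      rcases hx with hx | hx <;> rcases hz with hz | hz
      · rw [hEE x hx _ (inv_mem hz)]; simp
      · exact hEF x hx _ (inv_mem hz)
      · have := inv_mem (hEF _ (inv_mem hz) x hx); simpa [mul_assoc] using this
      · rw [hFF x hx _ (inv_mem hz)]; simp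
    | one => simp
    | mul z w hz hw ihz ihw =>
      rw [show x * (z * w) * x⁻¹ * (z * w)⁻¹ = (x * z * x⁻¹ * z⁻¹) * (z * (x * w * x⁻¹ * w⁻¹) * z⁻¹) by group,
        hc _ ihw z (by rw [Subgroup.sup_eq_closure]; exact hz)]
      exact mul_mem ihz ihw
  rw [Subgroup.commutator_le]
  intro x hx y hy
  rw [commutatorElement_def]
  rw [Subgroup.sup_eq_closure] at hx
  induction hx using Subgroup.closure_induction'' with
  | mem z hz => exact hgen z hz y hy
  | inv_mem z hz => exact hgen _ (hz.imp inv_mem inv_mem) y hy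
  | one => simp
  | mul z w hz hw ihz ihw =>
    rw [show z * w * y * (z * w)⁻¹ * y⁻¹ = (z * (w * y * w⁻¹ * y⁻¹) * z⁻¹) * (z * y * z⁻¹ * y⁻¹) by group,
      hc _ ihw z (by rw [Subgroup.sup_eq_closure]; exact hz)]
    exact mul_mem ihw ihz

section Two

variable (S : Base G) (ha : Min G a) (hb : Min G b) (h : a * b * a = 0)

include S h in
theorem comm_mem {g f : LinearMap.GeneralLinearGroup k M} (hg : g ∈ root ha.toAdm) (hf : f ∈ root hb.toAdm) :
    op (g * f * g⁻¹ * f⁻¹) = op g * op f - op f * op g :=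
  comm_val (mul_zero_of_mem ha.toAdm hg hg) (mul_zero_of_mem hb.toAdm hf hf) (triple_zero S ha hb h hg hf hg)
    (triple_zero S hb ha (bab_eq_zero S ha hb h) hf hg hf)

include S h in
theorem commute_roots (h0 : b * a = a * b) : ⁅root ha.toAdm, root hb.toAdm⁆ = ⊥ := by
  rw [eq_bot_iff, Subgroup.commutator_le]
  intro g hg f hf
  rw [Subgroup.mem_bot, commutatorElement_def]
  have hstab : ∀ {a b : Module.End k M}, a * b = b * a →
      (∀ m ∈ LinearMap.range a, b m ∈ LinearMap.range a) ∧ ∀ m ∈ LinearMap.ker a, b m ∈ LinearMap.ker a :=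
    fun {a b} e => ⟨by rintro _ ⟨m, rfl⟩; exact ⟨b m, LinearMap.congr_fun e m⟩,
      fun m hm => by
        show a (b m) = 0
        rw [show a (b m) = b (a m) from LinearMap.congr_fun e m, LinearMap.mem_ker.1 hm, map_zero]⟩
  obtain ⟨s1, s2⟩ := hstab h0.symm
  have e1 : b * op g = op g * b := commute_of_stab S.two ha hb.toAdm s1 s2 hg
  obtain ⟨t1, t2⟩ := hstab e1
  have e2 : op g * op f = op f * op g := commute_of_stab S.two hb (mem_root.1 hg).1 t1 t2 hf
  refine Units.ext ?_
  have := comm_mem S ha hb h hg hf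
  rw [e2, sub_self] at this
  simpa [op, sub_eq_zero] using this

include S h in
/-- The commutator case. -/
theorem commutator_case (hne : b * a - a * b ≠ 0) :
    ∃ hδ : Min G (b * a - a * b), ⁅root ha.toAdm, root hb.toAdm⁆ = root hδ.toAdm ∧
      (∀ e ∈ root ha.toAdm, e ≠ 1 → Subgroup.closure ((fun f => e * f * e⁻¹ * f⁻¹) ''
          (root hb.toAdm : Set (LinearMap.GeneralLinearGroup k M))) = root hδ.toAdm) ∧
      (∀ f ∈ root hb.toAdm, f ≠ 1 → Subgroup.closure ((fun e => e * f * e⁻¹ * f⁻¹) ''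
          (root ha.toAdm : Set (LinearMap.GeneralLinearGroup k M))) = root hδ.toAdm) ∧
      ((root ha.toAdm ⊔ root hb.toAdm : Subgroup (LinearMap.GeneralLinearGroup k M)) :
        Set (LinearMap.GeneralLinearGroup k M)) ⊆ quadraticUnipotentCore G (root hδ.toAdm) ∧
      (∀ c ∈ root hδ.toAdm, ∀ x ∈ root ha.toAdm ⊔ root hb.toAdm, x * c * x⁻¹ = c) ∧
      ⁅root ha.toAdm ⊔ root hb.toAdm, root ha.toAdm ⊔ root hb.toAdm⁆ = root hδ.toAdm := by
  have h2 := bab_eq_zero S ha hb h
  obtain ⟨hδ, hR, hK, -⟩ := bracket_spaces ha hb h h2 hne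
  obtain ⟨d, hd, hopp⟩ := exists_opp S hδ
  have C : Class2 G a b d := ⟨S, ha, hb, h, h2, hne, hd, hopp⟩
  refine ⟨hδ, ?_⟩
  have hneg : ∀ {x : Module.End k M}, x ∈ opSpace hδ.toAdm → -x ∈ opSpace hδ.toAdm := fun hx => neg_mem hx
  have hin : ∀ g ∈ root ha.toAdm, ∀ f ∈ root hb.toAdm, g * f * g⁻¹ * f⁻¹ ∈ root hδ.toAdm := by
    intro g hg f hf
    rw [mem_root, comm_mem S ha hb h hg hf]
    have := hneg (bracket_mem S ha hb h hne hg hf)
    rwa [neg_sub] at this
  -- non-identity elements have non-zero brackets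
  have hnz : ∀ {a b : Module.End k M} (ha : Min G a) (hb : Min G b), a * b * a = 0 → b * a - a * b ≠ 0 →
      ∀ {y : Module.End k M}, y ∈ opSpace ha.toAdm → y ≠ 0 → b * y - y * b ≠ 0 := by
    intro a b ha hb h hne y hy hy0 e
    obtain ⟨hym, hyR, hyK⟩ := min_of_mem ha hy hy0
    refine hne (sub_eq_zero.2 (commute_of_stab S.two ha hb.toAdm ?_ ?_ (self_mem_opSpace _)))
    · intro m hm
      rw [← hyR] at hm ⊢
      obtain ⟨v, rfl⟩ := hm
      exact ⟨b v, (LinearMap.congr_fun (sub_eq_zero.1 e) v).symm⟩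
    · intro m hm
      rw [← hyK, LinearMap.mem_ker] at hm ⊢
      rw [show y (b m) = b (y m) from (LinearMap.congr_fun (sub_eq_zero.1 e) m).symm, hm, map_zero]
  have hleft : ∀ e ∈ root ha.toAdm, e ≠ 1 → ∀ γ ∈ opSpace hδ.toAdm, ∃ f ∈ root hb.toAdm,
      op (e * f * e⁻¹ * f⁻¹) = γ := by
    intro e he he1 γ hγ
    have hy0 : op e ≠ 0 := fun h0 => he1 (Units.ext (by simpa [op, sub_eq_zero] using h0))
    obtain ⟨hym, hyR, hyK⟩ := min_of_mem ha he hy0
    have hne' := hnz ha hb h hne he hy0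
    have ht := triple_zero S ha hb h he (self_mem_opSpace hb.toAdm) he
    have ht2 := triple_zero S hb ha h2 (self_mem_opSpace hb.toAdm) he (self_mem_opSpace hb.toAdm)
    have hne'' : op e * b - b * op e ≠ 0 := fun h0 => hne' (by linear_combination (norm := abel) -h0)
    obtain ⟨hδ', -, -, -⟩ := bracket_spaces hb hym ht2 ht hne''
    obtain ⟨d', hd', hopp'⟩ := exists_opp S hδ'
    have C' : Class2 G b (op e) d' := ⟨S, hb, hym, ht2, ht, hne'', hd', hopp'⟩
    have hmem : op e * b - b * op e ∈ opSpace hδ.toAdm := by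
      have := hneg (bracket_mem S ha hb h hne he (self_mem_opSpace hb.toAdm))
      rwa [neg_sub] at this
    obtain ⟨x, hx, hxe⟩ := C'.surjective (γ := γ)
      ((opSpace_mem_of_mem hδ hmem hne'').symm ▸ hγ)
    refine ⟨ex hx.1.sq 1, ex_mem_root _ hx 1, ?_⟩
    rw [comm_mem S ha hb h he (ex_mem_root _ hx 1), op_ex, one_smul, hxe]
  have hright : ∀ f ∈ root hb.toAdm, f ≠ 1 → ∀ γ ∈ opSpace hδ.toAdm, ∃ e ∈ root ha.toAdm,
      op (e * f * e⁻¹ * f⁻¹) = γ := by
    intro f hf hf1 γ hγ
    have hy0 : op f ≠ 0 := fun h0 => hf1 (Units.ext (by simpa [op, sub_eq_zero] using h0))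
    obtain ⟨hym, hyR, hyK⟩ := min_of_mem hb hf hy0
    have hne' := hnz hb ha h2 (fun h0 => hne (by linear_combination (norm := abel) -h0)) hf hy0
    have ht := triple_zero S ha hb h (self_mem_opSpace ha.toAdm) hf (self_mem_opSpace ha.toAdm)
    have ht2 := triple_zero S hb ha h2 hf (self_mem_opSpace ha.toAdm) hf
    have hne'' : op f * a - a * op f ≠ 0 := fun h0 => hne' (by linear_combination (norm := abel) -h0)
    obtain ⟨hδ', -, -, -⟩ := bracket_spaces ha hym ht ht2 hne''
    obtain ⟨d', hd', hopp'⟩ := exists_opp S hδ'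
    have C' : Class2 G a (op f) d' := ⟨S, ha, hym, ht, ht2, hne'', hd', hopp'⟩
    have hmem : op f * a - a * op f ∈ opSpace hδ.toAdm := bracket_mem S ha hb h hne (self_mem_opSpace _) hf
    obtain ⟨x, hx, hxe⟩ := C'.surjective (γ := -γ)
      ((opSpace_mem_of_mem hδ hmem hne'').symm ▸ hneg hγ)
    refine ⟨ex hx.1.sq 1, ex_mem_root _ hx 1, ?_⟩
    rw [comm_mem S ha hb h (ex_mem_root _ hx 1) hf, op_ex, one_smul, ← neg_sub, hxe, neg_neg]
  have h1 : ∀ e ∈ root ha.toAdm, e ≠ 1 → Subgroup.closure ((fun f => e * f * e⁻¹ * f⁻¹) ''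
      (root hb.toAdm : Set (LinearMap.GeneralLinearGroup k M))) = root hδ.toAdm := by
    intro e he he1
    refine le_antisymm ((Subgroup.closure_le _).2 ?_) fun g hg => ?_
    · rintro _ ⟨f, hf, rfl⟩; exact hin e he f hf
    · obtain ⟨f, hf, hfe⟩ := hleft e he he1 _ hg
      exact Subgroup.subset_closure ⟨f, hf, Units.ext (sub_left_injective hfe)⟩
  have h1' : ∀ f ∈ root hb.toAdm, f ≠ 1 → Subgroup.closure ((fun e => e * f * e⁻¹ * f⁻¹) ''
      (root ha.toAdm : Set (LinearMap.GeneralLinearGroup k M))) = root hδ.toAdm := by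
    intro f hf hf1
    refine le_antisymm ((Subgroup.closure_le _).2 ?_) fun g hg => ?_
    · rintro _ ⟨e, he, rfl⟩; exact hin e he f hf
    · obtain ⟨e, he, hfe⟩ := hright f hf hf1 _ hg
      exact Subgroup.subset_closure ⟨e, he, Units.ext (sub_left_injective hfe)⟩
  have hcomm : ⁅root ha.toAdm, root hb.toAdm⁆ = root hδ.toAdm := by
    refine le_antisymm (Subgroup.commutator_le.2 fun g hg f hf => hin g hg f hf) ?_
    have hne1 : ex ha.sq (1 : k) ≠ 1 := fun e => ha.ne (by
      have := congrArg op e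
      rw [op_ex, one_smul] at this
      simpa [op] using this)
    rw [← h1 _ (ex_mem_root _ (self_mem_opSpace _) 1) hne1, Subgroup.closure_le]
    rintro _ ⟨f, hf, rfl⟩
    exact Subgroup.commutator_mem_commutator (ex_mem_root _ (self_mem_opSpace _) 1) hf
  -- the core conditions
  obtain ⟨r1, r2, r3, r4⟩ := C.annihil
  have hcore : ∀ x ∈ root ha.toAdm ⊔ root hb.toAdm,
      (∀ m : M, (x : Module.End k M) m - m ∈ LinearMap.ker (b * a - a * b)) ∧
      (∀ m ∈ LinearMap.ker (b * a - a * b), (x : Module.End k M) m - m ∈ LinearMap.range (b * a - a * b)) ∧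
      (∀ m ∈ LinearMap.range (b * a - a * b), (x : Module.End k M) m = m) := by
    have base : ∀ {a b : Module.End k M} (ha : Min G a) (hb : Min G b) (hab : a * b * a = 0)
        (D : Module.End k M), D * a = 0 → a * D = 0 →
        LinearMap.ker D ≤ LinearMap.range b ⊔ LinearMap.ker a →
        LinearMap.range a ⊓ LinearMap.ker b ≤ LinearMap.range D →
        ∀ x ∈ root ha.toAdm, (∀ m : M, (x : Module.End k M) m - m ∈ LinearMap.ker D) ∧
          (∀ m ∈ LinearMap.ker D, (x : Module.End k M) m - m ∈ LinearMap.range D) ∧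
          (∀ m ∈ LinearMap.range D, (x : Module.End k M) m = m) := by
      intro a b ha hb hab D hDa haD hkD hrD x hx
      have hx' : op x ∈ opSpace ha.toAdm := hx
      refine ⟨fun m => ?_, fun m hm => ?_, ?_⟩
      · exact LinearMap.mem_ker.2 (LinearMap.congr_fun (eq_zero_left hx'.2.1 hDa) m)
      · obtain ⟨u, ⟨w, rfl⟩, t, ht, e⟩ := Submodule.mem_sup.1 (hkD hm)
        show op x m ∈ LinearMap.range D
        rw [← e, map_add, LinearMap.mem_ker.1 (hx'.2.2 ht), add_zero]
        exact hrD ⟨hx'.2.1 ⟨b w, rfl⟩, LinearMap.congr_fun (triple_zero S hb ha (bab_eq_zero S ha hb hab)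
          (self_mem_opSpace hb.toAdm) hx' (self_mem_opSpace hb.toAdm)) w⟩
      · rintro _ ⟨m, rfl⟩
        exact sub_eq_zero.1 (LinearMap.congr_fun (eq_zero_right hx'.2.2 haD) m)
    intro x hx
    rw [Subgroup.sup_eq_closure] at hx
    have gen : ∀ z, (z ∈ root ha.toAdm ∨ z ∈ root hb.toAdm) → _ ∧ _ ∧ _ := fun z hz => hz.elim
      (base ha hb h (b * a - a * b) r2 r1 (hK.le.trans inf_le_left) (le_sup_left.trans hR.ge) z)
      (base hb ha h2 (b * a - a * b) r4 r3 (hK.le.trans inf_le_right) (le_sup_right.trans hR.ge) z)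
    induction hx using Subgroup.closure_induction'' with
    | mem z hz => exact gen z hz
    | inv_mem z hz => exact gen _ (hz.imp inv_mem inv_mem)
    | one => simp
    | mul z w hz hw ihz ihw =>
      have hrk : LinearMap.range (b * a - a * b) ≤ LinearMap.ker (b * a - a * b) := range_le_ker hδ.sq
      have key : ∀ m, ((z * w : LinearMap.GeneralLinearGroup k M) : Module.End k M) m - m =
          ((z : Module.End k M) ((w : Module.End k M) m) - (w : Module.End k M) m) + ((w : Module.End k M) m - m) :=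
        fun m => by rw [Units.val_mul, Module.End.mul_apply]; abel
      refine ⟨fun m => ?_, fun m hm => ?_, fun m hm => ?_⟩
      · rw [key]; exact add_mem (ihz.1 _) (ihw.1 m)
      · rw [key]
        refine add_mem (ihz.2.1 _ ?_) (ihw.2.1 m hm)
        rw [show (w : Module.End k M) m = ((w : Module.End k M) m - m) + m by abel]
        exact add_mem (hrk (ihw.2.1 m hm)) hm
      · rw [Units.val_mul, Module.End.mul_apply, ihw.2.2 m hm, ihz.2.2 m hm]
  have hfix : ∀ c ∈ root hδ.toAdm, ∀ x ∈ root ha.toAdm ⊔ root hb.toAdm, x * c * x⁻¹ = c := by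
    intro c hc x hx
    obtain ⟨k1, k2, k3⟩ := hcore x hx
    rw [mul_inv_eq_iff_eq_mul]
    have hc' : op c ∈ opSpace hδ.toAdm := hc
    have e1 : op x * op c = 0 := LinearMap.ext fun m => sub_eq_zero.2 (k3 _ (hc'.2.1 ⟨m, rfl⟩))
    have e2 : op c * op x = 0 := LinearMap.ext fun m => LinearMap.mem_ker.1 (hc'.2.2 (k1 m))
    exact commute_iff.2 (e1.trans e2.symm)
  refine ⟨hcomm, h1, h1', fun x hx => ?_, hfix, ?_⟩
  · obtain ⟨k1, k2, k3⟩ := hcore x hx
    refine ⟨(sup_le (root_le _) (root_le _)) hx, Subgroup.mem_normalizer_iff.2 fun c => ?_, ?_, ?_, ?_⟩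
    · refine ⟨fun hc => by rwa [hfix c hc x hx], fun hc => ?_⟩
      have := hfix _ hc x⁻¹ (inv_mem hx)
      rw [inv_inv, show x⁻¹ * (x * c * x⁻¹) * x = c by group] at this
      rwa [this]
    · rw [fixed_root]; exact k1
    · rw [fixed_root, commutator_root]; exact k2
    · rw [commutator_root]; exact k3
  · refine le_antisymm (commutator_sup_le hfix ?_ ?_ hin) ?_
    · intro x hx y hy
      exact commute_iff.2 ((mul_zero_of_mem ha.toAdm hx hy).trans (mul_zero_of_mem ha.toAdm hy hx).symm)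
    · intro x hx y hy
      exact commute_iff.2 ((mul_zero_of_mem hb.toAdm hx hy).trans (mul_zero_of_mem hb.toAdm hy hx).symm)
    · rw [← hcomm]; exact Subgroup.commutator_mono le_sup_left le_sup_right

end Two

/-- A class two group is not generated by an opposite pair. -/
theorem aba_of_class_two (S : Base G) (ha : Min G a) (hb : Min G b)
    (h : ⁅⁅root ha.toAdm ⊔ root hb.toAdm, root ha.toAdm ⊔ root hb.toAdm⁆, root ha.toAdm ⊔ root hb.toAdm⁆ = ⊥) :
    a * b * a = 0 := by
  set X := root ha.toAdm ⊔ root hb.toAdm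
  by_cases hn : IsNilpotent (a * b + b * a)
  · obtain ⟨n, hn⟩ := hn; exact (nil_aba S.two n ha hb hn).1
  exfalso
  obtain ⟨d, hd, ho⟩ := exists_opp_of_pair S ha hb hn
  obtain ⟨c, hc0, hc1⟩ := Generic.exists_sq_ne_one (Ring.two_ne_zero S.two) S.three
  have hpX : Adm X a := adm_of_mem ha.sq fun s => Subgroup.mem_sup_left (ex_mem_root _ (self_mem_opSpace _) s)
  have hqX : Adm X d := adm_of_mem hd.1.sq fun s => Subgroup.mem_sup_right (ex_mem_root _ hd s)
  obtain ⟨g, hg, hge, hgi⟩ := torus_mem hpX hqX ho hc0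
  have hconj : ∀ s : k, g * ex ha.sq s * g⁻¹ = ex ha.sq (c * c * s) := fun s => by
    refine Units.ext ?_
    have e : (g : Module.End k M) * a * ((g⁻¹ : LinearMap.GeneralLinearGroup k M) : Module.End k M) = (c * c) • a := by
      have h1 : a * (d * a) = a := by rw [← mul_assoc, ho.left]
      have h2 : a * d * a = a := ho.left
      rw [hge, hgi]
      simp only [add_mul, mul_add, one_mul, mul_one, smul_mul_assoc, mul_smul_comm, smul_smul, mul_assoc,
        sq_left ha.sq, ha.sq, h1, mul_zero, smul_zero, add_zero]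
      match_scalars <;> field_simp <;> ring
    simp only [Units.val_mul, coe_ex, mul_add, add_mul, mul_one, mul_smul_comm, smul_mul_assoc, e, smul_smul]
    rw [Units.mul_inv, mul_comm s]
  have hmul : ∀ s t : k, ex ha.sq s * ex ha.sq t = ex ha.sq (s + t) := fun s t => Units.ext (by
    simp [add_mul, mul_add, add_smul, smul_mul_smul_comm, ha.sq]; abel)
  have hcom : ∀ s : k, g * ex ha.sq s * g⁻¹ * (ex ha.sq s)⁻¹ = ex ha.sq ((c * c - 1) * s) := fun s => by
    rw [hconj, ex_inv, hmul]; congr 1; ring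
  set u1 := ex ha.sq ((c * c - 1) * 1)
  have hu1 : u1 ∈ ⁅X, X⁆ := by
    rw [show u1 = g * ex ha.sq (1 : k) * g⁻¹ * (ex ha.sq (1 : k))⁻¹ from (hcom 1).symm, ← commutatorElement_def]
    exact Subgroup.commutator_mem_commutator hg (Subgroup.mem_sup_left (ex_mem_root _ (self_mem_opSpace _) 1))
  have h0 : u1 * g * u1⁻¹ * g⁻¹ = 1 := by
    have := Subgroup.commutator_mem_commutator hu1 hg
    rwa [h, Subgroup.mem_bot, commutatorElement_def] at this
  have h1 : ex ha.sq ((c * c - 1) * ((c * c - 1) * 1)) = 1 := by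
    rw [← hcom, show g * u1 * g⁻¹ * u1⁻¹ = (u1 * g * u1⁻¹ * g⁻¹)⁻¹ by group, h0, inv_one]
  have := congrArg op h1
  rw [op_ex, show op (1 : LinearMap.GeneralLinearGroup k M) = 0 by simp [op], smul_eq_zero] at this
  simp [sub_eq_zero, hc1, ha.ne] at this

theorem aba_of_unipotent (S : Base G) (ha : Min G a) (hb : Min G b)
    (h : IsUnipotentOn (root ha.toAdm ⊔ root hb.toAdm)) : a * b * a = 0 := by
  obtain ⟨n, hn⟩ := nilpotent_of_unipotent h
    (g := ex ha.sq 1) (h := ex hb.sq 1) (Subgroup.mem_sup_left (ex_mem_root _ (self_mem_opSpace _) 1))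
    (Subgroup.mem_sup_right (ex_mem_root _ (self_mem_opSpace _) 1))
    (by rw [op_ex, one_smul]; exact ha.sq) (by rw [op_ex, one_smul]; exact hb.sq)
  rw [op_ex, op_ex, one_smul, one_smul] at hn
  exact (nil_aba S.two n ha hb hn).1

end Cfsg.Agent.QuadraticPair
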