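import Cfsg.Agent.Lib.QuadraticPair.Product
import Cfsg.Agent.Lib.ThreeTransp.RankOne

/-!
# The roots as a set of abstract root subgroups
-/

set_option linter.all false
set_option autoImplicit false

namespace Cfsg.Agent.QuadraticPair

open Cfsg
open Cfsg.Agent.ThreeTransp.RankOne (mem_conjBy commutator_eq_bot_iff)

universe u

section Transfer

variable {H : Type*} [Group H] {R : Subgroup H} {A B : Subgroup H}

theorem map_subgroupOf (hA : A ≤ R) : (A.subgroupOf R).map R.subtype = A :=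
  Subgroup.map_subgroupOf_eq_of_le hA

theorem subgroupOf_inj_of_le (hA : A ≤ R) (hB : B ≤ R) (h : A.subgroupOf R = B.subgroupOf R) : A = B := by
  rw [← map_subgroupOf hA, h, map_subgroupOf hB]

theorem conjBy_subgroupOf (hA : A ≤ R) (g : R) :
    conjBy (A.subgroupOf R) g = (conjBy A (g : H)).subgroupOf R := by
  ext x
  rw [mem_conjBy, Subgroup.mem_subgroupOf, Subgroup.mem_subgroupOf, mem_conjBy]
  rfl

theorem commutator_subgroupOf (hA : A ≤ R) (hB : B ≤ R) :
    ⁅A.subgroupOf R, B.subgroupOf R⁆ = (⁅A, B⁆).subgroupOf R := by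
  apply Subgroup.map_injective R.subtype_injective
  rw [Subgroup.map_commutator, map_subgroupOf hA, map_subgroupOf hB,
    map_subgroupOf ((Subgroup.commutator_mono hA hB).trans (Subgroup.commutator_le.2 fun x hx y hy =>
      mul_mem (mul_mem (mul_mem hx hy) (inv_mem hx)) (inv_mem hy)))]

theorem rankOne_subgroupOf (hA : A ≤ R) (hB : B ≤ R) :
    IsRankOnePair (A.subgroupOf R) (B.subgroupOf R) ↔ IsRankOnePair A B := by
  have hle : ∀ {C : Subgroup H}, C ≤ R → ∀ g : R, conjBy C (g : H) ≤ R := fun {C} hC g x hx => by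
    obtain ⟨y, hy, rfl⟩ := hx
    exact mul_mem (mul_mem g.2 (hC hy)) (inv_mem g.2)
  have hcond : ∀ {C D : Subgroup H}, C ≤ R → D ≤ R →
      (RankOneCondition (C.subgroupOf R) (D.subgroupOf R) ↔ RankOneCondition C D) := by
    intro C D hC hD
    constructor
    · intro h a ha ha1
      obtain ⟨b, hb, hb1, e⟩ := h ⟨a, hC ha⟩ ha (fun e => ha1 (congrArg Subtype.val e))
      rw [conjBy_subgroupOf hC, conjBy_subgroupOf hD] at e
      exact ⟨b, hb, fun e' => hb1 (Subtype.ext e'), subgroupOf_inj_of_le (hle hC b⁻¹) (hle hD (⟨a, hC ha⟩ : R)⁻¹) e⟩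
    · intro h a ha ha1
      obtain ⟨b, hb, hb1, e⟩ := h a ha (fun e => ha1 (Subtype.ext e))
      refine ⟨⟨b, hD hb⟩, hb, fun e' => hb1 (congrArg Subtype.val e'), ?_⟩
      rw [conjBy_subgroupOf hC, conjBy_subgroupOf hD]
      exact congrArg (fun K : Subgroup H => K.subgroupOf R) e
  constructor
  · intro h
    refine ⟨fun e => h.ne (by rw [e]), ?_, ?_, (hcond hA hB).1 h.cond_left, (hcond hB hA).1 h.cond_right⟩
    · haveI := h.nilpotent_left
      exact Group.nilpotent_of_mulEquiv (Subgroup.subgroupOfEquivOfLe hA)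
    · haveI := h.nilpotent_right
      exact Group.nilpotent_of_mulEquiv (Subgroup.subgroupOfEquivOfLe hB)
  · intro h
    refine ⟨fun e => h.ne (subgroupOf_inj_of_le hA hB e), ?_, ?_, (hcond hA hB).2 h.cond_left,
      (hcond hB hA).2 h.cond_right⟩
    · haveI := h.nilpotent_left
      exact Group.nilpotent_of_mulEquiv (Subgroup.subgroupOfEquivOfLe hA).symm
    · haveI := h.nilpotent_right
      exact Group.nilpotent_of_mulEquiv (Subgroup.subgroupOfEquivOfLe hB).symm

theorem case_subgroupOf {S : Set (Subgroup H)} (hA : A ≤ R) (hB : B ≤ R) (h : RootCommutatorCase S A B) :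
    RootCommutatorCase ((fun C : Subgroup H => C.subgroupOf R) '' S) (A.subgroupOf R) (B.subgroupOf R) := by
  have hC : ⁅A, B⁆ ≤ R := (Subgroup.commutator_mono hA hB).trans (Subgroup.commutator_le.2 fun x hx y hy =>
    mul_mem (mul_mem (mul_mem hx hy) (inv_mem hx)) (inv_mem hy))
  obtain ⟨h1, h2, h3, h4⟩ := h
  rw [RootCommutatorCase, commutator_subgroupOf hA hB]
  refine ⟨⟨_, h1, rfl⟩, fun c hc x hx => Subtype.ext (h2 c hc x ?_), fun a ha ha1 => ?_, fun b hb hb1 => ?_⟩
  · have := Subgroup.mem_map_of_mem R.subtype hx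
    rwa [Subgroup.map_sup, map_subgroupOf hA, map_subgroupOf hB] at this
  · apply Subgroup.map_injective R.subtype_injective
    rw [MonoidHom.map_closure, map_subgroupOf hC, ← h3 a ha fun e => ha1 (Subtype.ext e)]
    congr 1
    ext y
    constructor
    · rintro ⟨_, ⟨b, hb, rfl⟩, rfl⟩; exact ⟨b, hb, rfl⟩
    · rintro ⟨b, hb, rfl⟩; exact ⟨_, ⟨⟨b, hB hb⟩, hb, rfl⟩, rfl⟩
  · apply Subgroup.map_injective R.subtype_injective
    rw [MonoidHom.map_closure, map_subgroupOf hC, ← h4 b hb fun e => hb1 (Subtype.ext e)]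
    congr 1
    ext y
    constructor
    · rintro ⟨_, ⟨a, ha, rfl⟩, rfl⟩; exact ⟨a, ha, rfl⟩
    · rintro ⟨a, ha, rfl⟩; exact ⟨_, ⟨⟨a, hA ha⟩, ha, rfl⟩, rfl⟩

/-- Passing to the subgroups of the group generated. -/
theorem isRootSubgroupSet_image {S : Set (Subgroup H)} (hcomm : ∀ A ∈ S, IsMulCommutative A) (hne : ∀ A ∈ S, A ≠ ⊥)
    (hconj : ∀ A ∈ S, ∀ g ∈ (⨆ B ∈ S, B : Subgroup H), conjBy A g ∈ S)
    (hpair : ∀ A ∈ S, ∀ B ∈ S, ⁅A, B⁆ = ⊥ ∨ IsRankOnePair A B ∨ RootCommutatorCase S A B) :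
    IsRootSubgroupSet ((fun A : Subgroup H => A.subgroupOf (⨆ B ∈ S, B)) '' S) := by
  set R := (⨆ B ∈ S, B : Subgroup H)
  have hle : ∀ A ∈ S, A ≤ R := fun A hA => le_iSup₂_of_le A hA le_rfl
  constructor
  · rintro _ ⟨A, hA, rfl⟩
    haveI := hcomm A hA
    refine ⟨⟨fun x y => Subtype.ext (Subtype.ext ?_)⟩⟩
    exact congrArg (Subtype.val (p := fun z => z ∈ A)) (mul_comm' (⟨x.1.1, x.2⟩ : A) (⟨y.1.1, y.2⟩ : A))
  · rintro _ ⟨A, hA, rfl⟩ e
    refine hne A hA ?_
    rw [← map_subgroupOf (hle A hA)]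
    simp only at e
    rw [e, Subgroup.map_bot]
  · apply Subgroup.map_injective R.subtype_injective
    rw [← MonoidHom.range_eq_map, Subgroup.range_subtype, Subgroup.map_iSup]
    simp only [Subgroup.map_iSup]
    refine le_antisymm (iSup₂_le ?_) (iSup₂_le fun A hA => ?_)
    · rintro _ ⟨A, hA, rfl⟩
      exact (map_subgroupOf (hle A hA)).le.trans (hle A hA)
    · exact le_iSup₂_of_le _ ⟨A, hA, rfl⟩ (map_subgroupOf (hle A hA)).ge
  · rintro _ ⟨A, hA, rfl⟩ g
    exact ⟨_, hconj A hA g g.2, (conjBy_subgroupOf (hle A hA) g).symm⟩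
  · rintro _ ⟨A, hA, rfl⟩ _ ⟨B, hB, rfl⟩
    rcases hpair A hA B hB with h | h | h
    · refine Or.inl ?_
      rw [commutator_subgroupOf (hle A hA) (hle B hB), h, Subgroup.bot_subgroupOf]
    · exact Or.inr (Or.inl ((rankOne_subgroupOf (hle A hA) (hle B hB)).2 h))
    · exact Or.inr (Or.inr (case_subgroupOf (hle A hA) (hle B hB) h))

end Transfer

variable {k : Type u} [Field k] {M : Type*} [AddCommGroup M] [Module k M] [FiniteDimensional k M]
  {G : Subgroup (LinearMap.GeneralLinearGroup k M)} {a b : Module.End k M}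

theorem root_commutative (ha : Adm G a) : ∀ x ∈ root ha, ∀ y ∈ root ha, x * y = y * x := fun x hx y hy =>
  commute_iff.2 ((mul_zero_of_mem ha hx hy).trans (mul_zero_of_mem ha hy hx).symm)

theorem root_ne_bot (ha : Min G a) : root ha.toAdm ≠ ⊥ := fun e => ha.ne (by
  have h := Subgroup.mem_bot.1 (e.le (ex_mem_root ha.toAdm (self_mem_opSpace _) 1))
  simpa [op] using congrArg op h)

theorem mem_roots_conj {A : Subgroup (LinearMap.GeneralLinearGroup k M)} (hA : A ∈ quadraticRootSubgroups G)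
    {g : LinearMap.GeneralLinearGroup k M} (hg : g ∈ G) : conjBy A g ∈ quadraticRootSubgroups G := by
  obtain ⟨a, ha, rfl⟩ := exists_root hA
  rw [root_conj hg ha]
  exact root_mem_roots (ha.conj hg)

theorem case_of_aba (S : Base G) (ha : Min G a) (hb : Min G b) (h : a * b * a = 0) (h0 : b * a - a * b ≠ 0) :
    RootCommutatorCase (quadraticRootSubgroups G) (root ha.toAdm) (root hb.toAdm) := by
  obtain ⟨hδ, h1, h2, h3, -, h5, -⟩ := commutator_case S ha hb h h0
  rw [RootCommutatorCase, h1]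
  exact ⟨root_mem_roots hδ, fun c hc x hx => (mul_inv_eq_iff_eq_mul.1 (h5 c hc x hx)).symm, h2, h3⟩

theorem pair_cases (S : Base G) {A B : Subgroup (LinearMap.GeneralLinearGroup k M)}
    (hA : A ∈ quadraticRootSubgroups G) (hB : B ∈ quadraticRootSubgroups G) :
    ⁅A, B⁆ = ⊥ ∨ IsRankOnePair A B ∨ RootCommutatorCase (quadraticRootSubgroups G) A B := by
  obtain ⟨a, ha, rfl⟩ := exists_root hA
  obtain ⟨b, hb, rfl⟩ := exists_root hB
  rcases dichotomy S ha hb with h | ⟨d, hd, e, ho⟩
  · rcases eq_or_ne (b * a - a * b) 0 with h0 | h0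
    · exact Or.inl (commute_roots S ha hb h (sub_eq_zero.1 h0))
    · exact Or.inr (Or.inr (case_of_aba S ha hb h h0))
  · exact Or.inr (Or.inl (e ▸ (special S ha hd ho).1))

theorem exists_rankOne (S : Base G) {A : Subgroup (LinearMap.GeneralLinearGroup k M)}
    (hA : A ∈ quadraticRootSubgroups G) : ∃ B ∈ quadraticRootSubgroups G, IsRankOnePair A B := by
  obtain ⟨a, ha, rfl⟩ := exists_root hA
  obtain ⟨d, hd, ho⟩ := exists_opp S ha
  exact ⟨_, root_mem_roots hd, (special S ha hd ho).1⟩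

/-- In a rank one pair the commutator group is not central. -/
theorem not_central {H : Type*} [Group H] {A B : Subgroup H} (h : IsRankOnePair A B)
    (hB : ∀ x ∈ B, ∀ y ∈ B, x * y = y * x) (hc : ∀ c ∈ ⁅A, B⁆, ∀ x ∈ A ⊔ B, c * x = x * c) : False := by
  obtain ⟨e, he, he1⟩ := ThreeTransp.RankOne.exists_ne_one h
  obtain ⟨f, hf, -, hcond⟩ := h.cond_left e he he1
  refine ThreeTransp.RankOne.not_commute h (commutator_eq_bot_iff.2 fun x hx b hb => ?_)
  obtain ⟨y, hy, ey⟩ := hcond.le ⟨x, hx, rfl⟩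
  replace ey : e⁻¹ * y * e⁻¹⁻¹ = f⁻¹ * x * f⁻¹⁻¹ := ey
  rw [inv_inv, inv_inv] at ey
  have hcm : e⁻¹ * y * e⁻¹⁻¹ * y⁻¹ ∈ ⁅A, B⁆ := Subgroup.commutator_mem_commutator (inv_mem he) hy
  rw [inv_inv] at hcm
  have hx' : x = e⁻¹ * y * e * y⁻¹ * y := by
    have : x = f * (e⁻¹ * y * e) * f⁻¹ := by rw [ey]; group
    rw [this, show e⁻¹ * y * e = e⁻¹ * y * e * y⁻¹ * y by group]
    set c := e⁻¹ * y * e * y⁻¹
    rw [← mul_assoc f c y, (hc c hcm f (Subgroup.mem_sup_right hf)).symm, mul_assoc c f y, hB f hf y hy]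
    group
  rw [hx', mul_assoc, hB y hy b hb, ← mul_assoc, hc _ hcm b (Subgroup.mem_sup_right hb), mul_assoc]

theorem opp_of_rankOne (S : Base G) {A B : Subgroup (LinearMap.GeneralLinearGroup k M)}
    (hA : A ∈ quadraticRootSubgroups G) (hB : B ∈ quadraticRootSubgroups G) (h : IsRankOnePair A B) :
    ∃ a d, ∃ ha : Min G a, ∃ hd : Min G d, A = root ha.toAdm ∧ B = root hd.toAdm ∧ Opp a d := by
  obtain ⟨a, ha, rfl⟩ := exists_root hA
  obtain ⟨b, hb, rfl⟩ := exists_root hB
  rcases dichotomy S ha hb with h0 | ⟨d, hd, e, ho⟩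
  · refine (not_central h (root_commutative hb.toAdm) ?_).elim
    rcases eq_or_ne (b * a - a * b) 0 with hz | hz
    · rw [commute_roots S ha hb h0 (sub_eq_zero.1 hz)]
      intro c hc x _
      rw [Subgroup.mem_bot.1 hc]
      simp
    · exact (case_of_aba S ha hb h0 hz).2.1
  · exact ⟨a, d, ha, hd, rfl, e.symm, ho⟩

theorem special_of_rankOne (S : Base G) {A B : Subgroup (LinearMap.GeneralLinearGroup k M)}
    (hA : A ∈ quadraticRootSubgroups G) (hB : B ∈ quadraticRootSubgroups G) (h : IsRankOnePair A B) :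
    IsSpecialRankOnePair A B := by
  obtain ⟨a, d, ha, hd, rfl, rfl, ho⟩ := opp_of_rankOne S hA hB h
  exact special S ha hd ho

/-- The map of two by two matrices attached to two opposite elements. -/
theorem matrix_hom (ha2 : a * a = 0) (hb2 : b * b = 0) (ho : Opp a b) (x y z w x' y' z' w' : k) :
    ((1 - a * b - b * a) + x • (a * b) + y • a + z • b + w • (b * a)) *
      ((1 - a * b - b * a) + x' • (a * b) + y' • a + z' • b + w' • (b * a)) =
    (1 - a * b - b * a) + (x * x' + y * z') • (a * b) + (x * y' + y * w') • a + (z * x' + w * z') • b +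
      (z * y' + w * w') • (b * a) := by
  have l : ∀ Y, a * (b * (a * Y)) = a * Y := fun Y => by rw [← mul_assoc, ← mul_assoc, ho.left]
  have r : ∀ Y, b * (a * (b * Y)) = b * Y := fun Y => by rw [← mul_assoc, ← mul_assoc, ho.right]
  have l' : a * (b * a) = a := by rw [← mul_assoc, ho.left]
  have r' : b * (a * b) = b := by rw [← mul_assoc, ho.right]
  simp only [add_mul, mul_add, sub_mul, mul_sub, one_mul, mul_one, smul_mul_assoc, mul_smul_comm, smul_smul,
    mul_assoc, sq_left ha2, sq_left hb2, ha2, hb2, l, r, l', r', mul_zero, zero_mul, smul_zero, sub_zero, add_zero]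
  module

theorem exists_sl2 (S : Base G) {A B : Subgroup (LinearMap.GeneralLinearGroup k M)}
    (hA : A ∈ quadraticRootSubgroups G) (hB : B ∈ quadraticRootSubgroups G) (h : IsRankOnePair A B) :
    ∃ A₀ B₀ : Subgroup (LinearMap.GeneralLinearGroup k M), A₀ ≤ A ∧ B₀ ≤ B ∧
      ∃ (k₁ : Type u) (_ : Field k₁), 3 < ENat.card k₁ ∧ IsPSL2PairOver k₁ A₀ B₀ := by
  obtain ⟨a, d, ha, hd, rfl, rfl, ho⟩ := opp_of_rankOne S hA hB h
  let ψ : Matrix.SpecialLinearGroup (Fin 2) k →* Module.End k M :=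
    { toFun := fun g => (1 - a * d - d * a) + (g 0 0) • (a * d) + (g 0 1) • a + (g 1 0) • d + (g 1 1) • (d * a)
      map_one' := by simp; abel
      map_mul' := fun g g' => by
        rw [matrix_hom ha.sq hd.sq ho]
        simp [Matrix.mul_apply, Fin.sum_univ_two] }
  let φ : Matrix.SpecialLinearGroup (Fin 2) k →* LinearMap.GeneralLinearGroup k M := ψ.toHomUnits
  have hφ : ∀ g, (φ g : Module.End k M) =
      (1 - a * d - d * a) + (g 0 0) • (a * d) + (g 0 1) • a + (g 1 0) • d + (g 1 1) • (d * a) := fun g => rfl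
  refine ⟨(upperUnipotentSL2 k).map φ, (lowerUnipotentSL2 k).map φ, ?_, ?_, k, inferInstance, ?_, φ, ?_, ?_, rfl, rfl⟩
  · rw [Subgroup.map_le_iff_le_comap, upperUnipotentSL2, Subgroup.closure_le]
    rintro g ⟨h10, h00, h11⟩
    have e : φ g = ex ha.sq (g 0 1) := Units.ext (by rw [hφ, coe_ex, h10, h00, h11]; simp; abel)
    show φ g ∈ root ha.toAdm
    rw [e]
    exact ex_mem_root _ (self_mem_opSpace _) _
  · rw [Subgroup.map_le_iff_le_comap, lowerUnipotentSL2, Subgroup.closure_le]
    rintro g ⟨h01, h00, h11⟩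
    have e : φ g = ex hd.sq (g 1 0) := Units.ext (by rw [hφ, coe_ex, h01, h00, h11]; simp; abel)
    show φ g ∈ root hd.toAdm
    rw [e]
    exact ex_mem_root _ (self_mem_opSpace _) _
  · rcases finite_or_infinite k with hf | hi
    · have hq : 3 < Nat.card k := by
        have := Finite.one_lt_card (α := k)
        have h2 : Nat.card k ≠ 2 := fun h2 => S.two (by
          haveI := Fintype.ofFinite k
          rw [Nat.card_eq_fintype_card] at h2
          exact Nat.prime_two.eq_one_or_self_of_dvd _ (h2 ▸ (ringChar.spec k _).1 (Nat.cast_card_eq_zero k))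
            |>.resolve_left CharP.ringChar_ne_one)
        have := S.three
        omega
      rw [ENat.card_eq_coe_natCard]
      exact_mod_cast hq
    · rw [ENat.card_eq_top_of_infinite]; exact ENat.coe_lt_top 3
  · rw [MonoidHom.range_eq_map, ← Subgroup.map_sup]
    congr 1
    refine (Generic.eq_top_of_up_low _ (fun c => ?_) (fun c => ?_)).symm
    · exact Subgroup.mem_sup_left (Subgroup.subset_closure ⟨rfl, rfl, rfl⟩)
    · exact Subgroup.mem_sup_right (Subgroup.subset_closure ⟨rfl, rfl, rfl⟩)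
  · intro g hg
    have h1 : (φ g : Module.End k M) = 1 := by rw [MonoidHom.mem_ker.1 hg]; rfl
    rw [hφ] at h1
    have l' : a * (d * a) = a := by rw [← mul_assoc, ho.left]
    have r' : d * (a * d) = d := by rw [← mul_assoc, ho.right]
    have hd0 := hd.ne
    have p : ∀ {x y : Module.End k M}, x * a * y = a → ∀ c : k, c • a = 0 → c = 0 := fun {x y} _ c hc =>
      (smul_eq_zero.1 hc).resolve_right ha.ne
    have s1 : (g 0 0 - 1) • a + g 1 0 • (d * a) = 0 := by
      have := congrArg (· * a) h1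
      simp only [add_mul, sub_mul, smul_mul_assoc, one_mul, mul_assoc, l', ha.sq, mul_zero, smul_zero, sub_zero,
        add_zero] at this
      linear_combination (norm := module) this
    have s2 : g 0 1 • (a * d) + (g 1 1 - 1) • d = 0 := by
      have := congrArg (· * d) h1
      simp only [add_mul, sub_mul, smul_mul_assoc, one_mul, mul_assoc, r', hd.sq, mul_zero, smul_zero, sub_zero,
        add_zero] at this
      linear_combination (norm := module) this
    have t1 : g 0 0 - 1 = 0 := by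
      have := congrArg (a * d * ·) s1
      simp only [mul_add, mul_smul_comm, mul_zero, ho.left, mul_assoc a d (d * a), ← mul_assoc d d a, hd.sq,
        zero_mul, smul_zero, add_zero] at this
      exact (smul_eq_zero.1 this).resolve_right ha.ne
    have t4 : g 1 1 - 1 = 0 := by
      have := congrArg (d * a * ·) s2
      simp only [mul_add, mul_smul_comm, mul_zero, ho.right, mul_assoc d a (a * d), ← mul_assoc a a d, ha.sq,
        zero_mul, smul_zero, zero_add] at this
      exact (smul_eq_zero.1 this).resolve_right hd.ne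
    rw [t1, zero_smul, zero_add] at s1
    rw [t4, zero_smul, add_zero] at s2
    have hda : d * a ≠ 0 := fun e => ha.ne (by rw [← l', e, mul_zero])
    have had : a * d ≠ 0 := fun e => ha.ne (by rw [← ho.left, e, zero_mul])
    have e10 := (smul_eq_zero.1 s1).resolve_right hda
    have e01 := (smul_eq_zero.1 s2).resolve_right had
    have : g = 1 := Subtype.ext (by
      ext i j
      fin_cases i <;> fin_cases j <;> simp [sub_eq_zero.1 t1, sub_eq_zero.1 t4, e10, e01])
    rw [this]; exact one_mem _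

end Cfsg.Agent.QuadraticPair
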