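import Cfsg.Agent.Lib.QuadraticPair.Partner

/-!
# Brackets of two members with `a b a = 0` fill the space of the bracket
-/

set_option linter.all false
set_option autoImplicit false
set_option maxHeartbeats 1000000

namespace Cfsg.Agent.QuadraticPair

open Cfsg

universe u

variable {k : Type u} [Field k] {M : Type*} [AddCommGroup M] [Module k M] [FiniteDimensional k M]
  {G : Subgroup (LinearMap.GeneralLinearGroup k M)} {a b d : Module.End k M}

theorem eq_zero_right {X Y Z : Module.End k M} (hk : LinearMap.ker X ≤ LinearMap.ker Y) (h : X * Z = 0) : Y * Z = 0 :=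
  LinearMap.ext fun m => LinearMap.mem_ker.1 (hk (LinearMap.mem_ker.2 (LinearMap.congr_fun h m)))

theorem eq_zero_left {X Y Z : Module.End k M} (hr : LinearMap.range Y ≤ LinearMap.range X) (h : Z * X = 0) : Z * Y = 0 :=
  LinearMap.ext fun m => by
    obtain ⟨v, hv⟩ := hr ⟨m, rfl⟩
    show Z (Y m) = 0
    rw [← hv]; exact LinearMap.congr_fun h v

theorem eq_mul_left {X Y P : Module.End k M} (hr : LinearMap.range Y ≤ LinearMap.range X) (h : P * X = X) : P * Y = Y :=
  LinearMap.ext fun m => by
    obtain ⟨v, hv⟩ := hr ⟨m, rfl⟩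
    show P (Y m) = Y m
    rw [← hv]; exact LinearMap.congr_fun h v

theorem eq_mul_right {X Y P : Module.End k M} (hk : LinearMap.ker X ≤ LinearMap.ker Y) (h : X * P = X) : Y * P = Y :=
  LinearMap.ext fun m => by
    have h' : P m - m ∈ LinearMap.ker X := by simp [show X (P m) = X m from LinearMap.congr_fun h m]
    have := LinearMap.mem_ker.1 (hk h')
    rw [map_sub, sub_eq_zero] at this
    exact this

/-- The setting: `δ = b a - a b ≠ 0` with opposite `d`. -/
structure Class2 (G : Subgroup (LinearMap.GeneralLinearGroup k M)) (a b d : Module.End k M) : Prop where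
  S : Base G
  ha : Min G a
  hb : Min G b
  aba : a * b * a = 0
  bab : b * a * b = 0
  ne : b * a - a * b ≠ 0
  hd : Min G d
  opp : Opp (b * a - a * b) d

theorem Class2.swap (C : Class2 G a b d) : Class2 G b a (-d) := by
  refine ⟨C.S, C.hb, C.ha, C.bab, C.aba, fun e => C.ne (by linear_combination (norm := abel) -e), ?_, ?_⟩
  · have := C.hd.congr (C.hd.toAdm.smul (-1)) (by simpa using C.hd.ne) (by simp) (by simp)
    simpa using this.1
  · rw [show a * b - b * a = -(b * a - a * b) by abel]
    exact ⟨by rw [neg_mul_neg, mul_neg, C.opp.left], by rw [neg_mul_neg, mul_neg, C.opp.right]⟩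

/-- The graded part of `a`. -/
def grade (a b d : Module.End k M) : Module.End k M :=
  a - (b * a - a * b) * d * a * (d * (b * a - a * b))

theorem grade_swap (a b d : Module.End k M) :
    grade b a (-d) = b - (b * a - a * b) * d * b * (d * (b * a - a * b)) := by
  rw [grade, show a * b - b * a = -(b * a - a * b) by abel]
  simp only [neg_mul_neg]

namespace Class2

variable (C : Class2 G a b d)
include C

theorem annihil : a * (b * a - a * b) = 0 ∧ (b * a - a * b) * a = 0 ∧ b * (b * a - a * b) = 0 ∧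
    (b * a - a * b) * b = 0 := by
  have h1 : a * (b * a) = 0 := by rw [← mul_assoc]; exact C.aba
  have h2 : b * (a * b) = 0 := by rw [← mul_assoc]; exact C.bab
  refine ⟨?_, ?_, ?_, ?_⟩ <;> simp [mul_sub, sub_mul, sq_left C.ha.sq, sq_left C.hb.sq, h1, h2, mul_assoc, C.ha.sq, C.hb.sq]

theorem spaces : Min G (b * a - a * b) ∧
    LinearMap.range (b * a - a * b) =
      (LinearMap.range a ⊓ LinearMap.ker b) ⊔ (LinearMap.range b ⊓ LinearMap.ker a) ∧
    LinearMap.ker (b * a - a * b) =
      (LinearMap.range b ⊔ LinearMap.ker a) ⊓ (LinearMap.range a ⊔ LinearMap.ker b) ∧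
    LinearMap.range a ⊓ LinearMap.range b = ⊥ :=
  bracket_spaces C.ha C.hb C.aba C.bab C.ne

theorem corner : (1 - (b * a - a * b) * d) * a * (1 - d * (b * a - a * b)) = 0 := by
  obtain ⟨-, hR, hK, -⟩ := C.spaces
  set δ := b * a - a * b
  have hle : δ * (1 - d * δ) = 0 := by rw [mul_sub, mul_one, ← mul_assoc, C.opp.left, sub_self]
  refine LinearMap.ext fun m => ?_
  set v := (1 - d * δ) m with hv
  have hvk : v ∈ LinearMap.ker δ := LinearMap.mem_ker.2 (LinearMap.congr_fun hle m)
  rw [hK] at hvk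
  obtain ⟨u, ⟨w, rfl⟩, t, ht, e⟩ := Submodule.mem_sup.1 hvk.1
  have hav : a v ∈ LinearMap.range δ := by
    rw [hR, ← e, map_add, LinearMap.mem_ker.1 ht, add_zero]
    exact Submodule.mem_sup_left ⟨⟨b w, rfl⟩, LinearMap.congr_fun C.bab w⟩
  obtain ⟨y, hy⟩ := hav
  show (1 - δ * d) (a v) = 0
  rw [← hy]
  show ((1 - δ * d) * δ) y = 0
  rw [sub_mul, one_mul, C.opp.left, sub_self]
  rfl

/-- The graded part and what is known about it. -/
theorem graded :
    (b * a - a * b) * d * a * (d * (b * a - a * b)) ∈ opSpace C.spaces.1.toAdm ∧ Min G (grade a b d) ∧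
      grade a b d * d * grade a b d = 0 ∧ d * grade a b d * d = 0 := by
  classical
  obtain ⟨hδm, hR, hK, -⟩ := C.spaces
  obtain ⟨r1, r2, r3, r4⟩ := C.annihil
  have hc := C.corner
  set δ := b * a - a * b with hδ
  set e1 := δ * d with he1
  set e2 := d * δ with he2
  have ae1 : a * e1 = 0 := by rw [he1, ← mul_assoc, r1, zero_mul]
  have e2a : e2 * a = 0 := by rw [he2, mul_assoc, r2, mul_zero]
  have dd : d * d = 0 := C.hd.sq
  have de1 : d * e1 = d := by rw [he1, ← mul_assoc, C.opp.right]
  have e2d : e2 * d = d := by rw [he2, C.opp.right]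
  have e21 : e2 * e1 = 0 := by rw [he1, he2, mul_assoc, ← mul_assoc δ δ d, hδm.sq, zero_mul, mul_zero]
  set a12 := e1 * a * e2 with ha12
  have ga : grade a b d = a - a12 := rfl
  have aa12 : a * a12 = 0 := by rw [ha12, mul_assoc e1 a e2, ← mul_assoc a e1, ae1, zero_mul]
  have a12a : a12 * a = 0 := by rw [ha12, mul_assoc, e2a, mul_zero]
  -- the torus
  obtain ⟨g, hg, hge, hgi⟩ := torus_mem hδm.toAdm C.hd.toAdm C.opp (c := (-1 : k)) (by simp)
  have hconj : (g : Module.End k M) * a * ((g⁻¹ : LinearMap.GeneralLinearGroup k M) : Module.End k M) =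
      -a + (2 : k) • a12 := by
    have h0 : a - e1 * a - a * e2 + a12 = 0 := by
      rw [ha12]
      calc _ = (1 - e1) * a * (1 - e2) := by simp only [sub_mul, mul_sub, one_mul, mul_one]; abel
        _ = 0 := hc
    rw [hge, hgi, ← he1, ← he2]
    simp only [add_mul, mul_add, one_mul, mul_one, smul_mul_assoc, mul_smul_comm, smul_smul, e2a, mul_assoc a e1,
      ae1, zero_mul, smul_zero, add_zero, zero_mul, ← ha12]
    rw [show e1 * a * e1 = 0 by rw [mul_assoc, ae1, mul_zero]]
    have h1 : e1 * a + a * e2 = a + a12 := by linear_combination (norm := abel) -h0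
    calc _ = a + ((-1 : k)⁻¹ - 1) • (0 : Module.End k M) + ((-1 : k) - 1) • (e1 * a + a * e2) +
          (((-1 : k) - 1) * ((-1 : k) - 1)) • a12 := by
            module
      _ = _ := by rw [h1]; module
  have h2 := two_ne C.S.two
  have h12adm : Adm G a12 := by
    have h := (C.ha.toAdm.conj hg).add C.ha.toAdm
      (by rw [hconj, add_mul, smul_mul_assoc, a12a, neg_mul, C.ha.sq]; simp)
      (by rw [hconj, mul_add, mul_smul_comm, aa12, mul_neg, C.ha.sq]; simp)
    rw [hconj, add_right_comm, neg_add_cancel, zero_add] at h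
    simpa [smul_smul, h2] using h.smul (2 : k)⁻¹
  have h12 : a12 ∈ opSpace hδm.toAdm := by
    refine ⟨h12adm, ?_, fun m hm => ?_⟩
    · rintro _ ⟨m, rfl⟩; exact ⟨d ((a * e2) m), rfl⟩
    · have : e2 m = 0 := by rw [he2]; show d (δ m) = 0; rw [LinearMap.mem_ker.1 hm, map_zero]
      show e1 (a (e2 m)) = 0
      rw [this, map_zero, map_zero]
  have hAdm : Adm G (a - a12) := by
    have := C.ha.toAdm.add (h12adm.smul (-1)) (by simp [aa12]) (by simp [a12a])
    rwa [neg_one_smul, ← sub_eq_add_neg] at this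
  have hne : a - a12 ≠ 0 := by
    intro e
    rw [sub_eq_zero] at e
    have be1 : b * e1 = 0 := by rw [he1, ← mul_assoc, r3, zero_mul]
    have e2b : e2 * b = 0 := by rw [he2, mul_assoc, r4, mul_zero]
    refine C.ne ?_
    show δ = 0
    rw [hδ, e, ha12, mul_assoc _ e2 b, e2b, mul_zero, mul_assoc e1 a e2, ← mul_assoc b e1, be1]
    simp
  have hrk : rk (a - a12) ≤ rk a := by
    set U := LinearMap.range a
    have hle : LinearMap.range (a - a12) ≤ (LinearMap.range b).map a ⊔ U.map (1 - e1) := by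
      rintro _ ⟨m, rfl⟩
      have hd0 : (1 - e2) m ∈ LinearMap.ker δ := by
        rw [LinearMap.mem_ker, he2]
        show (δ * (1 - d * δ)) m = 0
        rw [mul_sub, mul_one, ← mul_assoc, C.opp.left, sub_self, LinearMap.zero_apply]
      rw [hK] at hd0
      obtain ⟨u, hu, t, ht, e⟩ := Submodule.mem_sup.1 hd0.1
      refine Submodule.mem_sup.2 ⟨a ((1 - e2) m), ⟨u, hu, ?_⟩, (1 - e1) (a (e2 m)), ⟨_, ⟨e2 m, rfl⟩, rfl⟩, ?_⟩
      · rw [← e, map_add, LinearMap.mem_ker.1 ht, add_zero]
      · simp [ha12]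
    have hP : (LinearMap.range b).map a ≤ U ⊓ LinearMap.ker (1 - e1) := by
      rintro _ ⟨_, ⟨w, rfl⟩, rfl⟩
      refine ⟨⟨b w, rfl⟩, ?_⟩
      obtain ⟨y, hy⟩ : a (b w) ∈ LinearMap.range δ := hR ▸ Submodule.mem_sup_left ⟨⟨b w, rfl⟩, LinearMap.congr_fun C.bab w⟩
      show (1 - e1) (a (b w)) = 0
      rw [← hy]
      show ((1 - e1) * δ) y = 0
      rw [sub_mul, one_mul, he1, C.opp.left, sub_self]; rfl
    have hcount : Module.finrank k (U.map (1 - e1)) + Module.finrank k (U ⊓ LinearMap.ker (1 - e1) : Submodule k M) =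
        Module.finrank k U := by
      have h := LinearMap.finrank_range_add_finrank_ker ((1 - e1).domRestrict U)
      rw [LinearMap.range_domRestrict] at h
      rw [← h]
      congr 1
      have e : (LinearMap.ker ((1 - e1).domRestrict U)).map U.subtype = U ⊓ LinearMap.ker (1 - e1) := by
        ext x; simp [LinearMap.domRestrict, and_comm]
      rw [← e, Submodule.finrank_map_subtype_eq]
    have l1 := Submodule.finrank_mono hle
    have l2 := Submodule.finrank_mono hP
    have l3 := Submodule.finrank_sup_add_finrank_inf_eq ((LinearMap.range b).map a) (U.map (1 - e1))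
    show Module.finrank k (LinearMap.range (a - a12)) ≤ Module.finrank k U
    omega
  have hmin : Min G (a - a12) := ⟨hAdm, hne, fun y hy hy0 => hrk.trans (C.ha.min y hy hy0)⟩
  have hz : ((a - a12) * d + d * (a - a12)) ^ 2 = 0 := by
    have f1 : (a - a12) * d = (1 - e1) * a * d := by
      rw [ha12, sub_mul, mul_assoc _ e2 d, e2d]; simp only [sub_mul, one_mul]
    have f2 : d * (a - a12) = d * a * (1 - e2) := by
      rw [ha12, mul_sub, mul_assoc e1 a e2, ← mul_assoc d e1, de1]; simp only [mul_sub, mul_one, mul_assoc]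
    have g1 : d * (1 - e1) = 0 := by rw [mul_sub, mul_one, de1, sub_self]
    have g2 : (1 - e2) * d = 0 := by rw [sub_mul, one_mul, e2d, sub_self]
    have g3 : a * ((1 - e2) * (1 - e1)) * a = 0 := by
      simp only [sub_mul, mul_sub, one_mul, mul_one, e21, sub_zero, ae1]
      rw [mul_assoc a e2 a, e2a, C.ha.sq]; simp
    rw [f1, f2, pow_two, add_mul, mul_add, mul_add]
    have t1 : (1 - e1) * a * d * ((1 - e1) * a * d) = 0 := by simp [mul_assoc, ← mul_assoc d (1 - e1), g1]
    have t2 : (1 - e1) * a * d * (d * a * (1 - e2)) = 0 := by simp [mul_assoc, ← mul_assoc d d, dd]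
    have t3 : d * a * (1 - e2) * ((1 - e1) * a * d) = 0 := by
      calc _ = d * (a * ((1 - e2) * (1 - e1)) * a) * d := by simp only [mul_assoc]
        _ = 0 := by rw [g3]; simp
    have t4 : d * a * (1 - e2) * (d * a * (1 - e2)) = 0 := by simp [mul_assoc, ← mul_assoc (1 - e2) d, g2]
    rw [t1, t2, t3, t4]
    simp
  exact ⟨h12, ga.symm ▸ hmin, by rw [ga]; exact (nil_aba C.S.two 2 hmin C.hd hz).1,
    by rw [ga]; exact (nil_aba C.S.two 2 hmin C.hd hz).2⟩

/-- Products with graded parts. -/
theorem prods : b * grade a b d = b * a ∧ grade a b d * b = a * b ∧ grade b a (-d) * grade a b d = b * a ∧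
    grade a b d * grade b a (-d) = a * b ∧ (b * a - a * b) * grade a b d = 0 ∧
    grade a b d * (b * a - a * b) = 0 := by
  obtain ⟨r1, r2, r3, r4⟩ := C.annihil
  rw [grade_swap, grade]
  have hsq : (b * a - a * b) * (b * a - a * b) = 0 := C.spaces.1.sq
  generalize b * a - a * b = δ at r1 r2 r3 r4 hsq ⊢
  refine ⟨?_, ?_, ?_, ?_, ?_, ?_⟩ <;>
    simp [mul_sub, sub_mul, mul_assoc, ← mul_assoc b δ, ← mul_assoc a δ, ← mul_assoc δ δ, r1, r2, r3, r4, hsq]

/-- The graded parts give everything. -/
theorem core {γ : Module.End k M} (hγ : γ ∈ opSpace C.spaces.1.toAdm) :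
    ∃ x ∈ opSpace C.graded.2.1.toAdm, b * x - x * b = γ := by
  classical
  obtain ⟨hδm, hR, hK, hdis⟩ := C.spaces
  obtain ⟨r1, r2, r3, r4⟩ := C.annihil
  obtain ⟨-, hA, hAdA, hdAd⟩ := C.graded
  obtain ⟨-, hB, hBdB, hdBd⟩ := C.swap.graded
  obtain ⟨hbA, hAb, hBA, hAB, hδA, hAδ⟩ := C.prods
  obtain ⟨-, -, -, -, hδB, hBδ⟩ := C.swap.prods
  rw [show a * b - b * a = -(b * a - a * b) by abel, neg_mul, neg_eq_zero] at hδB
  rw [show a * b - b * a = -(b * a - a * b) by abel, mul_neg, neg_eq_zero] at hBδ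
  rw [mul_neg, neg_mul, neg_eq_zero] at hBdB
  rw [neg_mul, neg_mul_neg] at hdBd
  have hBe : (1 - (b * a - a * b) * d) * b * (1 - d * (b * a - a * b)) = 0 := by
    have := C.swap.corner
    rwa [show a * b - b * a = -(b * a - a * b) by abel, neg_mul_neg, neg_mul_neg] at this
  set A := grade a b d with hAdef
  set B := grade b a (-d) with hBdef
  set δ := b * a - a * b with hδ
  set e1 := δ * d with he1
  set e2 := d * δ with he2
  have dd : d * d = 0 := C.hd.sq
  have be1 : b * e1 = 0 := by rw [he1, ← mul_assoc, r3, zero_mul]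
  have e2b : e2 * b = 0 := by rw [he2, mul_assoc, r4, mul_zero]
  have hAbA : A * B * A = 0 := by
    rw [hAB, hAdef, grade, mul_sub, C.aba, mul_assoc a b, ← mul_assoc b _ (d * δ), ← mul_assoc b,
      ← mul_assoc b δ d, r3]
    simp
  -- the opposite of `B`
  set q := A * d - d * A with hq
  have hqA : Adm G q := by
    have := (adm_bracket hA.toAdm C.hd.toAdm hAdA hdAd).smul (-1)
    rwa [neg_one_smul, neg_sub] at this
  have hδeq : δ = B * A - A * B := by rw [hBA, hAB]
  have hopp : Opp B q := by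
    refine ⟨?_, ?_⟩
    · calc B * q * B = B * A * d * B - B * d * (A * B) := by rw [hq]; simp only [mul_sub, sub_mul, mul_assoc]
        _ = (δ + A * B) * d * B - B * d * (B * A - δ) := by rw [hδeq]; simp
        _ = e1 * B + A * (B * d * B) - B * d * B * A + B * e2 := by
            rw [he1, he2]; simp only [add_mul, mul_sub, mul_assoc]; abel
        _ = e1 * B + B * e2 := by rw [hBdB]; simp
        _ = B := by
            rw [hBdef, grade_swap, ← hδ, ← he1, ← he2]
            have i1 : e1 * e1 = e1 := by rw [he1, ← mul_assoc, C.opp.left]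
            have i2 : e2 * e2 = e2 := by rw [he2, mul_assoc, ← mul_assoc δ d δ, C.opp.left]
            simp only [mul_sub, sub_mul, ← mul_assoc, i1]
            rw [mul_assoc (e1 * b) e2 e2, i2]
            have : b - e1 * b - b * e2 + e1 * b * e2 = 0 := by
              calc _ = (1 - e1) * b * (1 - e2) := by simp only [sub_mul, mul_sub, one_mul, mul_one]; abel
                _ = 0 := hBe
            linear_combination (norm := abel) -this
    · calc q * B * q = A * d * (B * A) * d - A * (d * B * d) * A - d * (A * B * A) * d + d * (A * B) * d * A := by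
            rw [hq]; simp only [mul_sub, sub_mul, mul_assoc]; abel
        _ = A * d * (δ + A * B) * d + d * (B * A - δ) * d * A := by rw [hdBd, hAbA, hδeq]; simp
        _ = A * (d * δ * d) + A * d * A * (B * d) + d * B * (A * d * A) - d * δ * d * A := by
            simp only [mul_add, mul_sub, add_mul, sub_mul, mul_assoc]; abel
        _ = q := by rw [C.opp.right, hAdA, hq]; simp
  -- `γ` and the products
  have hγr := hγ.2.1
  have hγk := hγ.2.2
  have e1γ : e1 * γ = γ := eq_mul_left hγr (by rw [he1, C.opp.left])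
  have γe2 : γ * e2 = γ := eq_mul_right hγk (by rw [he2, ← mul_assoc, C.opp.left])
  have γB : γ * B = 0 := eq_zero_right hγk hδB
  have Bγ : B * γ = 0 := eq_zero_left hγr hBδ
  have γA : γ * A = 0 := eq_zero_right hγk hδA
  have Aγ : A * γ = 0 := eq_zero_left hγr hAδ
  set L := b * a * d * γ - γ * d * (a * b) with hL
  set Q := -(b * a * d * γ * d * (a * b)) with hQ
  have hkerab : ∀ m ∈ LinearMap.ker δ, (a * b) m = 0 := fun m hm => by
    rw [hK] at hm
    obtain ⟨u, ⟨w, rfl⟩, t, ht, e⟩ := Submodule.mem_sup.1 hm.2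
    show a (b m) = 0
    rw [← e, map_add, LinearMap.mem_ker.1 ht, add_zero]
    exact LinearMap.congr_fun C.aba w
  have hrba : LinearMap.range (b * a) ≤ LinearMap.range δ := by
    rintro _ ⟨m, rfl⟩
    rw [hR]
    exact Submodule.mem_sup_right ⟨⟨a m, rfl⟩, LinearMap.congr_fun C.aba m⟩
  have hXc : ∀ c : k, c ≠ 0 → γ + (c - 1) • L + ((c - 1) * (c - 1)) • Q ∈ opSpace hδm.toAdm := by
    intro c hc
    obtain ⟨g, hg, hge, hgi⟩ := torus_mem hB.toAdm hqA hopp hc
    have e : γ + (c - 1) • L + ((c - 1) * (c - 1)) • Q =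
        (g : Module.End k M) * γ * ((g⁻¹ : LinearMap.GeneralLinearGroup k M) : Module.End k M) := by
      have x1 : B * q * γ = b * a * d * γ := by
        rw [hq, mul_sub, sub_mul, ← mul_assoc B A d, hBA, ← mul_assoc B d A, mul_assoc _ A γ, Aγ, mul_zero, sub_zero]
      have x2 : γ * (q * B) = -(γ * d * (a * b)) := by
        rw [hq, sub_mul, mul_sub, ← mul_assoc γ (A * d) B, ← mul_assoc γ A d, γA, mul_assoc d A B, hAB, ← mul_assoc γ d]
        simp
      have x3 : q * B * γ = 0 := by rw [mul_assoc, Bγ, mul_zero]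
      have x4 : γ * (B * q) = 0 := by rw [← mul_assoc, γB, zero_mul]
      rw [hge, hgi]
      simp only [add_mul, mul_add, one_mul, mul_one, smul_mul_assoc, mul_smul_comm, smul_smul, x1, x2, x3, x4,
        zero_mul, mul_zero, smul_zero, add_zero, smul_neg, mul_assoc (b * a * d * γ), hL, hQ]
      rw [show b * a * d * γ * (q * B) = -(b * a * d * γ * d * (a * b)) by
        rw [mul_assoc (b * a * d) γ, x2]; simp only [mul_neg, mul_assoc]]
      rw [show b * a * d * γ * (B * q) = 0 by rw [mul_assoc (b * a * d) γ, x4, mul_zero]]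
      simp only [smul_sub, smul_neg, smul_zero, add_zero]
      module
    refine ⟨e ▸ hγ.1.conj hg, ?_, fun m hm => ?_⟩
    · rintro _ ⟨m, rfl⟩
      have hv : ∀ Y : Module.End k M, (b * a * Y) m ∈ LinearMap.range δ := fun Y => hrba ⟨Y m, rfl⟩
      have hw : ∀ Y : Module.End k M, (γ * Y) m ∈ LinearMap.range δ := fun Y => hγr ⟨Y m, rfl⟩
      simp only [LinearMap.add_apply, LinearMap.smul_apply]
      refine add_mem (add_mem (hγr ⟨m, rfl⟩) (Submodule.smul_mem _ _ ?_)) (Submodule.smul_mem _ _ ?_)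
      · rw [hL, LinearMap.sub_apply]
        refine sub_mem ?_ ?_
        · simpa [mul_assoc] using hv (d * γ)
        · simpa [mul_assoc] using hw (d * (a * b))
      · rw [hQ, LinearMap.neg_apply]
        refine neg_mem ?_
        simpa [mul_assoc] using hv (d * γ * (d * (a * b)))
    · have h1 := hkerab m hm
      have h2 := LinearMap.mem_ker.1 (hγk hm)
      rw [Module.End.mul_apply] at h1
      simp [hL, hQ, h1, h2]
  have hQm : Q ∈ opSpace hδm.toAdm := by
    obtain ⟨c, hc0, hc1⟩ := Generic.exists_sq_ne_one (Ring.two_ne_zero C.S.two) C.S.three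
    set t := c - 1 with ht
    have ht0 : t ≠ 0 := fun e => hc1 (by rw [sub_eq_zero] at e; rw [e, one_mul])
    have ht2 : t + 2 ≠ 0 := fun e => hc1 (by
      have : c = -1 := by linear_combination e
      rw [this]; ring)
    have h2 := two_ne C.S.two
    have p1 := sub_mem (hXc c hc0) hγ
    have p2 := sub_mem (hXc (-1) (by simp)) hγ
    have h3 := add_mem ((opSpace hδm.toAdm).smul_mem (2 : k) p1) ((opSpace hδm.toAdm).smul_mem t p2)
    have e : (2 : k) • (γ + t • L + (t * t) • Q - γ) + t • (γ + ((-1 : k) - 1) • L + (((-1 : k) - 1) * ((-1 : k) - 1)) • Q - γ) =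
        (2 * t * (t + 2)) • Q := by module
    rw [e] at h3
    have h4 := (opSpace hδm.toAdm).smul_mem (2 * t * (t + 2))⁻¹ h3
    rwa [smul_smul, inv_mul_cancel₀ (mul_ne_zero (mul_ne_zero h2 ht0) ht2), one_smul] at h4
  have hsmall : a * b ≠ 0 → b * a ≠ 0 → rk (b * a) < rk δ ∧ rk (a * b) < rk δ := by
    intro h1 h2
    have la : LinearMap.range (a * b) ≤ LinearMap.range a ⊓ LinearMap.ker b := by
      rintro _ ⟨m, rfl⟩; exact ⟨⟨b m, rfl⟩, LinearMap.congr_fun C.bab m⟩
    have lb : LinearMap.range (b * a) ≤ LinearMap.range b ⊓ LinearMap.ker a := by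
      rintro _ ⟨m, rfl⟩; exact ⟨⟨a m, rfl⟩, LinearMap.congr_fun C.aba m⟩
    have hdd : (LinearMap.range a ⊓ LinearMap.ker b) ⊓ (LinearMap.range b ⊓ LinearMap.ker a) = ⊥ := by
      rw [eq_bot_iff, ← hdis]; exact fun x hx => ⟨hx.1.1, hx.2.1⟩
    have s1 := Submodule.finrank_sup_add_finrank_inf_eq (LinearMap.range a ⊓ LinearMap.ker b) (LinearMap.range b ⊓ LinearMap.ker a)
    rw [hdd, finrank_bot, ← hR] at s1
    have s2 := Submodule.finrank_mono la
    have s3 := Submodule.finrank_mono lb
    have pa : 0 < rk (a * b) := Nat.pos_of_ne_zero fun e => h1 (LinearMap.range_eq_bot.1 (Submodule.finrank_eq_zero.1 e))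
    have pb : 0 < rk (b * a) := Nat.pos_of_ne_zero fun e => h2 (LinearMap.range_eq_bot.1 (Submodule.finrank_eq_zero.1 e))
    simp only [rk] at *
    omega
  have cross1 : b * a * d * γ * d * (a * b) = 0 := by
    rcases eq_or_ne (a * b) 0 with h1 | h1
    · rw [h1, mul_zero]
    rcases eq_or_ne (b * a) 0 with h2 | h2
    · rw [h2]; simp
    refine neg_eq_zero.1 (hδm.zero_of_lt hQm.1 (lt_of_le_of_lt (Submodule.finrank_mono ?_) (hsmall h1 h2).1))
    rintro _ ⟨m, rfl⟩
    exact ⟨-((d * γ * (d * (a * b))) m), by simp [hQ, mul_assoc]⟩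
  have hγδ : δ * d * γ * d * δ = γ := by
    rw [← he1, e1γ, mul_assoc, ← he2, γe2]
  have cross2 : a * b * d * γ * d * (b * a) = 0 := by
    rcases eq_or_ne (a * b) 0 with h1 | h1
    · rw [h1]; simp
    rcases eq_or_ne (b * a) 0 with h2 | h2
    · rw [h2]; simp
    have hrest : γ - L + Q ∈ opSpace hδm.toAdm := by
      refine add_mem (sub_mem hγ ?_) hQm
      have := sub_mem (sub_mem (hXc (-1) (by simp)) hγ) ((opSpace hδm.toAdm).smul_mem (4 : k) hQm)
      have e : γ + ((-1 : k) - 1) • L + (((-1 : k) - 1) * ((-1 : k) - 1)) • Q - γ - (4 : k) • Q = (-2 : k) • L := by module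
      rw [e] at this
      simpa [smul_smul, two_ne C.S.two] using (opSpace hδm.toAdm).smul_mem (-2 : k)⁻¹ this
    have e : γ - L + Q = -(a * b * d * γ * d * (b * a)) := by
      have hba : b * a = δ + a * b := by rw [hδ]; abel
      have k1 : δ * d * γ * d * (a * b) = γ * d * (a * b) := by rw [← he1, e1γ]
      have k2 : a * b * d * γ * d * δ = a * b * d * γ := by rw [mul_assoc _ d δ, ← he2, mul_assoc _ γ e2, γe2]
      have k3 : δ * d * γ = γ := by rw [← he1, e1γ]
      rw [hQ, hL, hba]
      simp only [add_mul, mul_add, k1, k2, k3]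
      abel
    refine neg_eq_zero.1 ?_
    rw [← e]
    refine hδm.zero_of_lt hrest.1 (lt_of_le_of_lt (Submodule.finrank_mono ?_) (hsmall h1 h2).2)
    rw [e]
    rintro _ ⟨m, rfl⟩
    exact ⟨-((d * γ * (d * (b * a))) m), by simp [mul_assoc]⟩
  -- the two halves of the preimage
  have hBA' : B * A = b * a := hBA
  have hexp : γ = b * a * d * γ * d * (b * a) + a * b * d * γ * d * (a * b) := by
    conv_lhs => rw [← hγδ]
    rw [hδ]
    simp only [sub_mul, mul_sub, cross1, cross2]
    abel
  have hX : γ * d * A = -(a * b * d * γ * d * A) := by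
    have e1 : b * a * d * γ * d * A = 0 := by
      have : b * a * d * γ * d = b * a * d * γ * d * (b * a) * d := by
        calc _ = b * a * d * γ * (d * δ * d) := by rw [C.opp.right]
          _ = b * a * d * γ * d * (b * a) * d - b * a * d * γ * d * (a * b) * d := by
              rw [hδ]; simp only [sub_mul, mul_sub, mul_assoc]
          _ = _ := by rw [cross1]; simp
      rw [this, mul_assoc _ d A, mul_assoc _ (b * a) (d * A), ← hBA', mul_assoc B A (d * A), ← mul_assoc A d A, hAdA]
      simp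
    conv_lhs => rw [← e1γ, he1, hδ]
    simp only [sub_mul]
    rw [e1]
    abel
  have hY : A * d * γ = A * d * γ * d * (b * a) := by
    have e2' : A * d * γ * d * (a * b) = 0 := by
      have : d * γ * d * (a * b) = d * (a * b) * d * γ * d * (a * b) * (-1) := by
        calc _ = d * δ * d * γ * d * (a * b) := by rw [C.opp.right]
          _ = _ := by
            rw [hδ]
            simp only [mul_sub, sub_mul, mul_assoc] at cross1 ⊢
            rw [cross1]
            simp
      rw [mul_assoc A, mul_assoc A, mul_assoc A, this, ← hAB, ← mul_assoc A, ← mul_assoc A, ← mul_assoc A,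
        ← mul_assoc A, ← mul_assoc A, ← mul_assoc A, ← mul_assoc (A * d) A B, hAdA]
      simp
    conv_lhs => rw [← γe2, he2, hδ]
    simp only [mul_sub, ← mul_assoc] at e2' ⊢
    rw [e2']
    simp
  have hzero : A * d * γ * d * A = 0 := by
    calc _ = A * d * (γ * d * A) := by simp only [mul_assoc]
      _ = -((A * d * A) * (B * d * γ * d * A)) := by rw [hX, ← hAB]; simp only [mul_neg, mul_assoc]
      _ = 0 := by rw [hAdA]; simp
  have hxA : Adm G (γ * d * A + A * d * γ) := by
    have m1 : γ * (d * A - A * d) * γ = 0 := by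
      simp only [mul_sub, sub_mul, mul_assoc, Aγ, mul_zero, zero_sub]
      rw [← mul_assoc γ A, γA]; simp
    have m2 : (d * A - A * d) * γ * (d * A - A * d) = 0 := by
      have : (d * A - A * d) * γ = -(A * d * γ) := by rw [sub_mul, mul_assoc d A γ, Aγ]; simp
      rw [this, mul_sub]
      simp only [neg_mul]
      rw [← mul_assoc (A * d * γ) d A, hzero, ← mul_assoc (A * d * γ) A d, mul_assoc (A * d) γ A, γA]
      simp
    have hbr : Adm G (d * A - A * d) := adm_bracket hA.toAdm C.hd.toAdm hAdA hdAd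
    have := (adm_bracket hγ.1 hbr m1 m2).smul (-1)
    have e : (-1 : k) • ((d * A - A * d) * γ - γ * (d * A - A * d)) = γ * d * A + A * d * γ := by
      rw [neg_one_smul, sub_mul, mul_sub, mul_assoc d A γ, Aγ, ← mul_assoc γ A d, γA]
      simp [mul_assoc, add_comm]
    rwa [e] at this
  refine ⟨γ * d * A + A * d * γ, ⟨hxA, ?_, fun m hm => ?_⟩, ?_⟩
  · rintro _ ⟨m, rfl⟩
    rw [hX, ← hAB, LinearMap.add_apply, LinearMap.neg_apply]
    refine add_mem (neg_mem ?_) ?_
    · exact ⟨B (d (γ (d (A m)))), rfl⟩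
    · exact ⟨d (γ m), rfl⟩
  · rw [hY, ← hBA']
    have h0 : A m = 0 := LinearMap.mem_ker.1 hm
    show γ (d (A m)) + A (d (γ (d (B (A m))))) = 0
    simp [h0]
  · have f1 : b * (γ * d * A) = 0 := by
      rw [hX, mul_neg]
      simp only [← mul_assoc]
      rw [C.bab]; simp
    have f2 : b * (A * d * γ) = b * a * d * γ := by simp only [← mul_assoc]; rw [hbA]
    have f3 : γ * d * A * b = γ * d * (a * b) := by rw [mul_assoc, hAb]
    have f4 : A * d * γ * b = 0 := by
      rw [mul_assoc _ γ b, eq_zero_right hγk r4, mul_zero]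
    rw [mul_add, add_mul, f1, f2, f3, f4, zero_add, add_zero]
    have g1 : b * a * d * γ = b * a * d * γ * d * (b * a) := by
      conv_lhs => rw [← γe2, he2, hδ]
      simp only [mul_sub, ← mul_assoc] at cross1 ⊢
      rw [cross1]; simp
    have g2 : γ * d * (a * b) = -(a * b * d * γ * d * (a * b)) := by
      conv_lhs => rw [← e1γ, he1, hδ]
      simp only [sub_mul]
      rw [cross1]; simp
    rw [g1, g2, sub_neg_eq_add, ← hexp]

/-- Every element of the space of the bracket is a bracket with `b`. -/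
theorem surjective {γ : Module.End k M} (hγ : γ ∈ opSpace C.spaces.1.toAdm) :
    ∃ x ∈ opSpace C.ha.toAdm, b * x - x * b = γ := by
  obtain ⟨h12, hA, -, -⟩ := C.graded
  obtain ⟨h12', hB, -, -⟩ := C.swap.graded
  obtain ⟨r1, r2, r3, r4⟩ := C.annihil
  set δ := b * a - a * b with hδ
  set a12 := δ * d * a * (d * δ) with ha12
  set A := grade a b d with hAdef
  set B := grade b a (-d) with hBdef
  have hneg : a * b - b * a = -δ := by rw [hδ]; abel
  have hm12 : -a12 ∈ opSpace C.swap.spaces.1.toAdm := by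
    have h := (opSpace C.spaces.1.toAdm).neg_mem h12
    refine ⟨h.1, h.2.1.trans ?_, le_trans ?_ h.2.2⟩
    · rintro _ ⟨m, rfl⟩; exact ⟨-m, by rw [hneg, LinearMap.neg_apply, map_neg, neg_neg]⟩
    · intro m hm; rw [LinearMap.mem_ker, hneg, LinearMap.neg_apply, neg_eq_zero] at hm; exact LinearMap.mem_ker.2 hm
  obtain ⟨y, hy, hay⟩ := C.swap.core hm12
  obtain ⟨x, hx, hbx⟩ := C.core hγ
  obtain ⟨hbA, hAb, hBA, hAB, hδA, hAδ⟩ := C.prods
  obtain ⟨haB, hBa, -, -, hδB, hBδ⟩ := C.swap.prods
  rw [hneg, neg_mul, neg_eq_zero] at hδB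
  rw [hneg, mul_neg, neg_eq_zero] at hBδ
  have yδ : y * δ = 0 := eq_zero_right hy.2.2 hBδ
  have δy : δ * y = 0 := eq_zero_left hy.2.1 hδB
  have xδ : x * δ = 0 := eq_zero_right hx.2.2 hAδ
  have δx : δ * x = 0 := eq_zero_left hx.2.1 hδA
  have hABA : A * B * A = 0 := by
    rw [hAB, hAdef, grade, mul_sub, C.aba, ← hδ]
    simp [mul_assoc, ← mul_assoc b δ, r3]
  have hBAB : B * A * B = 0 := bab_eq_zero C.S hA hB hABA
  have t1 : y * A * y = 0 := triple_zero C.S hB hA hBAB hy (self_mem_opSpace _) hy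
  have t2 : y * x * y = 0 := triple_zero C.S hB hA hBAB hy hx hy
  have t3 : B * x * y = 0 := triple_zero C.S hB hA hBAB (self_mem_opSpace _) hx hy
  have t4 : y * x * B = 0 := triple_zero C.S hB hA hBAB hy hx (self_mem_opSpace _)
  have t5 : B * y = 0 := eq_zero_left hy.2.1 hB.sq
  have t6 : y * B = 0 := eq_zero_right hy.2.2 hB.sq
  have hb : b = B + δ * d * b * (d * δ) := by rw [hBdef, grade_swap, ← hδ]; abel
  have ha : a = A + a12 := by rw [hAdef, grade, ← hδ, ha12]; abel
  have hyA : y * A - A * y = a12 := by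
    have : a * y - y * a = -a12 := hay
    rw [ha, add_mul, mul_add, ha12] at this
    simp [mul_assoc, δy, ← mul_assoc y δ, yδ] at this
    rw [ha12]
    simp only [mul_assoc]
    linear_combination (norm := abel) -this
  set g := ex hy.1.sq (1 : k)
  have hg : g ∈ G := hy.1.ex_mem 1
  have hga : (g : Module.End k M) * A * ((g⁻¹ : LinearMap.GeneralLinearGroup k M) : Module.End k M) = a := by
    rw [conj_ex, one_smul, mul_one, one_smul, hyA, t1, sub_zero, ← ha]
  refine ⟨(g : Module.End k M) * x * ((g⁻¹ : LinearMap.GeneralLinearGroup k M) : Module.End k M),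
    ⟨hx.1.conj hg, ?_, fun m hm => ?_⟩, ?_⟩
  · rintro _ ⟨m, rfl⟩
    obtain ⟨v, hv⟩ := hx.2.1 ⟨((g⁻¹ : LinearMap.GeneralLinearGroup k M) : Module.End k M) m, rfl⟩
    refine ⟨(g : Module.End k M) v, ?_⟩
    rw [← hga]
    show (g : Module.End k M) (A (((g⁻¹ : LinearMap.GeneralLinearGroup k M) : Module.End k M) ((g : Module.End k M) v))) = _
    rw [← Module.End.mul_apply _ (g : Module.End k M) v, Units.inv_mul, Module.End.one_apply, hv]
    rfl
  · have hA0 : A (((g⁻¹ : LinearMap.GeneralLinearGroup k M) : Module.End k M) m) = 0 := by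
      have : (g : Module.End k M) (A (((g⁻¹ : LinearMap.GeneralLinearGroup k M) : Module.End k M) m)) = 0 := by
        rw [← hga] at hm; exact hm
      have h' := congrArg ((g⁻¹ : LinearMap.GeneralLinearGroup k M) : Module.End k M) this
      rwa [← Module.End.mul_apply, Units.inv_mul, Module.End.one_apply, map_zero] at h'
    show (g : Module.End k M) (x _) = 0
    rw [LinearMap.mem_ker.1 (hx.2.2 (LinearMap.mem_ker.2 hA0)), map_zero]
  · have bY : b * y = 0 := by rw [hb, add_mul, t5]; simp [mul_assoc, δy]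
    have yb : y * b = 0 := by rw [hb, mul_add, t6]; simp [← mul_assoc y δ, mul_assoc, ← mul_assoc, yδ]
    have bxy : b * x * y = 0 := by rw [hb, add_mul, add_mul, t3]; simp [mul_assoc, ← mul_assoc δ x, δx]
    have yxb : y * x * b = 0 := by rw [hb, mul_add, t4]; simp [← mul_assoc, mul_assoc y x δ, xδ]
    rw [conj_ex, one_smul, mul_one, one_smul, t2, sub_zero, ← hbx]
    simp only [mul_add, add_mul, mul_sub, sub_mul, ← mul_assoc]
    rw [bY, bxy, yxb, mul_assoc x y b, yb]
    simp

end Class2

end Cfsg.Agent.QuadraticPair
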