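import Cfsg.Agent.Lib.QuadraticPair.Generic

/-!
# Elementary facts on words in the two unitriangular families
-/

set_option linter.all false
set_option autoImplicit false

namespace Cfsg.Agent.QuadraticPair.Generic

open Polynomial Matrix

variable {k : Type*} [Field k] {R : Type*} [CommRing R] [Algebra k R]

theorem up_add (a b : R) : up (a + b) = up a * up b := by
  ext i j; fin_cases i <;> fin_cases j <;> simp [Matrix.mul_apply, Fin.sum_univ_two, add_comm]

theorem low_add (a b : R) : low (a + b) = low a * low b := by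
  ext i j; fin_cases i <;> fin_cases j <;> simp [Matrix.mul_apply, Fin.sum_univ_two, add_comm]

@[simp] theorem up_zero : up (0 : R) = 1 := by
  ext i j; fin_cases i <;> fin_cases j <;> simp

@[simp] theorem low_zero : low (0 : R) = 1 := by
  ext i j; fin_cases i <;> fin_cases j <;> simp

theorem up_neg (a : R) : up (-a) = (up a)⁻¹ :=
  eq_inv_of_mul_eq_one_left (by rw [← up_add, neg_add_cancel, up_zero])

theorem low_neg (a : R) : low (-a) = (low a)⁻¹ :=
  eq_inv_of_mul_eq_one_left (by rw [← low_add, neg_add_cancel, low_zero])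

theorem up_nsmul (m : ℕ) (a : R) : up (m • a) = up a ^ m := by
  induction m with
  | zero => simp
  | succ m ih => rw [succ_nsmul, up_add, ih, pow_succ]

theorem low_nsmul (m : ℕ) (a : R) : low (m • a) = low a ^ m := by
  induction m with
  | zero => simp
  | succ m ih => rw [succ_nsmul, low_add, ih, pow_succ]

/-- The upper entries of a subgroup. -/
def upSet (H : Subgroup (Matrix.SpecialLinearGroup (Fin 2) R)) : AddSubgroup R where
  carrier := {a | up a ∈ H}
  zero_mem' := by simp
  add_mem' {a b} ha hb := by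
    show up (a + b) ∈ H
    rw [up_add]; exact mul_mem ha hb
  neg_mem' {a} ha := by
    show up (-a) ∈ H
    rw [up_neg]; exact inv_mem ha

theorem mem_upSet {H : Subgroup (Matrix.SpecialLinearGroup (Fin 2) R)} {a : R} : a ∈ upSet H ↔ up a ∈ H :=
  Iff.rfl

theorem two_isUnit (h2 : (2 : k) ≠ 0) : IsUnit (2 : R) := by
  have := (isUnit_iff_ne_zero.2 h2).map (algebraMap k R)
  rwa [map_ofNat] at this

theorem exists_sq_ne_one (h2 : (2 : k) ≠ 0) (h3 : Nat.card k ≠ 3) : ∃ c : k, c ≠ 0 ∧ c * c ≠ 1 := by
  classical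
  by_contra h
  push Not at h
  have hsub : ∀ c : k, c ∈ ({0, 1, -1} : Finset k) := fun c => by
    rcases eq_or_ne c 0 with rfl | hc
    · simp
    · rcases mul_self_eq_one_iff.1 (h c hc) with rfl | rfl <;> simp
  haveI : Fintype k := ⟨{0, 1, -1}, hsub⟩
  refine h3 ?_
  rw [Nat.card_eq_fintype_card, ← Finset.card_univ, show (Finset.univ : Finset k) = {0, 1, -1} from
    (Finset.eq_univ_of_forall hsub).symm]
  have h11 : (1 : k) ≠ -1 := fun e => h2 (by linear_combination e)
  rw [Finset.card_insert_of_notMem, Finset.card_insert_of_notMem, Finset.card_singleton]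
  · simpa using h11
  · simp

/-- The Weyl element. -/
def wel : Matrix.SpecialLinearGroup (Fin 2) R := up 1 * low (-1) * up 1

theorem coe_wel : ((wel : Matrix.SpecialLinearGroup (Fin 2) R) : Matrix (Fin 2) (Fin 2) R) = !![0, 1; -1, 0] := by
  ext i j; fin_cases i <;> fin_cases j <;> simp [wel, Matrix.mul_apply, Fin.sum_univ_two]

theorem conj_wel_up (a : R) : wel * up a * wel⁻¹ = low (-a) := by
  rw [mul_inv_eq_iff_eq_mul]
  ext i j; fin_cases i <;> fin_cases j <;> simp [coe_wel, Matrix.mul_apply, Fin.sum_univ_two]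

theorem conj_wel_low (a : R) : wel * low a * wel⁻¹ = up (-a) := by
  rw [mul_inv_eq_iff_eq_mul]
  ext i j; fin_cases i <;> fin_cases j <;> simp [coe_wel, Matrix.mul_apply, Fin.sum_univ_two]

/-- The underlying map of `swapHom`. -/
def swapFun (t : Rˣ) (g : Matrix.SpecialLinearGroup (Fin 2) R) : Matrix.SpecialLinearGroup (Fin 2) R :=
  ⟨!![g 1 1, -(g 1 0 * ((t⁻¹ : Rˣ) : R)); -(g 0 1 * (t : R)), g 0 0], by
    have hd := g.det_coe
    rw [Matrix.det_fin_two] at hd
    rw [Matrix.det_fin_two_of]
    linear_combination hd - g 1 0 * g 0 1 * t.inv_mul⟩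

@[simp] theorem coe_swapFun (t : Rˣ) (g : Matrix.SpecialLinearGroup (Fin 2) R) :
    (swapFun t g : Matrix (Fin 2) (Fin 2) R) =
      !![g 1 1, -(g 1 0 * ((t⁻¹ : Rˣ) : R)); -(g 0 1 * (t : R)), g 0 0] := rfl

/-- The automorphism exchanging the two families, for a unit `t`. -/
def swapHom (t : Rˣ) : Matrix.SpecialLinearGroup (Fin 2) R →* Matrix.SpecialLinearGroup (Fin 2) R where
  toFun := swapFun t
  map_one' := by ext i j; fin_cases i <;> fin_cases j <;> simp
  map_mul' g h := by
    ext i j
    fin_cases i <;> fin_cases j <;> simp [Matrix.mul_apply, Fin.sum_univ_two]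
    · linear_combination -(g 1 0 * h 0 1) * t.inv_mul
    · ring
    · ring
    · linear_combination -(g 0 1 * h 1 0) * t.inv_mul

theorem swapHom_up (t : Rˣ) (a : R) : swapHom t (up a) = low (-(a * (t : R))) := by
  show swapFun t (up a) = _
  ext i j; fin_cases i <;> fin_cases j <;> simp

theorem swapHom_low (t : Rˣ) (a : R) : swapHom t (low a) = up (-(a * ((t⁻¹ : Rˣ) : R))) := by
  show swapFun t (low a) = _
  ext i j; fin_cases i <;> fin_cases j <;> simp

theorem swap_words {x : R} (t : Rˣ) (ht : (t : R) = x) {g : Matrix.SpecialLinearGroup (Fin 2) R}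
    (hg : g ∈ words k x) : swapHom t g ∈ words k x := by
  have : (words k x).map (swapHom t) ≤ words k x := by
    rw [words, MonoidHom.map_closure, Subgroup.closure_le]
    rintro _ ⟨g, hg, rfl⟩
    rcases hg with ⟨c, rfl⟩ | ⟨c, rfl⟩
    · show swapHom t (up (algebraMap k R c)) ∈ words k x
      rw [swapHom_up, ht, ← neg_mul, ← map_neg]; exact low_mem x (-c)
    · show swapHom t (low (algebraMap k R c * x)) ∈ words k x
      rw [swapHom_low, mul_assoc, ← ht, Units.mul_inv, mul_one, ← map_neg]; exact up_mem _ (-c)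
  exact this ⟨g, hg, rfl⟩

/-- All lower unitriangular matrices follow from all upper ones. -/
theorem low_of_up {x : R} (hx : IsUnit x) (h : ∀ r : R, up r ∈ words k x) (r : R) : low r ∈ words k x := by
  obtain ⟨t, ht⟩ := hx
  have := swap_words t ht (h (-(r * ((t⁻¹ : Rˣ) : R))))
  rwa [swapHom_up, neg_mul, mul_assoc, Units.inv_mul, mul_one, neg_neg] at this

theorem map_up {S : Type*} [CommRing S] (f : R →+* S) (a : R) :
    Matrix.SpecialLinearGroup.map f (up a) = up (f a) := by
  ext i j; fin_cases i <;> fin_cases j <;> simp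

theorem map_low {S : Type*} [CommRing S] (f : R →+* S) (a : R) :
    Matrix.SpecialLinearGroup.map f (low a) = low (f a) := by
  ext i j; fin_cases i <;> fin_cases j <;> simp

theorem map_words {S : Type*} [CommRing S] [Algebra k S] (f : R →ₐ[k] S) (x : R) :
    (words k x).map (Matrix.SpecialLinearGroup.map (f : R →+* S)) = words k (f x) := by
  rw [words, words, MonoidHom.map_closure, Set.image_union, ← Set.range_comp, ← Set.range_comp]
  congr 3
  all_goals funext c
  all_goals simp [Function.comp_def, map_up, map_low]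

theorem surj_comp {S : Type*} [CommRing S] [Algebra k S] (f : R →ₐ[k] S) (hf : Function.Surjective f)
    {x : R} (hgen : Function.Surjective (aeval x : k[X] → R)) : Function.Surjective (aeval (f x) : k[X] → S) := by
  intro s
  obtain ⟨r, rfl⟩ := hf s
  obtain ⟨q, rfl⟩ := hgen r
  exact ⟨q, aeval_algHom_apply f x q⟩

/-- All upper matrices, over an infinite field. -/
theorem up_all_infinite [Infinite k] [Nontrivial R] [FiniteDimensional k R] {x : R} (hx : IsUnit x)
    (h2 : (2 : k) ≠ 0) (hgen : Function.Surjective (aeval x : k[X] → R)) (y : R) : up y ∈ words k x := by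
  let A : Submodule k R :=
    { carrier := {a | ∀ c : k, up (algebraMap k R c * a) ∈ words k x}
      zero_mem' := fun c => by simp
      add_mem' := fun {a b} ha hb c => by rw [mul_add, up_add]; exact mul_mem (ha c) (hb c)
      smul_mem' := fun r a ha c => by
        rw [Algebra.smul_def, ← mul_assoc, ← map_mul]; exact ha _ }
  have hle : Submodule.span k {r : R | ∃ g ∈ words k x, (g : Matrix (Fin 2) (Fin 2) R) 1 0 = 0 ∧
      r = (g : Matrix (Fin 2) (Fin 2) R) 0 0 * (g : Matrix (Fin 2) (Fin 2) R) 0 0} ≤ A := by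
    rw [Submodule.span_le]
    rintro r ⟨g, hg, g10, rfl⟩ c
    have h := mul_mem (mul_mem hg (up_mem x c)) (inv_mem hg)
    have hd := g.det_coe
    rw [Matrix.det_fin_two, g10, mul_zero, sub_zero] at hd
    have e : g * up (algebraMap k R c) * g⁻¹ = up (algebraMap k R c * (g 0 0 * g 0 0)) := by
      rw [mul_inv_eq_iff_eq_mul]
      ext i j
      fin_cases i <;> fin_cases j <;> simp [Matrix.mul_apply, Fin.sum_univ_two, g10]
      linear_combination -(algebraMap k R c * g 0 0) * hd
    rwa [e] at h
  have := hle (mem_span_squares hx h2 hgen y) 1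
  rwa [map_one, one_mul] at this

end Cfsg.Agent.QuadraticPair.Generic
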